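import Mathlib.LinearAlgebra.Dimension.RankNullity
import Mathlib.LinearAlgebra.Dimension.DivisionRing
import Mathlib.Algebra.Exact.Basic
import Mathlib.LinearAlgebra.FiniteDimensional.Lemmas
import Mathlib.LinearAlgebra.FiniteDimensional.Basic

/-!
# Dimension count for exact sequences `V₁ → V₂ → V₃`
-/

set_option autoImplicit false

universe u

namespace K905.ExactFin

variable {k : Type*} [Field k] {V₁ V₂ V₃ : Type*} [AddCommGroup V₁] [Module k V₁] [AddCommGroup V₂] [Module k V₂]
  [AddCommGroup V₃] [Module k V₃] (f : V₁ →ₗ[k] V₂) (g : V₂ →ₗ[k] V₃)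

include f g in
theorem finite_mid (h : ∀ x, g x = 0 → ∃ y, f y = x) [Module.Finite k V₁] [Module.Finite k V₃] :
    Module.Finite k V₂ := by
  have h1 : Module.Finite k (LinearMap.ker g) := by
    have : LinearMap.ker g ≤ LinearMap.range f := fun x hx => h x hx
    exact Submodule.finiteDimensional_of_le this
  have h2 : Module.Finite k (LinearMap.range g) := inferInstance
  have h3 : Module.Finite k (V₂ ⧸ LinearMap.ker g) := Module.Finite.equiv g.quotKerEquivRange.symm
  exact Module.Finite.of_submodule_quotient (LinearMap.ker g)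

theorem finrank_mid (h0 : ∀ x, g (f x) = 0) (h : ∀ x, g x = 0 → ∃ y, f y = x)
    [Module.Finite k V₁] [Module.Finite k V₃] :
    Module.finrank k V₂ + Module.finrank k (LinearMap.ker f) + Module.finrank k (V₃ ⧸ LinearMap.range g) =
      Module.finrank k V₁ + Module.finrank k V₃ := by
  have := finite_mid f g h
  have e : LinearMap.range f = LinearMap.ker g := by
    apply le_antisymm
    · rintro _ ⟨x, rfl⟩
      exact h0 x
    · exact fun x hx => h x hx
  have h1 := LinearMap.finrank_range_add_finrank_ker f
  have h2 := LinearMap.finrank_range_add_finrank_ker g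
  have h3 := Submodule.finrank_quotient_add_finrank (LinearMap.range g)
  rw [e] at h1
  omega

theorem finrank_mid_le (h0 : ∀ x, g (f x) = 0) (h : ∀ x, g x = 0 → ∃ y, f y = x)
    [Module.Finite k V₁] [Module.Finite k V₃] :
    Module.finrank k V₂ ≤ Module.finrank k V₁ + Module.finrank k V₃ := by
  have := finrank_mid f g h0 h
  omega

theorem finrank_mid_eq_iff (h0 : ∀ x, g (f x) = 0) (h : ∀ x, g x = 0 → ∃ y, f y = x)
    [Module.Finite k V₁] [Module.Finite k V₃] :
    Module.finrank k V₂ = Module.finrank k V₁ + Module.finrank k V₃ ↔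
      Function.Injective f ∧ Function.Surjective g := by
  have h1 := finrank_mid f g h0 h
  rw [← LinearMap.ker_eq_bot, ← LinearMap.range_eq_top]
  constructor
  · intro e
    have h2 : Module.finrank k (LinearMap.ker f) = 0 := by omega
    have h3 : Module.finrank k (V₃ ⧸ LinearMap.range g) = 0 := by omega
    refine ⟨Submodule.finrank_eq_zero.1 h2, ?_⟩
    have h4 := Submodule.finrank_quotient_add_finrank (LinearMap.range g)
    exact Submodule.eq_top_of_finrank_eq (by omega)
  · rintro ⟨e1, e2⟩
    rw [e1, e2] at h1
    have h2 : Module.finrank k (⊥ : Submodule k V₁) = 0 := finrank_bot k V₁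
    have h3 : Module.finrank k (V₃ ⧸ (⊤ : Submodule k V₃)) = 0 := Module.finrank_zero_of_subsingleton
    omega

end K905.ExactFin
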