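import Groth.Prelude.Def_KLinDR
import Mathlib.Algebra.Homology.HomologicalComplexAbelian

/-!
# The stupid filtration: short exact sequences and naturality
-/

set_option autoImplicit false

universe w v u u'

open CategoryTheory CategoryTheory.Limits E1Deg

namespace K905.Sigma

section Zero

variable {C : Type u} [Category.{v} C] [HasZeroMorphisms C] [HasZeroObject C]
  {K L M : CochainComplex C ℤ}

theorem emb_exists_iff (i m : ℤ) : (∃ n : ℕ, (emb i).f n = m) ↔ i ≤ m := by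
  simp only [ComplexShape.embeddingUpIntGE_f]
  constructor
  · rintro ⟨n, rfl⟩; omega
  · intro h; exact ⟨(m - i).toNat, by omega⟩

theorem isZero_sigmaGE (K : CochainComplex C ℤ) (i m : ℤ) (h : m < i) : IsZero ((sigmaGE K i).X m) := by
  refine K.isZero_stupidTrunc_X (emb i) m fun n hn => ?_
  have := (emb_exists_iff i m).1 ⟨n, hn⟩
  omega

/-- functoriality of the stupid filtration -/
noncomputable def sigmaMap (φ : K ⟶ L) (i : ℤ) : sigmaGE K i ⟶ sigmaGE L i :=
  HomologicalComplex.stupidTruncMap φ (emb i)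

theorem sigmaMap_f (φ : K ⟶ L) (i : ℤ) {m : ℤ} {n : ℕ} (h : (emb i).f n = m) :
    (sigmaMap φ i).f m ≫ (L.stupidTruncXIso (emb i) h).hom = (K.stupidTruncXIso (emb i) h).hom ≫ φ.f m :=
  HomologicalComplex.stupidTruncMap_stupidTruncXIso_hom φ (emb i) h

theorem sigmaMap_f_eq (φ : K ⟶ L) (i : ℤ) {m : ℤ} {n : ℕ} (h : (emb i).f n = m) :
    (sigmaMap φ i).f m = (K.stupidTruncXIso (emb i) h).hom ≫ φ.f m ≫ (L.stupidTruncXIso (emb i) h).inv := by
  rw [← Category.assoc, Iso.eq_comp_inv, sigmaMap_f]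

theorem sigmaMap_id (i : ℤ) : sigmaMap (𝟙 K) i = 𝟙 _ := HomologicalComplex.stupidTruncMap_id K (emb i)

theorem sigmaMap_comp (φ : K ⟶ L) (ψ : L ⟶ M) (i : ℤ) : sigmaMap (φ ≫ ψ) i = sigmaMap φ i ≫ sigmaMap ψ i :=
  HomologicalComplex.stupidTruncMap_comp φ ψ (emb i)

theorem sigmaMap_ι (φ : K ⟶ L) (i : ℤ) : sigmaMap φ i ≫ sigmaGEι L i = sigmaGEι K i ≫ φ := by
  ext m
  by_cases hm : ∃ n : ℕ, (emb i).f n = m
  · obtain ⟨n, hn⟩ := hm
    rw [HomologicalComplex.comp_f, HomologicalComplex.comp_f, sigmaGEι_f_eq L i hn, sigmaGEι_f_eq K i hn, sigmaMap_f]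
  · exact (K.isZero_stupidTrunc_X (emb i) m (by simpa using hm)).eq_of_src _ _

theorem sigmaMap_ιSucc (φ : K ⟶ L) (i : ℤ) :
    sigmaMap φ (i + 1) ≫ sigmaGEιSucc L i = sigmaGEιSucc K i ≫ sigmaMap φ i := by
  ext m
  by_cases hm : ∃ n : ℕ, (emb (i + 1)).f n = m
  · obtain ⟨n, hn⟩ := hm
    rw [HomologicalComplex.comp_f, HomologicalComplex.comp_f, sigmaGEιSucc_f_eq L i hn, sigmaGEιSucc_f_eq K i hn,
      sigmaMap_f_eq φ (i + 1) hn, sigmaMap_f_eq φ i (emb_f_succ i hn)]
    simp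
  · exact (K.isZero_stupidTrunc_X (emb (i + 1)) m (by simpa using hm)).eq_of_src _ _

theorem sigmaMap_π (φ : K ⟶ L) (i : ℤ) :
    sigmaMap φ i ≫ sigmaGEπ L i =
      sigmaGEπ K i ≫ (HomologicalComplex.single C (ComplexShape.up ℤ) i).map (φ.f i) := by
  refine HomologicalComplex.to_single_hom_ext ?_
  rw [HomologicalComplex.comp_f, HomologicalComplex.comp_f, sigmaGEπ_f, sigmaGEπ_f,
    HomologicalComplex.single_map_f_self, ← Category.assoc, sigmaMap_f φ i (emb_f_zero i)]
  simp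

theorem ιSucc_π (i : ℤ) : sigmaGEιSucc K i ≫ sigmaGEπ K i = 0 := by
  refine HomologicalComplex.to_single_hom_ext ?_
  exact (isZero_sigmaGE K (i + 1) i (by omega)).eq_of_src _ _

/-- The short complex `σ_{≥ i+1} K → σ_{≥ i} K → K^i[-i]`. -/
noncomputable abbrev sc (K : CochainComplex C ℤ) (i : ℤ) : ShortComplex (CochainComplex C ℤ) :=
  ShortComplex.mk (sigmaGEιSucc K i) (sigmaGEπ K i) (ιSucc_π i)

/-- `sc` is functorial. -/
noncomputable def scMap (φ : K ⟶ L) (i : ℤ) : sc K i ⟶ sc L i where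
  τ₁ := sigmaMap φ (i + 1)
  τ₂ := sigmaMap φ i
  τ₃ := (HomologicalComplex.single C (ComplexShape.up ℤ) i).map (φ.f i)
  comm₁₂ := sigmaMap_ιSucc φ i
  comm₂₃ := sigmaMap_π φ i

theorem isIso_ιSucc_f (K : CochainComplex C ℤ) (i m : ℤ) (h : i + 1 ≤ m) : IsIso ((sigmaGEιSucc K i).f m) := by
  obtain ⟨n, hn⟩ := (emb_exists_iff (i + 1) m).2 h
  rw [sigmaGEιSucc_f_eq K i hn]
  infer_instance

theorem isIso_π_f (K : CochainComplex C ℤ) (i : ℤ) : IsIso ((sigmaGEπ K i).f i) := by
  rw [sigmaGEπ_f]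
  infer_instance

end Zero

section Ab

variable {A : Type u} [Category.{v} A] [Abelian A]

theorem shortExact_of_isIso_left {S : ShortComplex A} (h1 : IsIso S.f) (h3 : IsZero S.X₃) : S.ShortExact := by
  have h4 : S.g = 0 := h3.eq_of_tgt _ _
  have : Epi S.g := h3.epi _
  exact { exact := (S.exact_iff_epi h4).2 inferInstance }

theorem shortExact_of_isIso_right {S : ShortComplex A} (h1 : IsIso S.g) (h3 : IsZero S.X₁) : S.ShortExact := by
  have h4 : S.f = 0 := h3.eq_of_src _ _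
  have : Mono S.f := h3.mono _
  exact { exact := (S.exact_iff_mono h4).2 inferInstance }

theorem sc_shortExact (K : CochainComplex A ℤ) (i : ℤ) : (sc K i).ShortExact := by
  apply HomologicalComplex.shortExact_of_degreewise_shortExact
  intro m
  rcases lt_trichotomy m i with hm | rfl | hm
  · refine shortExact_of_isIso_left (S := (sc K i).map (HomologicalComplex.eval A (ComplexShape.up ℤ) m)) ?_ ?_
    · have h1 := isZero_sigmaGE K (i + 1) m (by omega)
      have h2 := isZero_sigmaGE K i m (by omega)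
      exact ⟨0, h1.eq_of_src _ _, h2.eq_of_src _ _⟩
    · exact HomologicalComplex.isZero_single_obj_X (ComplexShape.up ℤ) _ _ _ (by omega)
  · refine shortExact_of_isIso_right (S := (sc K m).map (HomologicalComplex.eval A (ComplexShape.up ℤ) m)) ?_ ?_
    · exact isIso_π_f K m
    · exact isZero_sigmaGE K (m + 1) m (by omega)
  · refine shortExact_of_isIso_left (S := (sc K i).map (HomologicalComplex.eval A (ComplexShape.up ℤ) m)) ?_ ?_
    · exact isIso_ιSucc_f K i m (by omega)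
    · exact HomologicalComplex.isZero_single_obj_X (ComplexShape.up ℤ) _ _ _ (by omega)

end Ab

end K905.Sigma
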