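import Groth.Agent.DelIll.K905.HTExact
import Groth.Agent.DelIll.K905.Sigma
import Groth.Agent.DelIll.K905.ExactFin
import Mathlib.Algebra.Order.Interval.Finset.SuccPred
import Mathlib.Algebra.BigOperators.Intervals
import Mathlib.Data.Int.Interval

/-!
# Dimension count for the stupid filtration on hypercohomology, linearly over a field acting on the complex
-/

set_option autoImplicit false

universe w v u u'

open CategoryTheory CategoryTheory.Limits E1Deg KLinDR K905.HTExact K905.Sigma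

namespace K905.HTFin

section Ends

variable {A : Type u} [Category.{v} A] [Abelian A]

/-- Endomorphisms of `K` act on `σ_{≥ i} K`. -/
noncomputable def sigmaEnd (K : CochainComplex A ℤ) (i : ℤ) : End K →+* End (sigmaGE K i) where
  toFun f := sigmaMap f i
  map_one' := sigmaMap_id i
  map_mul' f g := sigmaMap_comp g f i
  map_zero' := by
    refine HomologicalComplex.hom_ext _ _ fun m => ?_
    by_cases hm : ∃ n : ℕ, (emb i).f n = m
    · obtain ⟨n, hn⟩ := hm
      rw [sigmaMap_f_eq _ i hn]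
      change _ ≫ (0 : K.X m ⟶ K.X m) ≫ _ = 0
      simp
    · exact (K.isZero_stupidTrunc_X (emb i) m (by simpa using hm)).eq_of_src _ _
  map_add' f g := by
    refine HomologicalComplex.hom_ext _ _ fun m => ?_
    by_cases hm : ∃ n : ℕ, (emb i).f n = m
    · obtain ⟨n, hn⟩ := hm
      change _ = (sigmaMap f i).f m + (sigmaMap g i).f m
      rw [sigmaMap_f_eq _ i hn, sigmaMap_f_eq _ i hn, sigmaMap_f_eq _ i hn]
      change _ ≫ (HomologicalComplex.Hom.f (A := K) (B := K) f m +
        HomologicalComplex.Hom.f (A := K) (B := K) g m) ≫ _ = _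
      simp
    · exact (K.isZero_stupidTrunc_X (emb i) m (by simpa using hm)).eq_of_src _ _

/-- An additive functor on endomorphism rings. -/
noncomputable def mapEnd {B : Type*} [Category B] [Preadditive B] {C : Type*} [Category C] [Preadditive C]
    (F : B ⥤ C) [F.Additive] (X : B) : End X →+* End (F.obj X) where
  toFun f := F.map f
  map_one' := F.map_id X
  map_mul' f g := F.map_comp g f
  map_zero' := F.map_zero X X
  map_add' _ _ := F.map_add

theorem mapEnd_apply {B : Type*} [Category B] [Preadditive B] {C : Type*} [Category C] [Preadditive C]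
    (F : B ⥤ C) [F.Additive] (X : B) (f : End X) : mapEnd F X f = F.map f := rfl

/-- Endomorphisms of `K` act on `K^i` placed in degree `i`. -/
noncomputable def grEnd (K : CochainComplex A ℤ) (i : ℤ) :
    End K →+* End ((HomologicalComplex.single A (ComplexShape.up ℤ) i).obj (K.X i)) :=
  (mapEnd (HomologicalComplex.single A (ComplexShape.up ℤ) i) (K.X i)).comp
    (mapEnd (HomologicalComplex.eval A (ComplexShape.up ℤ) i) K)

theorem grEnd_apply (K : CochainComplex A ℤ) (i : ℤ) (f : K ⟶ K) :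
    grEnd K i f = (HomologicalComplex.single A (ComplexShape.up ℤ) i).map (f.f i) := rfl

end Ends

section Lin

variable {A : Type u} [Category.{v} A] [Abelian A] [HasDerivedCategory.{w} A] {k : Type u'}

theorem HTρmap_ker_of_exact [Ring k] {S : ShortComplex (CochainComplex A ℤ)} (hS : S.ShortExact) (T : A) (n : ℤ)
    {ρ₁ : k →+* End S.X₁} {ρ₂ : k →+* End S.X₂} (h₁ : Commutes ρ₁ ρ₂ S.f)
    {ρ₃ : k →+* End S.X₃} (h₂ : Commutes ρ₂ ρ₃ S.g) (x : HTρ T S.X₂ ρ₂ n)
    (hx : HTρmap T S.g h₂ n x = 0) : ∃ y, HTρmap T S.f h₁ n y = x := by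
  obtain ⟨y, hy⟩ := exact₂ hS T n (HTρ.toHT x) hx
  exact ⟨HTρ.toHT.symm y, hy⟩

theorem HTρmap_HTρmap [Ring k] {S : ShortComplex (CochainComplex A ℤ)} (T : A) (n : ℤ)
    {ρ₁ : k →+* End S.X₁} {ρ₂ : k →+* End S.X₂} (h₁ : Commutes ρ₁ ρ₂ S.f)
    {ρ₃ : k →+* End S.X₃} (h₂ : Commutes ρ₂ ρ₃ S.g) (x : HTρ T S.X₁ ρ₁ n) :
    HTρmap T S.g h₂ n (HTρmap T S.f h₁ n x) = 0 :=
  map_map T n (HTρ.toHT x)

/-- A quasi-isomorphism commuting with the actions induces a linear equivalence. -/
noncomputable def HTρequiv [Ring k] (T : A) {K L : CochainComplex A ℤ} {ρ : k →+* End K} {ρ' : k →+* End L}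
    (φ : K ⟶ L) (h : Commutes ρ ρ' φ) [QuasiIso φ] (n : ℤ) : HTρ T K ρ n ≃ₗ[k] HTρ T L ρ' n :=
  LinearEquiv.ofBijective (HTρmap T φ h n) (HTmap_bijective T φ n)

theorem HTρ_subsingleton [Ring k] (T : A) {K : CochainComplex A ℤ} (ρ : k →+* End K) (n : ℤ)
    (h : IsZero (DerivedCategory.Q.obj K)) : Subsingleton (HTρ T K ρ n) := by
  have h1 : IsZero ((shiftFunctor (DerivedCategory A) n).obj (DerivedCategory.Q.obj K)) :=
    Functor.map_isZero _ h
  exact ⟨fun x y => h1.eq_of_tgt (HTρ.toHT x) (HTρ.toHT y)⟩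

theorem HT_subsingleton (T : A) {K : CochainComplex A ℤ} (n : ℤ)
    (h : IsZero (DerivedCategory.Q.obj K)) : Subsingleton (HT T K n) := by
  have h1 : IsZero ((shiftFunctor (DerivedCategory A) n).obj (DerivedCategory.Q.obj K)) :=
    Functor.map_isZero _ h
  exact ⟨fun x y => h1.eq_of_tgt x y⟩

theorem isZero_of_X {K : CochainComplex A ℤ} (h : ∀ m, IsZero (K.X m)) : IsZero K := by
  rw [IsZero.iff_id_eq_zero]
  refine HomologicalComplex.hom_ext _ _ fun m => (h m).eq_of_src _ _

theorem isZero_Q {K : CochainComplex A ℤ} (h : ∀ m, IsZero (K.X m)) : IsZero (DerivedCategory.Q.obj K) :=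
  Functor.map_isZero _ (isZero_of_X h)

variable [Field k] (T : A) (K : CochainComplex A ℤ) (ρ : k →+* End K) (n : ℤ)

/-- `H_T^n(σ_{≥ i} K)` as a `k`-vector space. -/
abbrev V (i : ℤ) : Type w := HTρ T (sigmaGE K i) ((sigmaEnd K i).comp ρ) n

/-- `H_T^n(K^i placed in degree i)` as a `k`-vector space. -/
abbrev E (i : ℤ) : Type w :=
  HTρ T ((HomologicalComplex.single A (ComplexShape.up ℤ) i).obj (K.X i)) ((grEnd K i).comp ρ) n

theorem comm_ιSucc (i : ℤ) : Commutes ((sigmaEnd K (i + 1)).comp ρ) ((sigmaEnd K i).comp ρ) (sigmaGEιSucc K i) :=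
  fun a => sigmaMap_ιSucc (ρ a) i

theorem comm_π (i : ℤ) : Commutes ((sigmaEnd K i).comp ρ) ((grEnd K i).comp ρ) (sigmaGEπ K i) :=
  fun a => sigmaMap_π (ρ a) i

theorem comm_ι (i : ℤ) : Commutes ((sigmaEnd K i).comp ρ) ρ (sigmaGEι K i) :=
  fun a => sigmaMap_ι (ρ a) i

theorem step_finite (i : ℤ) (h1 : Module.Finite k (V T K ρ n (i + 1))) (h2 : Module.Finite k (E T K ρ n i)) :
    Module.Finite k (V T K ρ n i) :=
  ExactFin.finite_mid (HTρmap T (sigmaGEιSucc K i) (comm_ιSucc K ρ i) n)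
    (HTρmap T (sigmaGEπ K i) (comm_π K ρ i) n)
    (fun x hx => HTρmap_ker_of_exact (sc_shortExact K i) T n (comm_ιSucc K ρ i) (comm_π K ρ i) x hx)

theorem step_le (i : ℤ) (h1 : Module.Finite k (V T K ρ n (i + 1))) (h2 : Module.Finite k (E T K ρ n i)) :
    Module.finrank k (V T K ρ n i) ≤ Module.finrank k (V T K ρ n (i + 1)) + Module.finrank k (E T K ρ n i) :=
  ExactFin.finrank_mid_le (HTρmap T (sigmaGEιSucc K i) (comm_ιSucc K ρ i) n)
    (HTρmap T (sigmaGEπ K i) (comm_π K ρ i) n)
    (fun x => HTρmap_HTρmap (S := sc K i) T n (comm_ιSucc K ρ i) (comm_π K ρ i) x)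
    (fun x hx => HTρmap_ker_of_exact (sc_shortExact K i) T n (comm_ιSucc K ρ i) (comm_π K ρ i) x hx)

theorem step_eq_iff (i : ℤ) (h1 : Module.Finite k (V T K ρ n (i + 1))) (h2 : Module.Finite k (E T K ρ n i)) :
    Module.finrank k (V T K ρ n i) = Module.finrank k (V T K ρ n (i + 1)) + Module.finrank k (E T K ρ n i) ↔
      DegeneratesAt T K n i :=
  ExactFin.finrank_mid_eq_iff (HTρmap T (sigmaGEιSucc K i) (comm_ιSucc K ρ i) n)
    (HTρmap T (sigmaGEπ K i) (comm_π K ρ i) n)
    (fun x => HTρmap_HTρmap (S := sc K i) T n (comm_ιSucc K ρ i) (comm_π K ρ i) x)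
    (fun x hx => HTρmap_ker_of_exact (sc_shortExact K i) T n (comm_ιSucc K ρ i) (comm_π K ρ i) x hx)

/-- Downward induction: finiteness, inequality, and the case of equality. -/
theorem count (b : ℤ) (hb : ∀ m, b ≤ m → IsZero (K.X m)) (j : ℕ)
    (hE : ∀ i, b - j ≤ i → i < b → Module.Finite k (E T K ρ n i)) :
    Module.Finite k (V T K ρ n (b - j)) ∧
    Module.finrank k (V T K ρ n (b - j)) ≤ ∑ i ∈ Finset.Ico (b - j) b, Module.finrank k (E T K ρ n i) ∧
    (Module.finrank k (V T K ρ n (b - j)) = ∑ i ∈ Finset.Ico (b - j) b, Module.finrank k (E T K ρ n i) ↔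
      ∀ i, b - j ≤ i → i < b → DegeneratesAt T K n i) := by
  induction j with
  | zero =>
    have h0 : Subsingleton (V T K ρ n (b - (0 : ℕ))) := by
      apply HTρ_subsingleton
      apply isZero_Q
      intro m
      by_cases hm : b ≤ m
      · obtain ⟨l, hl⟩ := (emb_exists_iff (b - (0 : ℕ)) m).2 (by simpa using hm)
        exact (hb m hm).of_iso (K.stupidTruncXIso (emb _) hl)
      · exact isZero_sigmaGE K _ m (by simpa using hm)
    have h1 : Module.finrank k (V T K ρ n (b - (0 : ℕ))) = 0 := Module.finrank_zero_of_subsingleton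
    refine ⟨inferInstance, ?_, ?_⟩
    · rw [h1]; exact Nat.zero_le _
    · rw [h1]
      simp only [Nat.cast_zero, sub_zero, Finset.Ico_self, Finset.sum_empty, true_iff]
      intro i h1 h2
      omega
  | succ j ih =>
    obtain ⟨i1, i2, i3⟩ := ih (fun i h1 h2 => hE i (by push_cast; omega) h2)
    have hF : Module.Finite k (E T K ρ n (b - (j + 1 : ℕ))) := hE _ le_rfl (by push_cast; omega)
    have e1 : b - (j : ℤ) = b - ((j + 1 : ℕ) : ℤ) + 1 := by push_cast; ring
    rw [e1] at i1 i2 i3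
    have s1 := step_finite T K ρ n (b - (j + 1 : ℕ)) i1 hF
    have s2 := step_le T K ρ n (b - (j + 1 : ℕ)) i1 hF
    have s3 := step_eq_iff T K ρ n (b - (j + 1 : ℕ)) i1 hF
    have e2 : ∑ i ∈ Finset.Ico (b - ((j + 1 : ℕ) : ℤ)) b, Module.finrank k (E T K ρ n i) =
        ∑ i ∈ Finset.Ico (b - ((j + 1 : ℕ) : ℤ) + 1) b, Module.finrank k (E T K ρ n i) +
          Module.finrank k (E T K ρ n (b - ((j + 1 : ℕ) : ℤ))) := by
      rw [← Finset.insert_Ico_add_one_left_eq_Ico (by push_cast; omega), Finset.sum_insert (by simp), add_comm]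
    refine ⟨s1, by rw [e2]; omega, ?_⟩
    constructor
    · intro h i hi1 hi2
      have h5 : Module.finrank k (V T K ρ n (b - ((j + 1 : ℕ) : ℤ) + 1)) =
        ∑ i ∈ Finset.Ico (b - ((j + 1 : ℕ) : ℤ) + 1) b, Module.finrank k (E T K ρ n i) := by omega
      rcases eq_or_lt_of_le hi1 with rfl | hi3
      · exact s3.1 (by omega)
      · exact i3.1 h5 i (by omega) hi2
    · intro h
      have h1 := s3.2 (h _ le_rfl (by push_cast; omega))
      have h2 := i3.2 (fun i h1 h2 => h i (by omega) h2)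
      omega

/-- outside of the support of `K` nothing is imposed -/
theorem degeneratesAt_of_isZero (i : ℤ) (h : IsZero (K.X i)) : DegeneratesAt T K n i := by
  have h1 : IsZero ((HomologicalComplex.single A (ComplexShape.up ℤ) i).obj (K.X i)) :=
    Functor.map_isZero _ h
  have h2 : Subsingleton (HT T ((HomologicalComplex.single A (ComplexShape.up ℤ) i).obj (K.X i)) n) :=
    HT_subsingleton T n (Functor.map_isZero _ h1)
  refine ⟨?_, fun y => ⟨0, Subsingleton.elim _ _⟩⟩
  have h3 : QuasiIso (sigmaGEιSucc K i) := by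
    have : IsIso (sigmaGEιSucc K i) := by
      have : ∀ m : ℤ, IsIso ((sigmaGEιSucc K i).f m) := fun m => by
        rcases lt_trichotomy m i with hm | rfl | hm
        · exact ⟨0, (isZero_sigmaGE K (i + 1) m (by omega)).eq_of_src _ _,
            (isZero_sigmaGE K i m (by omega)).eq_of_src _ _⟩
        · refine ⟨0, (isZero_sigmaGE K (m + 1) m (by omega)).eq_of_src _ _, ?_⟩
          obtain ⟨l, hl⟩ := (emb_exists_iff m m).2 le_rfl
          exact (h.of_iso (K.stupidTruncXIso (emb _) hl)).eq_of_src _ _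
        · exact isIso_ιSucc_f K i m (by omega)
      exact HomologicalComplex.Hom.isIso_of_components _
    infer_instance
  exact (HTmap_bijective T (sigmaGEιSucc K i) n).1

/-- **Dimension count.**  `K` bounded (zero outside `[a, b)`), with a field `k` acting, the groups
`H_T^n(K^i in degree i)` finite dimensional.  Then `H_T^n(K)` is finite dimensional, of dimension at most the sum of
the dimensions, with equality iff the stupid filtration degenerates at `(n, i)` for all `i`. -/
theorem main (a b : ℤ) (hab : a ≤ b) (ha : ∀ m, m < a → IsZero (K.X m)) (hb : ∀ m, b ≤ m → IsZero (K.X m))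
    (hE : ∀ i, a ≤ i → i < b → Module.Finite k (E T K ρ n i)) :
    Module.Finite k (HTρ T K ρ n) ∧
    Module.finrank k (HTρ T K ρ n) ≤ ∑ i ∈ Finset.Ico a b, Module.finrank k (E T K ρ n i) ∧
    (Module.finrank k (HTρ T K ρ n) = ∑ i ∈ Finset.Ico a b, Module.finrank k (E T K ρ n i) ↔
      ∀ i, DegeneratesAt T K n i) := by
  obtain ⟨j, hj⟩ : ∃ j : ℕ, b - j = a := ⟨(b - a).toNat, by omega⟩
  have := isIso_sigmaGEι K a ha
  obtain ⟨c1, c2, c3⟩ := count T K ρ n b hb j (fun i h1 h2 => hE i (by omega) h2)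
  rw [hj] at c1 c2 c3
  let e : V T K ρ n a ≃ₗ[k] HTρ T K ρ n := HTρequiv T (sigmaGEι K a) (comm_ι K ρ a) n
  refine ⟨Module.Finite.equiv e, e.finrank_eq ▸ c2, ?_⟩
  rw [← e.finrank_eq, c3]
  constructor
  · intro h i
    by_cases h1 : a ≤ i ∧ i < b
    · exact h i h1.1 h1.2
    · apply degeneratesAt_of_isZero
      by_cases h2 : i < a
      · exact ha i h2
      · exact hb i (by omega)
  · exact fun h i _ _ => h i

end Lin

end K905.HTFin
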