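import Groth.Agent.DelIll.K905.HTAbs

/-!
# Dimension count for the hypercohomology of a de Rham complex on a scheme over a field
-/

set_option autoImplicit false

universe w w' v u u'

open CategoryTheory CategoryTheory.Limits E1Deg KLinDR K905.HTExact K905.Sigma K905.HTFin K905.HTSingle
open AlgebraicGeometry Opposite TopologicalSpace

namespace K905.HTSch

/-- `ℤ_⊤` is the constant sheaf -/
noncomputable def zIso (X : Scheme.{u}) :
    CohCx.freeSheaf (Opens.grothendieckTopology X) (⊤ : X.Opens) ≅
      (constantSheaf (Opens.grothendieckTopology X) AddCommGrpCat.{u}).obj (AddCommGrpCat.of (ULift.{u} ℤ)) :=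
  freeSheafIsoConstant (Opens.grothendieckTopology X)
      (CategoryTheory.Limits.isTerminalTop : IsTerminal (⊤ : X.Opens))

/-- the scalar action in degree `i ≥ 0` -/
theorem scalar_f_comp {X : Scheme.{u}} {k : Type u} [CommRing k] {c : k →+* Coh.Γtop X}
    {K : CochainComplex (Sheaf (Opens.grothendieckTopology X) AddCommGrpCat.{u}) ℕ}
    {term : ℕ → X.Modules} {iso : ∀ p : ℕ, K.X p ≅ Coh.toAb (term p)} (h : TermwiseLinear c K term iso) (i : ℕ) (a : k) :
    HomologicalComplex.Hom.f (A := K.extend ComplexShape.embeddingUpNat) (B := K.extend ComplexShape.embeddingUpNat)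
      (scalar h a) (i : ℤ) ≫
      (K.extendXIso ComplexShape.embeddingUpNat (ComplexShape.embeddingUpNat_f i) ≪≫ iso i).hom =
      (K.extendXIso ComplexShape.embeddingUpNat (ComplexShape.embeddingUpNat_f i) ≪≫ iso i).hom ≫
        Coh.smulAb (term i) (c a) := by
  rw [scalar_f h a i, scalarEnd]
  simp only [Iso.trans_hom, Category.assoc, Iso.inv_hom_id_assoc, Iso.inv_hom_id, Category.comp_id]

theorem isZero_extend_neg {C : Type*} [Category C] [HasZeroMorphisms C] [HasZeroObject C] (K : CochainComplex C ℕ)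
    (m : ℤ) (hm : m < 0) : IsZero ((K.extend ComplexShape.embeddingUpNat).X m) :=
  K.isZero_extend_X ComplexShape.embeddingUpNat m fun p hp => by
    have : (p : ℤ) = m := hp
    omega

theorem isZero_extend_of_le {X : Scheme.{u}}
    {K : CochainComplex (Sheaf (Opens.grothendieckTopology X) AddCommGrpCat.{u}) ℕ}
    {term : ℕ → X.Modules} (iso : ∀ p : ℕ, K.X p ≅ Coh.toAb (term p)) (N : ℕ) (hN : ∀ i, N ≤ i → IsZero (term i))
    (m : ℤ) (hm : (N : ℤ) ≤ m) : IsZero ((K.extend ComplexShape.embeddingUpNat).X m) := by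
  obtain ⟨i, rfl⟩ := Int.eq_ofNat_of_zero_le (show 0 ≤ m by omega)
  refine IsZero.of_iso ?_ (K.extendXIso ComplexShape.embeddingUpNat (ComplexShape.embeddingUpNat_f i) ≪≫ iso i)
  exact Functor.map_isZero (SheafOfModules.toSheaf X.ringCatSheaf) (hN i (by omega))

/-- **Dimension count** for a complex of abelian sheaves with `k`-linear differentials whose terms are `O_X`-modules. -/
theorem count {X : Scheme.{u}} {k : Type u} [Field k] [X.Over (Spec (CommRingCat.of k))]
    [HasDerivedCategory.{w} (Sheaf (Opens.grothendieckTopology X) AddCommGrpCat.{u})]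
    {K : CochainComplex (Sheaf (Opens.grothendieckTopology X) AddCommGrpCat.{u}) ℕ}
    {term : ℕ → X.Modules} {iso : ∀ p : ℕ, K.X p ≅ Coh.toAb (term p)}
    (h : TermwiseLinear (Coh.toGlobal (X ↘ Spec (CommRingCat.of k))) K term iso)
    (hfin : ∀ i m, Module.Finite k (Coh.HH X (term i) m)) (N : ℕ) (hN : ∀ i, N ≤ i → IsZero (term i)) (n : ℕ) :
    Module.Finite k (HTρ (CohCx.freeSheaf (Opens.grothendieckTopology X) (⊤ : X.Opens))
      (K.extend ComplexShape.embeddingUpNat) (scalar h) n) ∧
    Module.finrank k (HTρ (CohCx.freeSheaf (Opens.grothendieckTopology X) (⊤ : X.Opens))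
      (K.extend ComplexShape.embeddingUpNat) (scalar h) n) ≤
        ∑ i ∈ Finset.range (n + 1), Module.finrank k (Coh.HH X (term i) (n - i)) ∧
    (Module.finrank k (HTρ (CohCx.freeSheaf (Opens.grothendieckTopology X) (⊤ : X.Opens))
      (K.extend ComplexShape.embeddingUpNat) (scalar h) n) =
        ∑ i ∈ Finset.range (n + 1), Module.finrank k (Coh.HH X (term i) (n - i)) ↔
      ∀ i, DegeneratesAt (CohCx.freeSheaf (Opens.grothendieckTopology X) (⊤ : X.Opens))
        (K.extend ComplexShape.embeddingUpNat) n i) := by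
  refine HTAbs.main (zIso X) (K.extend ComplexShape.embeddingUpNat) (scalar h) ?_ N ?_
    (fun i => Coh.toAb (term i)) (fun i => K.extendXIso ComplexShape.embeddingUpNat
      (ComplexShape.embeddingUpNat_f i) ≪≫ iso i)
    (fun i a => Coh.smulAb (term i) (Coh.toGlobal (X ↘ Spec (CommRingCat.of k)) a))
    (fun i a => scalar_f_comp h i a) (fun i m => Coh.HH X (term i) m)
    (fun i m => AddEquiv.refl _) (fun i m a x => rfl) hfin n
  · exact isZero_extend_neg K
  · exact isZero_extend_of_le iso N hN

end K905.HTSch
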