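import Groth.Agent.DelIll.K905.HTFin
import Groth.Prelude.Def_E1Deg2
import Mathlib.Algebra.Homology.DerivedCategory.TStructure

/-!
# `H_T^n(F placed in degree i)` is `Ext^{n-i}(T, F)`, naturally
-/

set_option autoImplicit false

universe w w' v u u'

open CategoryTheory CategoryTheory.Limits E1Deg KLinDR K905.HTExact K905.Sigma K905.HTFin

namespace K905.HTSingle

theorem abs_nat {D : Type*} [Category D] {E : Type*} [Category E] (F : D ⥤ E) {X0 X1 X2 Y0 Y1 Y2 : D} {X3 Y3 : E}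
    {q : X0 ⟶ Y0} {r : X1 ⟶ Y1} {s : X2 ⟶ Y2} {t : X3 ⟶ Y3} {u1 : X0 ⟶ X1} {v1 : Y0 ⟶ Y1} {u2 : X1 ⟶ X2}
    {v2 : Y1 ⟶ Y2} {u3 : F.obj X2 ⟶ X3} {v3 : F.obj Y2 ⟶ Y3} (h1 : q ≫ v1 = u1 ≫ r) (h2 : r ≫ v2 = u2 ≫ s)
    (h3 : F.map s ≫ v3 = u3 ≫ t) : F.map q ≫ F.map (v1 ≫ v2) ≫ v3 = (F.map (u1 ≫ u2) ≫ u3) ≫ t := by
  rw [Category.assoc, ← h3, ← Category.assoc, ← Category.assoc, ← Functor.map_comp, ← Functor.map_comp,
    ← Category.assoc, h1, Category.assoc, h2, Category.assoc]

variable {A : Type u} [Category.{v} A] [Abelian A] [HasDerivedCategory.{w} A]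

theorem targetIso_naturality {X Y : A} (f : X ⟶ Y) (i a : ℤ) (m : ℕ) (h : i + m = a) :
    (shiftFunctor (DerivedCategory A) a).map
        (DerivedCategory.Q.map ((HomologicalComplex.single A (ComplexShape.up ℤ) i).map f)) ≫
      (targetIso Y i a m h).hom =
    (targetIso X i a m h).hom ≫
      (shiftFunctor (DerivedCategory A) (m : ℤ)).map ((DerivedCategory.singleFunctor A 0).map f) :=
  abs_nat (shiftFunctor (DerivedCategory A) a)
    ((DerivedCategory.singleFunctorIsoCompQ A i).inv.naturality f)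
    (((DerivedCategory.singleFunctors A).shiftIso (-i) i 0 (by omega)).inv.naturality f)
    ((shiftFunctorAdd' (DerivedCategory A) (-i) a (m : ℤ) (by omega)).inv.naturality
      ((DerivedCategory.singleFunctor A 0).map f))

theorem abs_nat2 {D : Type*} [Category D] {T P P' Q Q' : D} (x : T ⟶ P) {p : P ⟶ P'} {t : P ⟶ Q} {t' : P' ⟶ Q'}
    {q : Q ⟶ Q'} (h : p ≫ t' = t ≫ q) : (x ≫ p) ≫ t' = (x ≫ t) ≫ q := by
  rw [Category.assoc, h, Category.assoc]

section

variable [HasExt.{w'} A]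

theorem HTsingleEquiv_hom (T Z : A) (i a : ℤ) (m : ℕ) (h : i + m = a)
    (z : HT T ((HomologicalComplex.single A (ComplexShape.up ℤ) i).obj Z) a) :
      (HTsingleEquiv T Z i a m h z).hom = z ≫ (targetIso Z i a m h).hom :=
  Abelian.Ext.homAddEquiv.apply_symm_apply _

theorem HTsingleEquiv_naturality (T : A) {X Y : A} (f : X ⟶ Y) (i a : ℤ) (m : ℕ) (h : i + m = a)
    (x : HT T ((HomologicalComplex.single A (ComplexShape.up ℤ) i).obj X) a) :
    HTsingleEquiv T Y i a m h
        (HTmap T ((HomologicalComplex.single A (ComplexShape.up ℤ) i).map f) a x) =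
      (HTsingleEquiv T X i a m h x).comp (Abelian.Ext.mk₀ f) (add_zero m) := by
  apply Abelian.Ext.homAddEquiv.injective
  rw [Abelian.Ext.homAddEquiv_apply, Abelian.Ext.homAddEquiv_apply, Abelian.Ext.comp_hom, Abelian.Ext.mk₀_hom,
    ShiftedHom.comp_mk₀, HTsingleEquiv_hom, HTsingleEquiv_hom, HTmap_apply]
  exact abs_nat2 x (targetIso_naturality f i a m h)

end

/-- Negative degrees vanish. -/
theorem subsingleton_HT_single (T X : A) (i n : ℤ) (h : n < i) :
    Subsingleton (HT T ((HomologicalComplex.single A (ComplexShape.up ℤ) i).obj X) n) := by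
  have e : (DerivedCategory.singleFunctor A i).obj X ≅
      DerivedCategory.Q.obj ((HomologicalComplex.single A (ComplexShape.up ℤ) i).obj X) :=
    (DerivedCategory.singleFunctorIsoCompQ A i).app X
  have h1 : DerivedCategory.TStructure.t.IsGE
      (DerivedCategory.Q.obj ((HomologicalComplex.single A (ComplexShape.up ℤ) i).obj X)) i :=
    DerivedCategory.TStructure.t.isGE_of_iso e i
  have h2 : DerivedCategory.TStructure.t.IsGE ((shiftFunctor (DerivedCategory A) n).obj
      (DerivedCategory.Q.obj ((HomologicalComplex.single A (ComplexShape.up ℤ) i).obj X))) (i - n) :=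
    DerivedCategory.TStructure.t.isGE_shift _ i n (i - n) (by omega)
  have h3 : DerivedCategory.TStructure.t.IsLE ((DerivedCategory.singleFunctor A 0).obj T) 0 := inferInstance
  refine ⟨fun x y => ?_⟩
  rw [DerivedCategory.TStructure.t.zero x 0 (i - n) (by omega), DerivedCategory.TStructure.t.zero y 0 (i - n) (by omega)]

section Gr

variable [HasExt.{w'} A] {k : Type*} [CommRing k]

theorem extCongrLeft_comp {T T' : A} (e : T ≅ T') {Y Z : A} (f : Y ⟶ Z) (m : ℕ) (x : Abelian.Ext T Y m) :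
    extCongrLeft e Z m (x.comp (Abelian.Ext.mk₀ f) (add_zero m)) =
      (extCongrLeft e Y m x).comp (Abelian.Ext.mk₀ f) (add_zero m) :=
  (Abelian.Ext.comp_assoc_of_third_deg_zero (Abelian.Ext.mk₀ e.inv) x (Abelian.Ext.mk₀ f) (zero_add m)).symm

theorem extCongrRight_apply (T : A) {Y Z : A} (e : Y ≅ Z) (m : ℕ) (x : Abelian.Ext T Y m) :
    extCongrRight T e m x = x.comp (Abelian.Ext.mk₀ e.hom) (add_zero m) := rfl

/-- The graded piece `H_T^n(F in degree i)` as `Ext^m(T', G)`, for `T ≅ T'`, `F ≅ G`, `i + m = n`. -/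
noncomputable def grAdd {T T' : A} (eT : T ≅ T') {F G : A} (e : F ≅ G) (i n : ℤ) (m : ℕ) (h : i + m = n) :
    HT T ((HomologicalComplex.single A (ComplexShape.up ℤ) i).obj F) n ≃+ Abelian.Ext.{w'} T' G m :=
  ((HTsingleEquiv T F i n m h).trans (extCongrLeft eT F m)).trans (extCongrRight T' e m)

theorem grAdd_naturality {T T' : A} (eT : T ≅ T') {F G : A} (e : F ≅ G) {F' G' : A} (e' : F' ≅ G')
    (i n : ℤ) (m : ℕ) (h : i + m = n) (f : F ⟶ F') (g : G ⟶ G') (hfg : f ≫ e'.hom = e.hom ≫ g)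
    (x : HT T ((HomologicalComplex.single A (ComplexShape.up ℤ) i).obj F) n) :
    grAdd eT e' i n m h (HTmap T ((HomologicalComplex.single A (ComplexShape.up ℤ) i).map f) n x) =
      (grAdd eT e i n m h x).comp (Abelian.Ext.mk₀ g) (add_zero m) := by
  change extCongrRight T' e' m (extCongrLeft eT F' m (HTsingleEquiv T F' i n m h _)) =
    (extCongrRight T' e m (extCongrLeft eT F m (HTsingleEquiv T F i n m h x))).comp (Abelian.Ext.mk₀ g) (add_zero m)
  rw [HTsingleEquiv_naturality, extCongrLeft_comp, extCongrRight_apply, extCongrRight_apply,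
    Abelian.Ext.comp_assoc_of_third_deg_zero, Abelian.Ext.comp_assoc_of_third_deg_zero, Abelian.Ext.mk₀_comp_mk₀,
    Abelian.Ext.mk₀_comp_mk₀, hfg]

theorem grAdd_smul {T T' : A} (eT : T ≅ T') (K : CochainComplex A ℤ) (ρ : k →+* End K) {G : A} (i n : ℤ) (m : ℕ)
    (h : i + m = n) (e : K.X i ≅ G) (r : k → (G ⟶ G))
    (he : ∀ a : k, HomologicalComplex.Hom.f (A := K) (B := K) (ρ a) i ≫ e.hom = e.hom ≫ r a) (a : k)
    (x : HTρ T ((HomologicalComplex.single A (ComplexShape.up ℤ) i).obj (K.X i)) ((grEnd K i).comp ρ) n) :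
    grAdd eT e i n m h (HTρ.toHT (a • x)) =
      (grAdd eT e i n m h (HTρ.toHT x)).comp (Abelian.Ext.mk₀ (r a)) (add_zero m) :=
  grAdd_naturality eT e e i n m h _ _ (he a) (HTρ.toHT x)

end Gr

end K905.HTSingle
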