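import Groth.Agent.DelIll.K905.GeoUp
import Groth.Prelude.Def_DeRham2

/-!
# Sections of a de Rham complex over a chart
-/

set_option autoImplicit false
universe u

open CategoryTheory CategoryTheory.Limits AlgebraicGeometry Opposite TopologicalSpace K904 K905.TotPhi

namespace K905.GeoPhi

variable {X S : Scheme.{u}} {f : X ⟶ S} {Ω' : X.Modules} {δ : OmegaSh.Der f Ω'} (D : DeRhamSh.Cx f Ω' δ)

/-- Restriction of functions. -/
noncomputable abbrev rO {U V : X.Opens} (h : V ≤ U) : Γ(X, U) →+* Γ(X, V) := (X.presheaf.map (homOfLE h).op).hom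

/-- Restriction of sections. -/
noncomputable def rM (M : X.Modules) {U V : X.Opens} (h : V ≤ U) : Γ(M, U) →+ Γ(M, V) :=
  (M.val.map (homOfLE h).op).hom.toAddMonoidHom

theorem rM_smul (M : X.Modules) {U V : X.Opens} (h : V ≤ U) (r : Γ(X, U)) (s : Γ(M, U)) :
    rM M h (r • s) = rO h r • rM M h s :=
  M.val.map_smul (homOfLE h).op r s

theorem rM_δ {U V : X.Opens} (h : V ≤ U) (a : Γ(X, U)) : rM Ω' h (δ.app U a) = δ.app V (rO h a) :=
  (δ.d_map (X := op U) (Y := op V) (homOfLE h).op a).symm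

theorem δ_mul (U : X.Opens) (a b : Γ(X, U)) : δ.app U (a * b) = a • δ.app U b + b • δ.app U a :=
  δ.d_mul (X := op U) a b

/-- `loc` is compatible with restriction. -/
theorem loc_res' (i : ℕ) (U V : X.affineOpens) (h : V.1 ≤ U.1) (y : ↥(⋀[Γ(X, U.1)]^i Γ(Ω', U.1))) :
    rM (D.term i) h ((D.loc i U).symm y) =
      (D.loc i V).symm ⟨Semi.extR (rO h) (rM Ω' h) (rM_smul Ω' h) y.1, Semi.extR_mem _ _ _ _ _ y.2⟩ := by
  have hy : y ∈ Submodule.span Γ(X, U.1) (Set.range (exteriorPower.ιMulti Γ(X, U.1) i (M := Γ(Ω', U.1)))) := by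
    rw [exteriorPower.ιMulti_span]
    exact Submodule.mem_top
  induction hy using Submodule.span_induction with
  | mem y hy =>
    obtain ⟨e, rfl⟩ := hy
    refine (D.loc_res i U V h e).trans ?_
    congr 1
    refine Subtype.ext ?_
    refine Eq.trans ?_ (Semi.extR_ιMulti (rO h) (rM Ω' h) (rM_smul Ω' h) e).symm
    rfl
  | zero =>
    rw [map_zero, map_zero]
    symm
    refine (congrArg (D.loc i V).symm (Subtype.ext ?_)).trans (map_zero _)
    exact map_zero (Semi.extR (rO h) (rM Ω' h) (rM_smul Ω' h))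
  | add x y _ _ hx hy =>
    rw [map_add, map_add, hx, hy, ← map_add]
    congr 1
    exact Subtype.ext (map_add (Semi.extR (rO h) (rM Ω' h) (rM_smul Ω' h)) x.1 y.1).symm
  | smul a x _ hx =>
    rw [map_smul, rM_smul, hx, ← map_smul]
    congr 1
    exact Subtype.ext (Semi.extR_smul (rO h) (rM Ω' h) (rM_smul Ω' h) a x.1).symm

/-- Generation of exterior powers. -/
theorem mem_closure {A L : Type*} [CommRing A] [AddCommGroup L] [Module A L] (δ : A →+ L)
    (hspan : ∀ m : L, m ∈ Submodule.span A (Set.range δ)) (n : ℕ) (y : ExteriorAlgebra A L) (hy : y ∈ ⋀[A]^n L) :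
    y ∈ AddSubgroup.closure {z | ∃ (b₀ : A) (b : Fin n → A), z = b₀ • ExteriorAlgebra.ιMulti A n (fun i => δ (b i))} := by
  induction n generalizing y with
  | zero =>
    rw [ExteriorAlgebra.exteriorPower, pow_zero, Submodule.mem_one] at hy
    obtain ⟨a, rfl⟩ := hy
    refine AddSubgroup.subset_closure ⟨a, Fin.elim0, ?_⟩
    rw [ExteriorAlgebra.ιMulti_zero_apply, Algebra.algebraMap_eq_smul_one]
  | succ n ih =>
    rw [ExteriorAlgebra.exteriorPower, pow_succ'] at hy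
    induction hy using Submodule.mul_induction_on' with
    | mem_mul_mem v hv ω' hω' =>
      obtain ⟨v, rfl⟩ := hv
      have h1 := ih ω' hω'
      clear hω'
      induction h1 using AddSubgroup.closure_induction with
      | mem z hz =>
        obtain ⟨b₀, b, rfl⟩ := hz
        induction hspan v using Submodule.closure_induction with
        | zero => rw [map_zero, zero_mul]; exact AddSubgroup.zero_mem _
        | add x y _ _ hx hy => rw [map_add, add_mul]; exact AddSubgroup.add_mem _ hx hy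
        | smul_mem r y hy =>
          obtain ⟨a, rfl⟩ := hy
          refine AddSubgroup.subset_closure ⟨r * b₀, Fin.cons a b, ?_⟩
          rw [ExteriorAlgebra.ιMulti_succ_apply, map_smul, smul_mul_smul_comm]
          congr 2
      | zero => rw [mul_zero]; exact AddSubgroup.zero_mem _
      | add x y _ _ hx hy => rw [mul_add]; exact AddSubgroup.add_mem _ hx hy
      | neg x _ hx => rw [mul_neg]; exact AddSubgroup.neg_mem _ hx
    | add a _ b _ ha hb => exact AddSubgroup.add_mem _ ha hb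

theorem dd_mem {A L : Type*} [CommRing A] [AddCommGroup L] [Module A L] {δ : A →+ L}
    (hspan : ∀ m : L, m ∈ Submodule.span A (Set.range δ)) {d : ExteriorAlgebra A L →+ ExteriorAlgebra A L}
    (hd : IsDR δ d) (n : ℕ) (y : ExteriorAlgebra A L) (hy : y ∈ ⋀[A]^n L) : d y ∈ ⋀[A]^(n + 1) L := by
  have hy2 := mem_closure δ hspan n y hy
  clear hy
  induction hy2 using AddSubgroup.closure_induction with
  | mem z hz =>
    obtain ⟨b₀, b, rfl⟩ := hz
    rw [hd.rule]
    exact ExteriorAlgebra.ιMulti_range A (n + 1) ⟨_, rfl⟩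
  | zero => rw [map_zero]; exact Submodule.zero_mem _
  | add x y _ _ hx hy => rw [map_add]; exact Submodule.add_mem _ hx hy
  | neg x _ hx => rw [map_neg]; exact Submodule.neg_mem _ hx

/-- Sections of the complex. -/
noncomputable def sec (i : ℕ) (U : X.affineOpens) : ↥(⋀[Γ(X, U.1)]^i Γ(Ω', U.1)) ≃+ (D.K.X i).obj.obj (op U.1) where
  toFun y := (D.iso i).inv.hom.app (op U.1) ((D.loc i U).symm y)
  invFun y := D.loc i U ((D.iso i).hom.hom.app (op U.1) y)
  left_inv y := by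
    have h : (D.iso i).hom.hom.app (op U.1) ((D.iso i).inv.hom.app (op U.1) ((D.loc i U).symm y)) =
      (D.loc i U).symm y := congr($((D.iso i).inv_hom_id).hom.app (op U.1) ((D.loc i U).symm y))
    exact (congrArg (D.loc i U) h).trans ((D.loc i U).apply_symm_apply y)
  right_inv y := by
    have h : (D.iso i).inv.hom.app (op U.1) ((D.iso i).hom.hom.app (op U.1) y) = y :=
      congr($((D.iso i).hom_inv_id).hom.app (op U.1) y)
    exact (congrArg _ ((D.loc i U).symm_apply_apply _)).trans h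
  map_add' x y := by
    rw [map_add]
    exact map_add ((D.iso i).inv.hom.app (op U.1)).hom _ _

theorem sec_res (i : ℕ) (U V : X.affineOpens) (h : V.1 ≤ U.1) (y : ↥(⋀[Γ(X, U.1)]^i Γ(Ω', U.1))) :
    (D.K.X i).obj.map (homOfLE h).op (sec D i U y) =
      sec D i V ⟨Semi.extR (rO h) (rM Ω' h) (rM_smul Ω' h) y.1, Semi.extR_mem _ _ _ _ _ y.2⟩ := by
  have h1 := ConcreteCategory.congr_hom ((D.iso i).inv.hom.naturality (homOfLE h).op) ((D.loc i U).symm y)
  refine h1.symm.trans ?_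
  exact congrArg ((D.iso i).inv.hom.app (op V.1)) (loc_res' D i U V h y)

theorem sec_d (i : ℕ) (U : X.affineOpens) {d : ExteriorAlgebra Γ(X, U.1) Γ(Ω', U.1) →+ ExteriorAlgebra Γ(X, U.1) Γ(Ω', U.1)}
    (hd : IsDR (δ.app U.1) d) (hspan : ∀ m : Γ(Ω', U.1), m ∈ Submodule.span Γ(X, U.1) (Set.range (δ.app U.1)))
    (y : ↥(⋀[Γ(X, U.1)]^i Γ(Ω', U.1))) :
    (D.K.d i (i + 1)).hom.app (op U.1) (sec D i U y) = sec D (i + 1) U ⟨d y.1, dd_mem hspan hd i y.1 y.2⟩ := by
  let f1 : ↥(⋀[Γ(X, U.1)]^i Γ(Ω', U.1)) →+ (D.K.X (i + 1)).obj.obj (op U.1) :=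
    ((D.K.d i (i + 1)).hom.app (op U.1)).hom.comp (sec D i U).toAddMonoidHom
  let f2 : ↥(⋀[Γ(X, U.1)]^i Γ(Ω', U.1)) →+ (D.K.X (i + 1)).obj.obj (op U.1) :=
    (sec D (i + 1) U).toAddMonoidHom.comp (AddMonoidHom.mk' (fun y : ↥(⋀[Γ(X, U.1)]^i Γ(Ω', U.1)) =>
      (⟨d y.1, dd_mem hspan hd i y.1 y.2⟩ : ↥(⋀[Γ(X, U.1)]^(i + 1) Γ(Ω', U.1))))
      (fun a b => Subtype.ext (map_add d a.1 b.1)))
  change f1 y = f2 y
  obtain ⟨y, hy⟩ := y
  have hy2 := mem_closure (δ.app U.1) hspan i y hy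
  suffices H : ∃ hy : y ∈ ⋀[Γ(X, U.1)]^i Γ(Ω', U.1), f1 ⟨y, hy⟩ = f2 ⟨y, hy⟩ from H.2
  clear hy
  induction hy2 using AddSubgroup.closure_induction with
  | mem z hz =>
    obtain ⟨b₀, b, rfl⟩ := hz
    have hz : b₀ • ExteriorAlgebra.ιMulti Γ(X, U.1) i (fun j => δ.app U.1 (b j)) ∈ ⋀[Γ(X, U.1)]^i Γ(Ω', U.1) :=
      Submodule.smul_mem _ _ (ExteriorAlgebra.ιMulti_range _ i ⟨_, rfl⟩)
    refine ⟨hz, ?_⟩
    refine (D.rule i U b₀ b).trans ?_
    change sec D (i + 1) U _ = sec D (i + 1) U _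
    congr 1
    exact Subtype.ext (hd.rule b₀ b).symm
  | zero => exact ⟨Submodule.zero_mem _, (map_zero f1).trans (map_zero f2).symm⟩
  | add x y _ _ hx hy =>
    obtain ⟨hx, hx2⟩ := hx
    obtain ⟨hy, hy2⟩ := hy
    refine ⟨Submodule.add_mem _ hx hy, ?_⟩
    exact (map_add f1 ⟨x, hx⟩ ⟨y, hy⟩).trans ((congrArg₂ (· + ·) hx2 hy2).trans (map_add f2 ⟨x, hx⟩ ⟨y, hy⟩).symm)
  | neg x _ hx =>
    obtain ⟨hx, hx2⟩ := hx
    refine ⟨Submodule.neg_mem _ hx, ?_⟩
    exact (map_neg f1 ⟨x, hx⟩).trans ((congrArg Neg.neg hx2).trans (map_neg f2 ⟨x, hx⟩).symm)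

end K905.GeoPhi
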