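import Groth.Agent.DelIll.K905.ShLoc

/-!
# A cohomology sheaf of a complex described by representatives over a basis
-/

set_option autoImplicit false
universe u

open CategoryTheory CategoryTheory.Limits Opposite TopologicalSpace

namespace K905.ShRep

open K905.ShLoc

variable {T : Type u} [TopologicalSpace T]

section cl

variable (K : CochainComplex (Sh T) ℕ) (j : ℕ)

theorem exists_cyc {V : Opens T} (y : Se (K.X j) V) (hy : ap (K.d j (j + 1)) V y = 0) :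
    ∃ z : Se (K.cycles j) V, ap (K.iCycles j) V z = y := by
  have hm : Mono (K.iCycles j) := inferInstance
  exact exists_of_exact_mono (ShortComplex.mk (K.iCycles j) (K.d j (j + 1)) (by simp))
    (ShortComplex.exact_of_f_is_kernel _ (K.cyclesIsKernel j (j + 1) (CochainComplex.next ℕ j))) hm y hy

variable {K j}

/-- The class of a closed section. -/
noncomputable def cl {V : Opens T} (y : Se (K.X j) V) (hy : ap (K.d j (j + 1)) V y = 0) : Se (K.homology j) V :=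
  ap (K.homologyπ j) V (exists_cyc K j y hy).choose

theorem cl_eq {V : Opens T} (z : Se (K.cycles j) V) (y : Se (K.X j) V) (hz : ap (K.iCycles j) V z = y)
    (hy : ap (K.d j (j + 1)) V y = 0) : cl y hy = ap (K.homologyπ j) V z := by
  have h1 := (exists_cyc K j y hy).choose_spec
  have h2 : (exists_cyc K j y hy).choose = z := inj (K.iCycles j) V (h1.trans hz.symm)
  rw [cl, h2]

theorem closed_of_cyc {V : Opens T} (z : Se (K.cycles j) V) :
    ap (K.d j (j + 1)) V (ap (K.iCycles j) V z) = 0 := by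
  rw [← ap_comp, K.iCycles_d]
  rfl

theorem cl_add {V : Opens T} (y y' : Se (K.X j) V) (hy : ap (K.d j (j + 1)) V y = 0)
    (hy' : ap (K.d j (j + 1)) V y' = 0) (hyy' : ap (K.d j (j + 1)) V (y + y') = 0) :
    cl (y + y') hyy' = cl y hy + cl y' hy' := by
  obtain ⟨z, rfl⟩ := exists_cyc K j y hy
  obtain ⟨z', rfl⟩ := exists_cyc K j y' hy'
  rw [cl_eq z _ rfl, cl_eq z' _ rfl, cl_eq (z + z') _ (map_add _ _ _), map_add]

theorem cl_rs {V W : Opens T} (h : W ≤ V) (y : Se (K.X j) V) (hy : ap (K.d j (j + 1)) V y = 0)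
    (hy' : ap (K.d j (j + 1)) W (rs (K.X j) h y) = 0) :
    rs (K.homology j) h (cl y hy) = cl (rs (K.X j) h y) hy' := by
  obtain ⟨z, rfl⟩ := exists_cyc K j y hy
  rw [cl_eq z _ rfl, cl_eq (rs (K.cycles j) h z) _ (ap_rs _ _ _), ap_rs]

theorem cl_d {V : Opens T} (i : ℕ) (b : Se (K.X i) V) (hb : ap (K.d j (j + 1)) V (ap (K.d i j) V b) = 0) :
    cl (ap (K.d i j) V b) hb = 0 := by
  rw [cl_eq (ap (K.toCycles i j) V b) _ (by rw [← ap_comp, K.toCycles_i]), ← ap_comp, K.toCycles_comp_homologyπ]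
  rfl

theorem closed_d {V : Opens T} (i : ℕ) (b : Se (K.X i) V) : ap (K.d j (j + 1)) V (ap (K.d i j) V b) = 0 := by
  rw [← ap_comp, K.d_comp_d]
  rfl

/-- A vanishing class is locally exact. -/
theorem locally_of_cl {V : Opens T} (y : Se (K.X j) V) (hy : ap (K.d j (j + 1)) V y = 0) (h0 : cl y hy = 0)
    (x : T) (hx : x ∈ V) : ∃ (W : Opens T) (h : W ≤ V), x ∈ W ∧ ∃ b : Se (K.X ((ComplexShape.up ℕ).prev j)) W,
      ap (K.d _ j) W b = rs (K.X j) h y := by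
  obtain ⟨z, rfl⟩ := exists_cyc K j y hy
  rw [cl_eq z _ rfl] at h0
  obtain ⟨W, h, hxW, b, hb⟩ := exists_of_exact
    (ShortComplex.mk (K.toCycles ((ComplexShape.up ℕ).prev j) j) (K.homologyπ j) (by simp))
    (ShortComplex.exact_of_g_is_cokernel _ (K.homologyIsCokernel _ j rfl)) z h0 x hx
  refine ⟨W, h, hxW, b, ?_⟩
  change ap (K.toCycles _ j) W b = rs (K.cycles j) h z at hb
  rw [← ap_rs, ← hb, ← ap_comp, K.toCycles_i]

/-- Classes are locally represented. -/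
theorem locally_rep {V : Opens T} (t : Se (K.homology j) V) (x : T) (hx : x ∈ V) :
    ∃ (W : Opens T) (h : W ≤ V), x ∈ W ∧ ∃ (y : Se (K.X j) W) (hy : ap (K.d j (j + 1)) W y = 0),
      cl y hy = rs (K.homology j) h t := by
  obtain ⟨W, h, hxW, z, hz⟩ := surj_locally (K.homologyπ j) t x hx
  exact ⟨W, h, hxW, _, closed_of_cyc z, (cl_eq z _ rfl _).trans hz⟩

theorem cl_map {K' : CochainComplex (Sh T) ℕ} (φ : K ⟶ K') {V : Opens T} (y : Se (K.X j) V)
    (hy : ap (K.d j (j + 1)) V y = 0) (hy' : ap (K'.d j (j + 1)) V (ap (φ.f j) V y) = 0) :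
    ap (HomologicalComplex.homologyMap φ j) V (cl y hy) = cl (ap (φ.f j) V y) hy' := by
  obtain ⟨z, rfl⟩ := exists_cyc K j y hy
  rw [cl_eq z _ rfl, cl_eq (ap (HomologicalComplex.cyclesMap φ j) V z) _ ?_, ← ap_comp, ← ap_comp,
    HomologicalComplex.homologyπ_naturality]
  rw [← ap_comp, ← ap_comp, HomologicalComplex.cyclesMap_i]

end cl

/-- Representatives. -/
structure Rep (𝓑 : Set (Opens T)) (K : CochainComplex (Sh T) ℕ) (F : Sh T) (j : ℕ) where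
  /-- the representative -/
  c : ∀ V : 𝓑, Se F V.1 →+ Se (K.X j) V.1
  closed : ∀ (V : 𝓑) (s : Se F V.1), ap (K.d j (j + 1)) V.1 (c V s) = 0
  compat : ∀ (V W : 𝓑) (h : W.1 ≤ V.1) (s : Se F V.1), ∃ b : Se (K.X ((ComplexShape.up ℕ).prev j)) W.1,
    rs (K.X j) h (c V s) = c W (rs F h s) + ap (K.d _ j) W.1 b
  inj : ∀ (V : 𝓑) (s : Se F V.1) (b : Se (K.X ((ComplexShape.up ℕ).prev j)) V.1),
    c V s = ap (K.d _ j) V.1 b → s = 0
  surj : ∀ (V : 𝓑) (y : Se (K.X j) V.1), ap (K.d j (j + 1)) V.1 y = 0 →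
    ∃ (s : Se F V.1) (b : Se (K.X ((ComplexShape.up ℕ).prev j)) V.1), y = c V s + ap (K.d _ j) V.1 b

variable {𝓑 : Set (Opens T)} (hB : ∀ (U : Opens T) (x : T), x ∈ U → ∃ V ∈ 𝓑, x ∈ V ∧ V ≤ U)
  {K : CochainComplex (Sh T) ℕ} {F : Sh T} {j : ℕ} (R : Rep 𝓑 K F j)

namespace Rep

/-- The map on the basis. -/
noncomputable def g (V : 𝓑) : Se F V.1 →+ Se (K.homology j) V.1 :=
  AddMonoidHom.mk' (fun s => cl (R.c V s) (R.closed V s)) (fun s t => by
    have h1 : R.c V (s + t) = R.c V s + R.c V t := map_add _ _ _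
    have h2 := cl_add (R.c V s) (R.c V t) (R.closed V s) (R.closed V t) (by rw [← h1]; exact R.closed V _)
    rw [← h2]
    congr 1)

theorem g_apply (V : 𝓑) (s : Se F V.1) : R.g V s = cl (R.c V s) (R.closed V s) := rfl

theorem cl_congr {V : Opens T} {y y' : Se (K.X j) V} (h : y = y') (hy : ap (K.d j (j + 1)) V y = 0) :
    cl y hy = cl y' (h ▸ hy) := by
  subst h
  rfl

theorem g_nat (V W : 𝓑) (h : W.1 ≤ V.1) (s : Se F V.1) : R.g W (rs F h s) = rs (K.homology j) h (R.g V s) := by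
  obtain ⟨b, hb⟩ := R.compat V W h s
  have h1 : ap (K.d j (j + 1)) W.1 (rs (K.X j) h (R.c V s)) = 0 := by rw [ap_rs, R.closed, map_zero]
  rw [g_apply, g_apply, cl_rs h _ _ h1, cl_congr hb h1, cl_add _ _ (R.closed W _) (closed_d _ b), cl_d, add_zero]

/-- The morphism. -/
noncomputable def γ : F ⟶ K.homology j := ofBasis hB R.g R.g_nat

theorem γ_ap (V : 𝓑) (s : Se F V.1) : ap (R.γ hB) V.1 s = cl (R.c V s) (R.closed V s) := ofBasis_ap hB _ _ V s

include hB in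
theorem mono_γ : Mono (R.γ hB) := by
  refine mono_of_inj _ fun U s hs => eq_of_locally F fun x hx => ?_
  obtain ⟨V, hV, hxV, hVU⟩ := hB U x hx
  have h1 : ap (R.γ hB) V (rs F hVU s) = 0 := by rw [ap_rs, hs, map_zero]
  rw [R.γ_ap hB ⟨V, hV⟩] at h1
  obtain ⟨W', h', hxW', b, hb⟩ := locally_of_cl _ _ h1 x hxV
  obtain ⟨W, hW, hxW, hWW'⟩ := hB W' x hxW'
  obtain ⟨b', hb'⟩ := R.compat ⟨V, hV⟩ ⟨W, hW⟩ (hWW'.trans h') (rs F hVU s)
  refine ⟨W, (hWW'.trans h').trans hVU, hxW, ?_⟩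
  rw [map_zero]
  refine R.inj ⟨W, hW⟩ _ (rs _ hWW' b - b') ?_
  rw [rs_rs] at hb'
  rw [map_sub, ap_rs, hb, rs_rs, hb']
  abel

include hB in
theorem epi_γ : Epi (R.γ hB) := by
  refine epi_of_locally _ fun U t x hx => ?_
  obtain ⟨W', h', hxW', y, hy, hyt⟩ := locally_rep t x hx
  obtain ⟨V, hV, hxV, hVW'⟩ := hB W' x hxW'
  have h1 : ap (K.d j (j + 1)) V (rs (K.X j) hVW' y) = 0 := by rw [ap_rs, hy, map_zero]
  obtain ⟨s, b, hsb⟩ := R.surj ⟨V, hV⟩ _ h1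
  refine ⟨V, hVW'.trans h', hxV, s, ?_⟩
  rw [R.γ_ap hB ⟨V, hV⟩, ← rs_rs _ h' hVW', ← hyt, cl_rs _ _ _ h1, cl_congr hsb h1,
    cl_add _ _ (R.closed ⟨V, hV⟩ _) (closed_d _ b), cl_d, add_zero]

include hB in
theorem isIso_γ : IsIso (R.γ hB) := by
  have := R.mono_γ hB
  have := R.epi_γ hB
  exact isIso_of_mono_of_epi _

/-- The isomorphism. -/
noncomputable def iso : F ≅ K.homology j :=
  haveI := R.isIso_γ hB
  asIso (R.γ hB)

theorem iso_hom : (R.iso hB).hom = R.γ hB := rfl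

/-- Naturality. -/
theorem γ_naturality {K' : CochainComplex (Sh T) ℕ} {F' : Sh T} (R' : Rep 𝓑 K' F' j) (φF : F ⟶ F') (φ : K ⟶ K')
    (H : ∀ (V : 𝓑) (s : Se F V.1), ∃ b : Se (K'.X ((ComplexShape.up ℕ).prev j)) V.1,
      ap (φ.f j) V.1 (R.c V s) = R'.c V (ap φF V.1 s) + ap (K'.d _ j) V.1 b) :
    φF ≫ R'.γ hB = R.γ hB ≫ HomologicalComplex.homologyMap φ j := by
  refine hom_ext_of_basis hB fun V hV s => ?_
  obtain ⟨b, hb⟩ := H ⟨V, hV⟩ s
  have h1 : ap (K'.d j (j + 1)) V (ap (φ.f j) V (R.c ⟨V, hV⟩ s)) = 0 := by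
    have h2 : ap (K.d j (j + 1)) V (R.c ⟨V, hV⟩ s) = 0 := R.closed ⟨V, hV⟩ s
    rw [← ap_comp, φ.comm, ap_comp, h2, map_zero]
  rw [ap_comp, ap_comp, R'.γ_ap hB ⟨V, hV⟩, R.γ_ap hB ⟨V, hV⟩, cl_map φ _ _ h1, cl_congr hb h1,
    cl_add _ _ (R'.closed ⟨V, hV⟩ _) (closed_d _ b), cl_d, add_zero]

end Rep

end K905.ShRep
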