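import Groth.Agent.DelIll.K905.CartLoc
import Groth.Agent.DelIll.K905.ShRep
import Groth.Agent.DelIll.K905.GeoPhi
import Groth.Prelude.Def_KLinDR

/-!
# The Cartier isomorphism for sheaves: `toAb (Ω^j) ≅ H^j(K)`, `K` a de Rham complex in characteristic `p`
-/

set_option autoImplicit false
set_option linter.unusedSectionVars false
set_option linter.style.haveILetI false
universe u u'

open CategoryTheory CategoryTheory.Limits AlgebraicGeometry Opposite TopologicalSpace K904 K905.TotPhi K905.TotLocal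
open K905.ShLoc K905.ShRep K905.GeoPhi K905.CartLoc

namespace K905.CartSh

/-! ### Ring level compatibility -/

section ring

variable (p : ℕ) [hp : Fact p.Prime] {B L J : Type*} [CommRing B] [CharP B p] [AddCommGroup L] [Module B L]
  [LinearOrder J] [Fintype J] {x : J → B} {δ : B →+ L} {e : Module.Basis J B L}
  {B' L' J' : Type*} [CommRing B'] [CharP B' p] [AddCommGroup L'] [Module B' L']
  [LinearOrder J'] [Fintype J'] {x' : J' → B'} {δ' : B' →+ L'} {e' : Module.Basis J' B' L'}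
  (h : LocalCartier.LogChart p (fun _ : J => False) x δ e)
  (h' : LocalCartier.LogChart p (fun _ : J' => False) x' δ' e')
  (ρ : B →+* B') (g : L →+ L') (hg : ∀ (b : B) (v : L), g (b • v) = ρ b • g v) (hδ : ∀ b, g (δ b) = δ' (ρ b))

include h in
theorem span_top (m : L) : m ∈ Submodule.span B (Set.range δ) := by
  refine Submodule.span_mono ?_ (e.mem_span m)
  rintro _ ⟨j, rfl⟩
  exact ⟨x j, h.plain j not_false⟩

theorem extR_prev (n : ℕ) (w : ExteriorAlgebra B L) (hw : w ∈ prevL (A := B) L n) :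
    Semi.extR ρ g hg w ∈ prevL (A := B') L' n := by
  cases n with
  | zero =>
    rw [show w = 0 from hw, map_zero]
    exact Submodule.zero_mem _
  | succ n => exact Semi.extR_mem _ _ _ n w hw

include h h' hδ in
theorem compat (n : ℕ) (y : ExteriorAlgebra B L) (hy : y ∈ ⋀[B]^n L) :
    ∃ w ∈ prevL (A := B') L' n, Semi.extR ρ g hg (cI p x e y) = cI p x' e' (Semi.extR ρ g hg y) + dI δ' e' w := by
  have hy2 := mem_closure δ (span_top p h) n y hy
  clear hy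
  induction hy2 using AddSubgroup.closure_induction with
  | mem z hz =>
    obtain ⟨b, a, rfl⟩ := hz
    obtain ⟨w, hw, hcw⟩ := cI_gen p h b a
    obtain ⟨w', hw', hcw'⟩ := cI_gen p h' (ρ b) (fun i => ρ (a i))
    have e1 : Semi.extR ρ g hg (b • ExteriorAlgebra.ιMulti B n (fun i => δ (a i))) =
        ρ b • ExteriorAlgebra.ιMulti B' n (fun i => δ' (ρ (a i))) := by
      rw [Semi.extR_smul, Semi.extR_ιMulti]
      simp only [hδ]
    have e2 : Semi.extR ρ g hg (gen p (δ := δ) b a) = gen p (δ := δ') (ρ b) (fun i => ρ (a i)) := by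
      rw [gen, gen, Semi.extR_smul, Semi.extR_ιMulti, map_mul, map_pow, map_prod]
      simp only [hδ, map_pow]
    refine ⟨Semi.extR ρ g hg w - w', Submodule.sub_mem _ (extR_prev ρ g hg n w hw) hw', ?_⟩
    rw [e1, hcw', hcw, map_add, e2, map_sub, DR.extR_d h h' ρ g hg hδ (fun _ hj => hj.elim)]
    abel
  | zero => exact ⟨0, Submodule.zero_mem _, by simp only [map_zero, add_zero]⟩
  | add a b _ _ ha hb =>
    obtain ⟨w, hw, hcw⟩ := ha
    obtain ⟨w', hw', hcw'⟩ := hb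
    refine ⟨w + w', Submodule.add_mem _ hw hw', ?_⟩
    rw [map_add (cI p x e), map_add (Semi.extR ρ g hg), hcw, hcw', map_add (Semi.extR ρ g hg), map_add (cI p x' e'),
      map_add (dI δ' e')]
    abel
  | neg a _ ha =>
    obtain ⟨w, hw, hcw⟩ := ha
    refine ⟨-w, Submodule.neg_mem _ hw, ?_⟩
    rw [map_neg (cI p x e), map_neg (Semi.extR ρ g hg), hcw, map_neg (Semi.extR ρ g hg), map_neg (cI p x' e'),
      map_neg (dI δ' e')]
    abel

end ring

variable {p : ℕ} [hp : Fact p.Prime] {X S : Scheme.{u}} {f : X ⟶ S} {Ω' : X.Modules} {δ : OmegaSh.Der f Ω'}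

variable (p δ) in
/-- Chart opens. -/
structure IsC (V : X.Opens) : Prop where
  aff : IsAffineOpen V
  chart : ∃ (_ : CharP Γ(X, V) p) (n : ℕ) (x : Fin n → Γ(X, V)) (e : Module.Basis (Fin n) Γ(X, V) Γ(Ω', V)),
    LocalCartier.LogChart p (fun _ : Fin n => False) x (δ.app V) e

variable (p δ) in
/-- The set of chart opens. -/
def chs : Set (Opens X) := {V | IsC p δ V}

/-- A choice of chart. -/
structure Cho (p : ℕ) [Fact p.Prime] (δ : OmegaSh.Der f Ω') (V : X.Opens) where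
  cp : CharP Γ(X, V) p
  n : ℕ
  x : Fin n → Γ(X, V)
  e : Module.Basis (Fin n) Γ(X, V) Γ(Ω', V)
  h : LocalCartier.LogChart p (fun _ : Fin n => False) x (δ.app V) e

/-- The chosen chart. -/
noncomputable def cho (V : chs p δ) : Cho p δ V.1 :=
  let h := V.2.chart
  ⟨h.choose, h.choose_spec.choose, h.choose_spec.choose_spec.choose, h.choose_spec.choose_spec.choose_spec.choose,
    h.choose_spec.choose_spec.choose_spec.choose_spec⟩

/-- The affine open. -/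
def aO (V : chs p δ) : X.affineOpens := ⟨V.1, V.2.aff⟩

/-- The inverse Cartier operator on the chosen chart. -/
noncomputable def cV (V : chs p δ) : ExteriorAlgebra Γ(X, V.1) Γ(Ω', V.1) →+* ExteriorAlgebra Γ(X, V.1) Γ(Ω', V.1) :=
  letI := (cho V).cp
  cI p (cho V).x (cho V).e

/-- The differential. -/
noncomputable def dV (V : chs p δ) : ExteriorAlgebra Γ(X, V.1) Γ(Ω', V.1) →+ ExteriorAlgebra Γ(X, V.1) Γ(Ω', V.1) :=
  dI (δ.app V.1) (cho V).e

theorem isDR_V (V : chs p δ) : IsDR (δ.app V.1) (dV V) :=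
  letI := (cho V).cp
  isDR p (cho V).h

theorem span_V (V : chs p δ) (m : Γ(Ω', V.1)) : m ∈ Submodule.span Γ(X, V.1) (Set.range (δ.app V.1)) :=
  letI := (cho V).cp
  span_top p (cho V).h m

theorem cV_smul (V : chs p δ) (b : Γ(X, V.1)) (y : ExteriorAlgebra Γ(X, V.1) Γ(Ω', V.1)) :
    cV V (b • y) = b ^ p • cV V y :=
  letI := (cho V).cp
  cI_smul p b y

theorem cV_mem (V : chs p δ) (n : ℕ) (y : ExteriorAlgebra Γ(X, V.1) Γ(Ω', V.1)) (hy : y ∈ ⋀[Γ(X, V.1)]^n Γ(Ω', V.1)) :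
    cV V y ∈ ⋀[Γ(X, V.1)]^n Γ(Ω', V.1) :=
  letI := (cho V).cp
  cI_mem p n y hy

theorem dV_cV (V : chs p δ) (y : ExteriorAlgebra Γ(X, V.1) Γ(Ω', V.1)) : dV V (cV V y) = 0 :=
  letI := (cho V).cp
  d_cI p (cho V).h y

theorem injV (V : chs p δ) (y w : ExteriorAlgebra Γ(X, V.1) Γ(Ω', V.1)) (h : cV V y = dV V w) : y = 0 :=
  letI := (cho V).cp
  eq_zero_of_exact p (cho V).h y w h

theorem surjV (V : chs p δ) (n : ℕ) (y : ExteriorAlgebra Γ(X, V.1) Γ(Ω', V.1)) (hy : y ∈ ⋀[Γ(X, V.1)]^n Γ(Ω', V.1))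
    (hd : dV V y = 0) : ∃ z ∈ ⋀[Γ(X, V.1)]^n Γ(Ω', V.1), ∃ w ∈ prevL (A := Γ(X, V.1)) Γ(Ω', V.1) n,
      y = cV V z + dV V w :=
  letI := (cho V).cp
  exists_of_closed p (cho V).h n y hy hd

/-- Restriction of forms. -/
noncomputable abbrev rE {U V : X.Opens} (h : V ≤ U) :
    ExteriorAlgebra Γ(X, U) Γ(Ω', U) →+* ExteriorAlgebra Γ(X, V) Γ(Ω', V) :=
  Semi.extR (rO h) (rM Ω' h) (rM_smul Ω' h)

theorem compatV (V W : chs p δ) (h : W.1 ≤ V.1) (n : ℕ) (y : ExteriorAlgebra Γ(X, V.1) Γ(Ω', V.1))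
    (hy : y ∈ ⋀[Γ(X, V.1)]^n Γ(Ω', V.1)) :
    ∃ w ∈ prevL (A := Γ(X, W.1)) Γ(Ω', W.1) n, rE h (cV V y) = cV W (rE h y) + dV W w :=
  letI := (cho V).cp
  letI := (cho W).cp
  compat p (cho V).h (cho W).h (rO h) (rM Ω' h) (rM_smul Ω' h) (rM_δ h) n y hy

variable (D : DeRhamSh.Cx f Ω' δ)

/-- Sections of the complex over a chart. -/
noncomputable def secV (j : ℕ) (V : chs p δ) : ↥(⋀[Γ(X, V.1)]^j Γ(Ω', V.1)) ≃+ Se (D.K.X j) V.1 := sec D j (aO V)

theorem dd_mem' (V : chs p δ) (j : ℕ) (y : ExteriorAlgebra Γ(X, V.1) Γ(Ω', V.1)) (hy : y ∈ ⋀[Γ(X, V.1)]^j Γ(Ω', V.1)) :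
    dV V y ∈ ⋀[Γ(X, V.1)]^(j + 1) Γ(Ω', V.1) := dd_mem (span_V V) (isDR_V V) j y hy

theorem secV_d (j : ℕ) (V : chs p δ) (y : ↥(⋀[Γ(X, V.1)]^j Γ(Ω', V.1))) :
    ap (D.K.d j (j + 1)) V.1 (secV D j V y) = secV D (j + 1) V ⟨dV V y.1, dd_mem' V j y.1 y.2⟩ :=
  sec_d D j (aO V) (isDR_V V) (span_V V) y

theorem secV_rs (j : ℕ) (V W : chs p δ) (h : W.1 ≤ V.1) (y : ↥(⋀[Γ(X, V.1)]^j Γ(Ω', V.1))) :
    rs (D.K.X j) h (secV D j V y) = secV D j W ⟨rE h y.1, Semi.extR_mem _ _ _ _ _ y.2⟩ :=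
  sec_res D j (aO V) (aO W) h y

theorem exists_b (V : chs p δ) (j : ℕ) (w : ExteriorAlgebra Γ(X, V.1) Γ(Ω', V.1))
    (hw : w ∈ prevL (A := Γ(X, V.1)) Γ(Ω', V.1) j) (hdw : dV V w ∈ ⋀[Γ(X, V.1)]^j Γ(Ω', V.1)) :
    ∃ b : Se (D.K.X ((ComplexShape.up ℕ).prev j)) V.1, ap (D.K.d _ j) V.1 b = secV D j V ⟨dV V w, hdw⟩ := by
  cases j with
  | zero =>
    refine ⟨0, ?_⟩
    rw [map_zero]
    refine ((map_zero (secV D 0 V)).symm.trans (congrArg _ (Subtype.ext ?_)))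
    change 0 = dV V w
    rw [show w = 0 from hw, map_zero]
  | succ m =>
    have hprev : (ComplexShape.up ℕ).prev (m + 1) = m := CochainComplex.prev_nat_succ m
    rw [hprev]
    refine ⟨secV D m V ⟨w, hw⟩, ?_⟩
    exact secV_d D m V ⟨w, hw⟩

theorem exists_w (V : chs p δ) (j : ℕ) (b : Se (D.K.X ((ComplexShape.up ℕ).prev j)) V.1) :
    ∃ w ∈ prevL (A := Γ(X, V.1)) Γ(Ω', V.1) j, ∃ hdw : dV V w ∈ ⋀[Γ(X, V.1)]^j Γ(Ω', V.1),
      ap (D.K.d _ j) V.1 b = secV D j V ⟨dV V w, hdw⟩ := by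
  cases j with
  | zero =>
    refine ⟨0, Submodule.zero_mem _, by rw [map_zero]; exact Submodule.zero_mem _, ?_⟩
    have h0 : D.K.d ((ComplexShape.up ℕ).prev 0) 0 = 0 := D.K.shape _ _ (by simp)
    rw [h0]
    refine Eq.trans ?_ ((map_zero (secV D 0 V)).symm.trans (congrArg _ (Subtype.ext ?_)))
    · rfl
    · change 0 = dV V 0
      rw [map_zero]
  | succ m =>
    have hprev : (ComplexShape.up ℕ).prev (m + 1) = m := CochainComplex.prev_nat_succ m
    generalize (ComplexShape.up ℕ).prev (m + 1) = q at b hprev ⊢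
    subst hprev
    obtain ⟨Y, rfl⟩ := (secV D q V).surjective b
    exact ⟨Y.1, Y.2, dd_mem' V q Y.1 Y.2, secV_d D q V Y⟩

/-- The representatives. -/
noncomputable def cc (j : ℕ) (V : chs p δ) : ↥(⋀[Γ(X, V.1)]^j Γ(Ω', V.1)) →+ Se (D.K.X j) V.1 :=
  (secV D j V).toAddMonoidHom.comp (AddMonoidHom.mk' (fun y : ↥(⋀[Γ(X, V.1)]^j Γ(Ω', V.1)) =>
    (⟨cV V y.1, cV_mem V j y.1 y.2⟩ : ↥(⋀[Γ(X, V.1)]^j Γ(Ω', V.1)))) (fun a b => Subtype.ext (map_add (cV V) a.1 b.1)))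

theorem cc_apply (j : ℕ) (V : chs p δ) (y : ↥(⋀[Γ(X, V.1)]^j Γ(Ω', V.1))) :
    cc D j V y = secV D j V ⟨cV V y.1, cV_mem V j y.1 y.2⟩ := rfl

/-- The local coordinates of the sections of the terms. -/
noncomputable def lo (j : ℕ) (V : chs p δ) : Se (Coh.toAb (D.term j)) V.1 ≃+ ↥(⋀[Γ(X, V.1)]^j Γ(Ω', V.1)) :=
  (D.loc j (aO V)).toAddEquiv

theorem lo_rs (j : ℕ) (V W : chs p δ) (h : W.1 ≤ V.1) (s : Se (Coh.toAb (D.term j)) V.1) :
    (lo D j W (rs _ h s)).1 = rE h (lo D j V s).1 := by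
  obtain ⟨y, rfl⟩ := (lo D j V).symm.surjective s
  have h1 := loc_res' D j (aO V) (aO W) h y
  rw [AddEquiv.apply_symm_apply]
  have h2 : lo D j W (rs _ h ((lo D j V).symm y)) = ⟨rE h y.1, Semi.extR_mem _ _ _ _ _ y.2⟩ := by
    rw [← AddEquiv.eq_symm_apply]
    exact h1
  rw [h2]

/-- **The representatives of the cohomology sheaves.** -/
noncomputable def rep (j : ℕ) : Rep (chs p δ) D.K (Coh.toAb (D.term j)) j where
  c V := (cc D j V).comp (lo D j V).toAddMonoidHom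
  closed V s := by
    change ap (D.K.d j (j + 1)) V.1 (cc D j V (lo D j V s)) = 0
    rw [cc_apply]
    refine (secV_d D j V _).trans ?_
    refine Eq.trans (congrArg _ (Subtype.ext ?_)) (map_zero (secV D (j + 1) V))
    exact dV_cV V _
  compat V W h s := by
    obtain ⟨w, hw, hcw⟩ := compatV V W h j (lo D j V s).1 (lo D j V s).2
    have hdw : dV W w ∈ ⋀[Γ(X, W.1)]^j Γ(Ω', W.1) := by
      have : dV W w = rE h (cV V (lo D j V s).1) - cV W (rE h (lo D j V s).1) := by rw [hcw]; abel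
      rw [this]
      exact Submodule.sub_mem _ (Semi.extR_mem _ _ _ _ _ (cV_mem V j _ (lo D j V s).2))
        (cV_mem W j _ (Semi.extR_mem _ _ _ _ _ (lo D j V s).2))
    obtain ⟨b, hb⟩ := exists_b D W j w hw hdw
    refine ⟨b, ?_⟩
    change rs (D.K.X j) h (cc D j V (lo D j V s)) = cc D j W (lo D j W (rs _ h s)) + _
    rw [hb, cc_apply, cc_apply, ← map_add]
    refine (secV_rs D j V W h _).trans ?_
    congr 1
    refine Subtype.ext ?_
    change rE h (cV V (lo D j V s).1) = cV W (lo D j W (rs _ h s)).1 + dV W w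
    rw [lo_rs, hcw]
  inj V s b hb := by
    obtain ⟨w, hw, hdw, hb2⟩ := exists_w D V j b
    have h1 : secV D j V ⟨cV V (lo D j V s).1, cV_mem V j _ (lo D j V s).2⟩ = secV D j V ⟨dV V w, hdw⟩ :=
      Eq.trans hb hb2
    have h2 := congrArg Subtype.val ((secV D j V).injective h1)
    have h3 := injV V _ w h2
    exact (lo D j V).map_eq_zero_iff.1 (Subtype.ext h3)
  surj V y hy := by
    obtain ⟨Y, rfl⟩ := (secV D j V).surjective y
    have h1 := secV_d D j V Y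
    have h2 : dV V Y.1 = 0 := by
      have h3 := (secV D (j + 1) V).map_eq_zero_iff.1 (h1.symm.trans hy)
      exact congrArg Subtype.val h3
    obtain ⟨z, hz, w, hw, hY⟩ := surjV V j Y.1 Y.2 h2
    have hdw : dV V w ∈ ⋀[Γ(X, V.1)]^j Γ(Ω', V.1) := by
      have : dV V w = Y.1 - cV V z := by rw [hY]; abel
      rw [this]
      exact Submodule.sub_mem _ Y.2 (cV_mem V j z hz)
    obtain ⟨b, hb⟩ := exists_b D V j w hw hdw
    refine ⟨(lo D j V).symm ⟨z, hz⟩, b, ?_⟩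
    change secV D j V Y = cc D j V (lo D j V ((lo D j V).symm ⟨z, hz⟩)) + _
    rw [hb, AddEquiv.apply_symm_apply, cc_apply, ← map_add]
    congr 1
    exact Subtype.ext hY

section iso

variable (hcov : ∀ (U : Opens X) (x : X), x ∈ U → ∃ V ∈ chs p δ, x ∈ V ∧ V ≤ U)

/-- **The Cartier isomorphism.** -/
noncomputable def iso (j : ℕ) : Coh.toAb (D.term j) ≅ D.K.homology j := (rep D j).iso hcov

theorem smulAb_lo (j : ℕ) (V : chs p δ) (r : Coh.Γtop X) (s : Se (Coh.toAb (D.term j)) V.1) :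
    lo D j V (ap (Coh.smulAb (D.term j) r) V.1 s) = (rO (le_top : V.1 ≤ ⊤) r) • lo D j V s :=
  (D.loc j (aO V)).map_smul (rO (le_top : V.1 ≤ ⊤) r) (show Γ(D.term j, V.1) from s)

theorem scalarEnd_secV {k : Type u'} [CommRing k] (c : k →+* Coh.Γtop X) (j : ℕ) (V : chs p δ) (a : k)
    (y : ↥(⋀[Γ(X, V.1)]^j Γ(Ω', V.1))) :
    ap (KLinDR.scalarEnd c D.term D.iso a j) V.1 (secV D j V y) =
      secV D j V ((rO (le_top : V.1 ≤ ⊤) (c a)) • y) := by
  have e1 : ap (KLinDR.scalarEnd c D.term D.iso a j) V.1 (secV D j V y) =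
      ap (D.iso j).inv V.1 (ap (Coh.smulAb (D.term j) (c a)) V.1 (ap (D.iso j).hom V.1 (secV D j V y))) := rfl
  have e2 : ap (D.iso j).hom V.1 (secV D j V y) = (lo D j V).symm y :=
    congr($((D.iso j).inv_hom_id).hom.app (op V.1) ((D.loc j (aO V)).symm y))
  rw [e1, e2]
  have e3 : ap (Coh.smulAb (D.term j) (c a)) V.1 ((lo D j V).symm y) =
      (lo D j V).symm ((rO (le_top : V.1 ≤ ⊤) (c a)) • y) := by
    rw [AddEquiv.eq_symm_apply, smulAb_lo, AddEquiv.apply_symm_apply]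
  rw [e3]
  rfl

/-- The Cartier isomorphism is Frobenius semilinear. -/
theorem smul_iso {k : Type u'} [CommRing k] {c : k →+* Coh.Γtop X} (h : KLinDR.TermwiseLinear c D.K D.term D.iso)
    (j : ℕ) (a : k) : Coh.smulAb (D.term j) (c a) ≫ (iso D hcov j).hom =
      (iso D hcov j).hom ≫ HomologicalComplex.homologyMap (KLinDR.scalarN h (a ^ p)) j := by
  refine (rep D j).γ_naturality hcov (rep D j) _ (KLinDR.scalarN h (a ^ p)) fun V s => ⟨0, ?_⟩
  rw [map_zero, add_zero]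
  change ap (KLinDR.scalarEnd c D.term D.iso (a ^ p) j) V.1 (cc D j V (lo D j V s)) =
    cc D j V (lo D j V (ap (Coh.smulAb (D.term j) (c a)) V.1 s))
  rw [cc_apply, cc_apply, scalarEnd_secV, smulAb_lo]
  congr 1
  refine Subtype.ext ?_
  change rO _ (c (a ^ p)) • cV V (lo D j V s).1 = cV V (rO _ (c a) • (lo D j V s).1)
  rw [cV_smul, map_pow]
  congr 1
  exact map_pow (rO (le_top : V.1 ≤ ⊤)) (c a) p

end iso

end K905.CartSh
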