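import Groth.Agent.DelIll.K905.Decomp
import Mathlib.Algebra.Homology.Embedding.ExtendHomology

/-!
# The decomposability criterion for complexes in non-negative degrees
-/

set_option autoImplicit false
universe w v u
open CategoryTheory CategoryTheory.Limits CategoryTheory.Pretriangulated DerivedCategory
open scoped ZeroObject

namespace K905.Decomp

variable {A : Type u} [Category.{v} A] [Abelian A] [HasDerivedCategory.{w} A]

/-- `H^i(Q K) ≅ H^i(K)`. -/
noncomputable def hQ (K : CochainComplex A ℤ) (i : ℤ) : (homologyFunctor A i).obj (Q.obj K) ≅ K.homology i :=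
  (homologyFunctorFactors A i).app K

theorem isZero_hQ (K : CochainComplex A ℤ) (i : ℤ) (h : K.ExactAt i) : IsZero ((homologyFunctor A i).obj (Q.obj K)) :=
  IsZero.of_iso (h.isZero_homology) (hQ K i)

theorem isIso_hQ {K L : CochainComplex A ℤ} (f : K ⟶ L) (i : ℤ) (h : QuasiIsoAt f i) :
    IsIso ((homologyFunctor A i).map (Q.map f)) := by
  rw [quasiIsoAt_iff_isIso_homologyMap] at h
  exact (NatIso.isIso_map_iff (homologyFunctorFactors A i) f).2 h

/-- **Criterion**, complexes in non-negative degrees. -/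
theorem complex (K : CochainComplex A ℕ) (a b : ℤ)
    (H : ∀ j : ℕ, a ≤ j → (j : ℤ) ≤ b → ∃ (C : CochainComplex A ℕ) (f : C ⟶ K),
      (∀ i : ℕ, a ≤ i → i ≠ j → C.ExactAt i) ∧ QuasiIsoAt f j) :
    Nonempty ((TStructure.t.truncGELE a b).obj (Q.obj (K.extend ComplexShape.embeddingUpNat)) ≅
      ⨁ (fun j : Finset.Icc a b => (singleFunctor A j.1).obj ((K.extend ComplexShape.embeddingUpNat).homology j.1))) := by
  have hneg : ∀ (C : CochainComplex A ℕ) (i : ℤ), i < 0 → (C.extend ComplexShape.embeddingUpNat).ExactAt i := by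
    intro C i hi
    refine HomologicalComplex.extend_exactAt _ _ _ fun j hj => ?_
    have : (j : ℤ) = i := hj
    omega
  obtain ⟨e⟩ := main (Q.obj (K.extend ComplexShape.embeddingUpNat)) a b (by
    intro j haj hjb
    by_cases hj : 0 ≤ j
    · obtain ⟨j, rfl⟩ := Int.eq_ofNat_of_zero_le hj
      obtain ⟨C, f, h1, h2⟩ := H j haj hjb
      refine ⟨Q.obj (C.extend ComplexShape.embeddingUpNat),
        Q.map (HomologicalComplex.extendMap f ComplexShape.embeddingUpNat), fun i hai hij => ?_, ?_⟩
      · by_cases hi : 0 ≤ i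
        · obtain ⟨i, rfl⟩ := Int.eq_ofNat_of_zero_le hi
          refine isZero_hQ _ _ ?_
          refine (HomologicalComplex.extend_exactAt_iff C ComplexShape.embeddingUpNat (j := i) (j' := (i : ℤ)) rfl).2 ?_
          exact h1 i hai fun h => hij (by rw [h])
        · exact isZero_hQ _ _ (hneg C i (by omega))
      · refine isIso_hQ _ _ ?_
        exact (HomologicalComplex.quasiIsoAt_extendMap_iff f ComplexShape.embeddingUpNat (j := j) (j' := (j : ℤ)) rfl).2 h2
    · have h0 : ∀ i, IsZero ((homologyFunctor A i).obj (0 : DerivedCategory A)) := fun i =>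
        Functor.map_isZero _ (isZero_zero _)
      refine ⟨0, 0, fun i _ _ => h0 i, ?_⟩
      exact (h0 j).isIso (isZero_hQ _ _ (hneg K j (by omega))) _)
  exact ⟨e ≪≫ biproduct.mapIso fun j => (singleFunctor A j.1).mapIso (hQ _ _)⟩

end K905.Decomp
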