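import Groth.Agent.DelIll.K905.Conj
import Groth.Agent.DelIll.K905.DecompCx
import Groth.Agent.DelIll.K905.CartSh
import Groth.Agent.DelIll.K905.HTSch

/-!
# Degeneration of the Hodge to de Rham spectral sequence from the degeneration of the conjugate one
-/

set_option autoImplicit false
set_option linter.unusedSectionVars false
universe w u

open CategoryTheory CategoryTheory.Limits AlgebraicGeometry Opposite TopologicalSpace DerivedCategory
open K905.HTExact K905.HD K905.Conj E1Deg KLinDR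

namespace K905.ConjSch

/-- Dimensions and semilinear isomorphisms. -/
theorem semilinear {k : Type*} [Field k] {M M' : Type*} [AddCommGroup M] [Module k M] [AddCommGroup M'] [Module k M']
    (τ : k ≃+* k) (Ψ : M ≃+ M') (h : ∀ (a : k) (x : M), Ψ (a • x) = τ a • Ψ x) :
    (Module.Finite k M' → Module.Finite k M) ∧ Module.finrank k M = Module.finrank k M' := by
  constructor
  · intro hf
    have h1 : RingHomSurjective (τ.symm : k →+* k) := ⟨τ.symm.surjective⟩
    let g : M' →ₛₗ[(τ.symm : k →+* k)] M :=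
      { toFun := Ψ.symm
        map_add' := map_add Ψ.symm
        map_smul' := fun a x => by
          rw [AddEquiv.symm_apply_eq, h, AddEquiv.apply_symm_apply]
          change a • x = τ (τ.symm a) • x
          rw [RingEquiv.apply_symm_apply] }
    exact Module.Finite.of_surjective g Ψ.symm.surjective
  · have h1 := lift_rank_eq_of_equiv_equiv (τ : k → k) Ψ τ.bijective h
    have h2 := congrArg Cardinal.toNat h1
    rw [Cardinal.toNat_lift, Cardinal.toNat_lift] at h2
    exact h2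

variable {p : ℕ} [hp : Fact p.Prime] {k : Type u} [Field k] [CharP k p] [PerfectRing k p] {X : Scheme.{u}}
  [X.Over (Spec (CommRingCat.of k))] {Ω' : X.Modules} {δ : OmegaSh.Der (X ↘ Spec (CommRingCat.of k)) Ω'}
  [HasDerivedCategory.{w} (Sheaf (Opens.grothendieckTopology X) AddCommGrpCat.{u})]
  (D : DeRhamSh.Cx (X ↘ Spec (CommRingCat.of k)) Ω' δ)
  (hcov : ∀ (U : Opens X) (x : X), x ∈ U → ∃ V ∈ CartSh.chs p δ, x ∈ V ∧ V ≤ U)
  (h : TermwiseLinear (Coh.toGlobal (X ↘ Spec (CommRingCat.of k))) D.K D.term D.iso)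

variable (X) in
/-- `ℤ_X` in degree `0`. -/
noncomputable abbrev P : DerivedCategory (Sheaf (Opens.grothendieckTopology X) AddCommGrpCat.{u}) :=
  (singleFunctor _ 0).obj (CohCx.freeSheaf (Opens.grothendieckTopology X) (⊤ : X.Opens))

/-- The complex in the derived category. -/
noncomputable abbrev E : DerivedCategory (Sheaf (Opens.grothendieckTopology X) AddCommGrpCat.{u}) := Q.obj D.KZ

/-- The action. -/
noncomputable abbrev ρ : k →+* End (E D) := (HTFin.mapEnd Q D.KZ).comp (scalar h)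

/-- Hypercohomology as a Hom space. -/
noncomputable def toV (n : ℤ) : HTρ (CohCx.freeSheaf (Opens.grothendieckTopology X) (⊤ : X.Opens)) D.KZ (scalar h) n ≃ₗ[k]
    V (P X) (ρ D h) n :=
  { AddEquiv.refl (E1Deg.HT (CohCx.freeSheaf (Opens.grothendieckTopology X) (⊤ : X.Opens)) D.KZ n) with
    map_smul' := fun _ _ => rfl }

/-- The Cartier isomorphism in the derived category. -/
noncomputable def ζ (j : ℕ) : Coh.toAb (D.term j) ≅ (homologyFunctor _ (j : ℤ)).obj (E D) :=
  CartSh.iso D hcov j ≪≫ (D.K.extendHomologyIso ComplexShape.embeddingUpNat (j := j) (j' := (j : ℤ)) rfl).symm ≪≫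
    (Decomp.hQ D.KZ j).symm

theorem ζ_smul (j : ℕ) (a : k) : Coh.smulAb (D.term j) (Coh.toGlobal (X ↘ Spec (CommRingCat.of k)) a) ≫
      (ζ D hcov j).hom = (ζ D hcov j).hom ≫ (homologyFunctor _ (j : ℤ)).map (ρ D h (a ^ p) : E D ⟶ E D) := by
  have e1 := CartSh.smul_iso D hcov h j a
  have e2 := HomologicalComplex.extendHomologyIso_hom_naturality (KLinDR.scalarN h (a ^ p) : D.K ⟶ D.K)
    ComplexShape.embeddingUpNat (j := j) (j' := (j : ℤ)) rfl
  have e3 : (homologyFunctor _ (j : ℤ)).map (ρ D h (a ^ p) : E D ⟶ E D) ≫ (Decomp.hQ D.KZ j).hom =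
    (Decomp.hQ D.KZ j).hom ≫ HomologicalComplex.homologyMap (scalar h (a ^ p) : D.KZ ⟶ D.KZ) (j : ℤ) :=
    (homologyFunctorFactors _ (j : ℤ)).hom.naturality (scalar h (a ^ p) : D.KZ ⟶ D.KZ)
  rw [← cancel_mono (Decomp.hQ D.KZ j).hom, Category.assoc, Category.assoc, e3]
  simp only [ζ, Iso.trans_hom, Iso.symm_hom, Category.assoc, Iso.inv_hom_id, Iso.inv_hom_id_assoc, Category.comp_id]
  rw [← cancel_mono (D.K.extendHomologyIso ComplexShape.embeddingUpNat (j := j) (j' := (j : ℤ)) rfl).hom]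
  simp only [Category.assoc, Iso.inv_hom_id, Category.comp_id]
  rw [e1]
  congr 1
  rw [Iso.eq_inv_comp]
  exact e2.symm

include hcov in
/-- Hypercohomology of the cohomology sheaves is Hodge cohomology. -/
theorem grade (j m : ℕ) (n : ℤ) (hn : (j : ℤ) + m = n) :
    (Module.Finite k (Coh.HH X (D.term j) m) → Module.Finite k (V (P X) (ρH (E D) (ρ D h) j) n)) ∧
      Module.finrank k (V (P X) (ρH (E D) (ρ D h) j) n) = Module.finrank k (Coh.HH X (D.term j) m) := by
  let Ψ : V (P X) (ρH (E D) (ρ D h) j) n ≃+ Coh.HH X (D.term j) m :=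
    HTSingle.grAdd (HTSch.zIso X) (ζ D hcov j).symm (j : ℤ) n m hn
  refine semilinear (frobeniusEquiv k p).symm Ψ fun a x => ?_
  obtain ⟨b, rfl⟩ := (frobeniusEquiv k p).surjective a
  rw [RingEquiv.symm_apply_apply]
  have h1 := ζ_smul D hcov h j b
  have h2 : (homologyFunctor _ (j : ℤ)).map (ρ D h (b ^ p) : E D ⟶ E D) ≫ (ζ D hcov j).symm.hom =
      (ζ D hcov j).symm.hom ≫ Coh.smulAb (D.term j) (Coh.toGlobal (X ↘ Spec (CommRingCat.of k)) b) := by
    rw [Iso.symm_hom, Iso.eq_inv_comp, ← Category.assoc, ← h1, Category.assoc, Iso.hom_inv_id, Category.comp_id]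
  exact HTSingle.grAdd_naturality (HTSch.zIso X) (ζ D hcov j).symm (ζ D hcov j).symm (j : ℤ) n m hn _ _ h2 (H.to x)

include hcov in
/-- The same, for the graded pieces of the tower. -/
theorem gradeG (j m : ℕ) (n : ℤ) (hn : (j : ℤ) + m = n) :
    (Module.Finite k (Coh.HH X (D.term j) m) → Module.Finite k (V (P X) ((tow (E D) (ρ D h)).ρG j) n)) ∧
      Module.finrank k (V (P X) ((tow (E D) (ρ D h)).ρG j) n) = Module.finrank k (Coh.HH X (D.term j) m) := by
  obtain ⟨h1, h2⟩ := grade D hcov h j m n hn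
  let e := gEquiv (E D) (ρ D h) (P X) j n
  refine ⟨fun hf => ?_, e.finrank_eq.trans h2⟩
  have := h1 hf
  exact Module.Finite.equiv e.symm

omit [CharP k p] [PerfectRing k p] in
theorem subsingleton_G (j n : ℤ) (hn : n < j) :
    Subsingleton (P X ⟶ (shiftFunctor _ n).obj (G (E D) j)) :=
  HTSingle.subsingleton_HT_single _ _ j n hn

omit [HasDerivedCategory.{w} (Sheaf (Opens.grothendieckTopology X) AddCommGrpCat.{u})] in
theorem subsingleton_HH (M : X.Modules) (hM : IsZero (Coh.toAb M)) (m : ℕ) : Subsingleton (Coh.HH X M m) := by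
  have h0 : ∀ x : Coh.HH X M m, x = 0 := fun x => by
    have h1 : 𝟙 (Coh.toAb M) = 0 := hM.eq_of_src _ _
    have h2 : Abelian.Ext.comp x (Abelian.Ext.mk₀ (𝟙 (Coh.toAb M))) (add_zero m) = x := Abelian.Ext.comp_mk₀_id x
    rw [← h2, h1, Abelian.Ext.mk₀_zero, Abelian.Ext.comp_zero]
  exact ⟨fun x y => (h0 x).trans (h0 y).symm⟩

theorem isGE : TStructure.t.IsGE (E D) 0 := by
  have h1 : D.KZ.IsStrictlyGE 0 := by
    rw [CochainComplex.isStrictlyGE_iff]
    exact HTSch.isZero_extend_neg D.K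
  change (Q.obj D.KZ).IsGE 0
  infer_instance

theorem isLE (N : ℕ) (hN : ∀ i, N ≤ i → IsZero (D.term i)) : TStructure.t.IsLE (E D) ((N : ℤ) - 1) := by
  have h1 : D.KZ.IsStrictlyLE ((N : ℤ) - 1) := by
    rw [CochainComplex.isStrictlyLE_iff]
    exact fun i hi => HTSch.isZero_extend_of_le D.iso N hN i (by omega)
  change (Q.obj D.KZ).IsLE ((N : ℤ) - 1)
  infer_instance

include hcov in
/-- **The conjugate count.** -/
theorem count (hfin : ∀ i m, Module.Finite k (Coh.HH X (D.term i) m)) (N : ℕ) (hN : ∀ i, N ≤ i → IsZero (D.term i))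
    (n : ℕ) (hS : ∀ j : ℕ, j < N → (tow (E D) (ρ D h)).Sj (P X) j n)
    (hS' : ∀ j : ℕ, j < N → (tow (E D) (ρ D h)).Sj (P X) j (n - 1)) :
    Module.finrank k (HTρ (CohCx.freeSheaf (Opens.grothendieckTopology X) (⊤ : X.Opens)) D.KZ (scalar h) n) =
      ∑ i ∈ Finset.range (n + 1), Module.finrank k (Coh.HH X (D.term i) (n - i)) := by
  have hdeg : ∀ j : ℤ, 0 ≤ j → j < 0 + (N : ℤ) → ∃ j' : ℕ, (j' : ℤ) = j ∧ j' < N := fun j h1 h2 =>
    ⟨j.toNat, by omega, by omega⟩
  have hG : ∀ j : ℤ, 0 ≤ j → j < 0 + (N : ℤ) → Module.Finite k (V (P X) ((tow (E D) (ρ D h)).ρG j) n) := by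
    intro j h1 h2
    obtain ⟨j, rfl, hj⟩ := hdeg j h1 h2
    by_cases hjn : j ≤ n
    · exact (gradeG D hcov h j (n - j) n (by omega)).1 (hfin _ _)
    · have : Subsingleton (V (P X) ((tow (E D) (ρ D h)).ρG j) n) := subsingleton_G D j n (by omega)
      infer_instance
  obtain ⟨c1, c2⟩ := (tow (E D) (ρ D h)).count (P X) n 0 (subsingleton_F (E D) (P X) 0 (isGE D) n) N hG
    (fun j h1 h2 => by
      obtain ⟨j, rfl, hj⟩ := hdeg j h1 h2
      exact hS j hj)
    (fun j h1 h2 => by
      obtain ⟨j, rfl, hj⟩ := hdeg j h1 h2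
      exact hS' j hj)
  have e1 : (0 : ℤ) + N - 1 = N - 1 := by ring
  rw [e1] at c2
  rw [(toV D h n).finrank_eq, ← (topEquiv (E D) (ρ D h) (P X) ((N : ℤ) - 1) (isLE D N hN) n).finrank_eq]
  refine Eq.trans c2 ?_
  have h3 : ∀ i, N ≤ i → ∀ m, Module.finrank k (Coh.HH X (D.term i) m) = 0 := fun i hi m => by
    have h4 := HTSch.isZero_extend_of_le D.iso N hN i (by omega)
    have h5 : IsZero (Coh.toAb (D.term i)) := Functor.map_isZero (SheafOfModules.toSheaf X.ringCatSheaf) (hN i hi)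
    have h6 : Subsingleton (Coh.HH X (D.term i) m) := subsingleton_HH _ h5 m
    exact Module.finrank_zero_of_subsingleton
  have h4 : ∀ j : ℕ, Module.finrank k (V (P X) ((tow (E D) (ρ D h)).ρG (0 + (j : ℤ))) n) =
      if j ≤ n then Module.finrank k (Coh.HH X (D.term j) (n - j)) else 0 := by
    intro j
    rw [zero_add]
    split_ifs with hj
    · exact (gradeG D hcov h j (n - j) n (by omega)).2
    · have : Subsingleton (V (P X) ((tow (E D) (ρ D h)).ρG j) n) := subsingleton_G D j n (by omega)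
      exact Module.finrank_zero_of_subsingleton
  simp only [h4]
  rw [← Finset.sum_filter]
  refine Finset.sum_subset_zero_on_sdiff ?_ ?_ (fun _ _ => rfl)
  · intro j hj
    simp only [Finset.mem_filter, Finset.mem_range] at hj ⊢
    omega
  · intro j hj
    simp only [Finset.mem_sdiff, Finset.mem_filter, Finset.mem_range] at hj
    exact h3 j (by omega) _

end K905.ConjSch
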