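import Groth.Agent.DeRhamSh.K853.CxAff
import Groth.Agent.DeRhamSh.K853.Terms
import Groth.Agent.OmegaSh.K583.DerFunct
import Groth.Agent.Nrm16.K136.UnivOmega
import Groth.Agent.S0002
import Groth.Agent.PerfA.CohSerre
import Groth.Agent.DelIll.K905.ConjSch

/-!
# Finiteness and linearity for de Rham complexes of smooth proper schemes over a field
-/

set_option autoImplicit false
universe w u

open CategoryTheory CategoryTheory.Limits AlgebraicGeometry Opposite TopologicalSpace exteriorPower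

namespace K905.FinSch

/-- Functoriality of the exterior power. -/
noncomputable def extCongr {R M N : Type*} [CommRing R] [AddCommGroup M] [Module R M] [AddCommGroup N] [Module R N]
    (p : ℕ) (e : M ≃ₗ[R] N) : ↥(⋀[R]^p M) ≃ₗ[R] ↥(⋀[R]^p N) :=
  LinearEquiv.ofLinearMap (exteriorPower.map p e.toLinearMap) (exteriorPower.map p e.symm.toLinearMap)
    (by rw [← exteriorPower.map_comp, LinearEquiv.comp_symm, exteriorPower.map_id])
    (by rw [← exteriorPower.map_comp, LinearEquiv.symm_comp, exteriorPower.map_id])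

theorem extCongr_ιMulti {R M N : Type*} [CommRing R] [AddCommGroup M] [Module R M] [AddCommGroup N] [Module R N]
    (p : ℕ) (e : M ≃ₗ[R] N) (m : Fin p → M) : extCongr p e (ιMulti R p m) = ιMulti R p (fun i => e (m i)) :=
  exteriorPower.map_apply_ιMulti _ _

/-- Sections of an isomorphism. -/
noncomputable def secEquiv {X : Scheme.{u}} {M N : X.Modules} (e : M ≅ N) (U : X.Opens) : Γ(M, U) ≃ₗ[Γ(X, U)] Γ(N, U) where
  toFun := e.hom.app U
  map_add' x y := map_add _ x y
  map_smul' a x := Scheme.Modules.Hom.app_smul _ _ _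
  invFun := e.inv.app U
  left_inv x := congr(Scheme.Modules.Hom.app $(e.hom_inv_id) U x)
  right_inv x := congr(Scheme.Modules.Hom.app $(e.inv_hom_id) U x)

/-- Change of receptacle. -/
noncomputable def cxOfIso {X S : Scheme.{u}} {f : X ⟶ S} {Ω₁ Ω₂ : X.Modules} {δ₁ : OmegaSh.Der f Ω₁}
    {δ₂ : OmegaSh.Der f Ω₂} (e : Ω₁ ≅ Ω₂)
    (he : ∀ (U : X.Opens) (a : Γ(X, U)), e.hom.app U (δ₁.app U a) = δ₂.app U a) (D : DeRhamSh.Cx f Ω₂ δ₂) :
    DeRhamSh.Cx f Ω₁ δ₁ where
  K := D.K
  term := D.term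
  iso := D.iso
  loc p U := (D.loc p U).trans (extCongr p (secEquiv e U.1)).symm
  loc_res p U V h a := by
    have h1 : ∀ (U : X.affineOpens) (a : Fin p → Γ(Ω₁, U.1)),
        ((D.loc p U).trans (extCongr p (secEquiv e U.1)).symm).symm (ιMulti _ p a) =
          (D.loc p U).symm (ιMulti _ p (fun i => secEquiv e U.1 (a i))) := fun U a => by
      change (D.loc p U).symm (extCongr p (secEquiv e U.1) (ιMulti _ p a)) = _
      rw [extCongr_ιMulti]
    rw [h1, h1, D.loc_res p U V h]
    congr 2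
    funext j
    exact (congr($(e.hom.val.naturality (homOfLE h).op) (a j))).symm
  rule p U b₀ b := by
    have h1 : ∀ (p : ℕ) (U : X.affineOpens) (a : Fin p → Γ(Ω₁, U.1)),
        ((D.loc p U).trans (extCongr p (secEquiv e U.1)).symm).symm (ιMulti _ p a) =
          (D.loc p U).symm (ιMulti _ p (fun i => secEquiv e U.1 (a i))) := fun p U a => by
      change (D.loc p U).symm (extCongr p (secEquiv e U.1) (ιMulti _ p a)) = _
      rw [extCongr_ιMulti]
    have h2 : ∀ (a : Γ(X, U.1)), secEquiv e U.1 (δ₁.app U.1 a) = δ₂.app U.1 a := fun a => he U.1 a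
    have h3 := D.rule p U b₀ b
    rw [map_smul] at h3 ⊢
    rw [h1, h1]
    simp only [h2]
    rw [h3]
    congr 4
    funext j
    refine Fin.cases ?_ (fun j => ?_) j
    · rw [Fin.cons_zero, Fin.cons_zero, h2]
    · rw [Fin.cons_succ, Fin.cons_succ, h2]

/-- Differentials are linear over the base. -/
theorem termwiseLinear {X : Scheme.{u}} {A : Type u} [CommRing A] (f : X ⟶ Spec (CommRingCat.of A)) [QuasiSeparated f]
    {Ω' : X.Modules} {d : OmegaSh.Der f Ω'} (hd : OmegaSh.IsUniversal d) (D : DeRhamSh.Cx f Ω' d) :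
    KLinDR.TermwiseLinear (Coh.toGlobal f) D.K D.term D.iso := by
  obtain ⟨e, he⟩ := K583.DerFunct.exists_iso_of_isUniversal (K136.UnivOmega.isUniversal_dOmega f) hd
  exact K853.CxAff.termwiseLinear f (cxOfIso e he D)

section field

variable {k : Type u} [Field k] {X : Scheme.{u}}

/-- The terms are finite locally free. -/
theorem isFinLocFree_term (f : X ⟶ Spec (CommRingCat.of k)) [QuasiSeparated f] [Smooth f]
    {Ω' : X.Modules} {d : OmegaSh.Der f Ω'} (hd : OmegaSh.IsUniversal d) (D : DeRhamSh.Cx f Ω' d) (i : ℕ) :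
    FlatMod.IsFinLocFree (D.term i) := by
  obtain ⟨e, he⟩ := K583.DerFunct.exists_iso_of_isUniversal (K136.UnivOmega.isUniversal_dOmega f) hd
  exact K853.Terms.isFinLocFree_term (K853.Terms.isFinLocFree_omega f) (cxOfIso e he D) i

/-- The terms vanish above some degree. -/
theorem exists_isZero (f : X ⟶ Spec (CommRingCat.of k)) [QuasiSeparated f] [Smooth f] [CompactSpace X]
    {Ω' : X.Modules} {d : OmegaSh.Der f Ω'} (hd : OmegaSh.IsUniversal d) (D : DeRhamSh.Cx f Ω' d) :
    ∃ N : ℕ, ∀ i, N ≤ i → IsZero (D.term i) := by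
  obtain ⟨e, he⟩ := K583.DerFunct.exists_iso_of_isUniversal (K136.UnivOmega.isUniversal_dOmega f) hd
  choose r U hx _ hU using K853.Terms.exists_relChart f
  obtain ⟨s, hs⟩ := isCompact_univ.elim_finite_subcover (fun x => (U x : Set X)) (fun x => (U x).2)
    (fun x _ => Set.mem_iUnion.2 ⟨x, hx x⟩)
  refine ⟨s.sup r + 1, fun i hi => ?_⟩
  refine K853.Terms.isZero_of_isExtPow (fun x => ?_) ((cxOfIso e he D).isExtPow i)
  obtain ⟨y, hy⟩ := Set.mem_iUnion.1 (hs (Set.mem_univ x))
  obtain ⟨hys, hxy⟩ := Set.mem_iUnion.1 hy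
  exact ⟨r y, U y, hxy, by have := Finset.le_sup (f := r) hys; omega, hU y⟩

/-- Vanishing above the dimension. -/
theorem isZero_term (f : X ⟶ Spec (CommRingCat.of k)) [QuasiSeparated f] [Smooth f]
    {Ω' : X.Modules} {d : OmegaSh.Der f Ω'} (hd : OmegaSh.IsUniversal d) (D : DeRhamSh.Cx f Ω' d)
    (n : ℕ) (hn : topologicalKrullDim ↥X ≤ n) (i : ℕ) (hi : n < i) : IsZero (D.term i) := by
  obtain ⟨e, he⟩ := K583.DerFunct.exists_iso_of_isUniversal (K136.UnivOmega.isUniversal_dOmega f) hd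
  exact K853.Terms.isZero_term f n hn (cxOfIso e he D) i hi

/-- Hodge cohomology is finite dimensional. -/
theorem finite_HH [X.Over (Spec (CommRingCat.of k))] [IsProper (X ↘ Spec (CommRingCat.of k))]
    [Smooth (X ↘ Spec (CommRingCat.of k))]
    {Ω' : X.Modules} {d : OmegaSh.Der (X ↘ Spec (CommRingCat.of k)) Ω'} (hd : OmegaSh.IsUniversal d)
    (D : DeRhamSh.Cx (X ↘ Spec (CommRingCat.of k)) Ω' d) (i m : ℕ) : Module.Finite k (Coh.HH X (D.term i) m) := by
  have : IsNoetherian X := K853.Terms.isNoetherian_of_field (X ↘ Spec (CommRingCat.of k))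
  exact Groth.Agent.S0002.result k X (D.term i)
    (Groth.Agent.PerfA.CohSerre.isCoh_of_isFinLocFree (isFinLocFree_term _ hd D i)) m

end field

end K905.FinSch
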