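import Groth.Agent.DelIll.K905.GeoMain
import Groth.Agent.DelIll.K904.GeoCh
import Groth.Agent.LogNCD.K922.Univ

/-!
# Lifted charts on a smooth scheme with a lifting
-/

set_option autoImplicit false
set_option linter.style.haveILetI false
universe u

open CategoryTheory CategoryTheory.Limits AlgebraicGeometry Opposite TopologicalSpace FrobAlg
open Groth.Agent.Sga67.Sec Groth.Agent.Sga67.LocBasis
open K905.GeoUp K905.GeoPhi K905.GeoMain

namespace K905.GeoCov

variable {p : ℕ} [hp : Fact p.Prime] {k : Type u} [Field k] [CharP k p] [PerfectRing k p] {X Xl : Scheme.{u}}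
  [X.Over (Spec (CommRingCat.of k))]
  {g : Xl ⟶ Spec (CommRingCat.of (W2 p k))} {i : X ⟶ Xl}

variable (p k X) in
omit hp [PerfectRing k p] in
include k in
theorem natCast_eq_zero (U : X.Opens) : ((p : ℕ) : Γ(X, U)) = 0 := by
  letI := K904.GeoDt.algO k (X := X) U
  have h : ((p : ℕ) : k) = 0 := CharP.cast_eq_zero k p
  rw [← map_natCast (algebraMap k Γ(X, U)) p, h, map_zero]

variable {Ω' : X.Modules} {δ : OmegaSh.Der (X ↘ Spec (CommRingCat.of k)) Ω'}

/-- **Local existence of lifted charts.** -/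
theorem exists_isCh (H : IsPullback i (X ↘ Spec (CommRingCat.of k)) g (Spec.map (CommRingCat.ofHom (res p k))))
    [Flat g] [Smooth (X ↘ Spec (CommRingCat.of k))] (hδ : OmegaSh.IsUniversal δ)
    (hi : Topology.IsOpenEmbedding i) (hp0 : ∀ U : X.Opens, ((p : ℕ) : Γ(X, U)) = 0)
    (U : X.Opens) (x : X) (hx : x ∈ U) : ∃ V ∈ chs hi hp0 δ, x ∈ V ∧ V ≤ U := by
  have := K904.GeoUp.isClosedImmersion H
  have := K904.GeoUp.surjective H
  obtain ⟨U₁, n, v, hx₁, hU₁, hv⟩ := K922.Coord.exists_isCoord (X ↘ Spec (CommRingCat.of k)) hx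
  obtain ⟨W, h, V, e, -, hxW, het⟩ := hv x U₁.1 le_rfl hx₁
  refine ⟨W.1, ⟨W.2, ?_⟩, hxW, h.trans hU₁⟩
  have : Nonempty W.1 := ⟨⟨x, hxW⟩⟩
  have hch : CharP Γ(X, W.1) p := K904.GeoDt.charP_sec p k W.1
  refine ⟨hch, n, ?_⟩
  letI := pz hp0 W.1
  letI := K904.GeoUp.alg (X ↘ Spec (CommRingCat.of k)) W.1
  have hlift := K904.GeoUp.isLift H W.2
  have hcoord := K904.GeoCh.coord_etale_of V.1 e _ het
  choose xt hxt using fun j => hlift.surj (resO X h (v j))
  have hb := (hv.restrict h).isLocBasis (K922.Univ.affUniv hδ)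
  have hbe : ∀ j, hb.basis le_rfl j = K922.DSec.dS δ W.1 (resO X h (v j)) := fun j => by
    rw [hb.basis_apply, res_self]
  obtain ⟨F, hF⟩ := MkChart.exists_chart hlift xt (by simpa only [hxt] using hcoord) (δ.app W.1)
    (δ_mul W.1) (hb.basis le_rfl) (fun j => (hbe j).trans (congrArg (δ.app W.1) (hxt j).symm))
  exact ⟨xt, hb.basis le_rfl, F, hF⟩

end K905.GeoCov
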