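import Groth.Agent.DelIll.K905.CartSh
import Groth.Agent.DelIll.K905.GeoCov

/-!
# The Cartier isomorphism on a smooth scheme over a perfect field
-/

set_option autoImplicit false
set_option linter.style.haveILetI false
universe u

open CategoryTheory CategoryTheory.Limits AlgebraicGeometry Opposite TopologicalSpace FrobAlg
open Groth.Agent.Sga67.Sec Groth.Agent.Sga67.LocBasis

namespace K905.CartCov

variable {p : ℕ} [hp : Fact p.Prime] {k : Type u} [Field k] [CharP k p] [PerfectRing k p] {X : Scheme.{u}}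
  [X.Over (Spec (CommRingCat.of k))] {Ω' : X.Modules} {δ : OmegaSh.Der (X ↘ Spec (CommRingCat.of k)) Ω'}

variable (p) in
include k in
/-- **Local existence of charts.** -/
theorem exists_isC [Smooth (X ↘ Spec (CommRingCat.of k))] (hδ : OmegaSh.IsUniversal δ)
    (U : Opens X) (x : X) (hx : x ∈ U) : ∃ V ∈ CartSh.chs p δ, x ∈ V ∧ V ≤ U := by
  obtain ⟨U₁, n, v, hx₁, hU₁, hv⟩ := K922.Coord.exists_isCoord (X ↘ Spec (CommRingCat.of k)) hx
  obtain ⟨W, h, V, e, -, hxW, het⟩ := hv x U₁.1 le_rfl hx₁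
  refine ⟨W.1, ⟨W.2, ?_⟩, hxW, h.trans hU₁⟩
  have : Nonempty W.1 := ⟨⟨x, hxW⟩⟩
  have hch : CharP Γ(X, W.1) p := K904.GeoDt.charP_sec p k W.1
  letI := K904.GeoUp.alg (X ↘ Spec (CommRingCat.of k)) W.1
  have hcoord := K904.GeoCh.coord_etale_of V.1 e _ het
  have hb := (hv.restrict h).isLocBasis (K922.Univ.affUniv hδ)
  have hbe : ∀ j, hb.basis le_rfl j = K922.DSec.dS δ W.1 (resO X h (v j)) := fun j => by
    rw [hb.basis_apply, res_self]
  exact ⟨hch, n, _, hb.basis le_rfl, K904.PBasis.isPBasis_of_etale_coord p (k := k) _ hcoord,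
    GeoPhi.δ_mul W.1, fun _ hj => hj.elim, fun j _ => (hbe j).symm⟩

end K905.CartCov
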