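import Groth.Agent.DelIll.K905.GeoPhi
import Groth.Agent.DelIll.K905.DecompCx

/-!
# The Koszul complexes of sheaves on a scheme with a lifting and their maps to the de Rham complex
-/

set_option autoImplicit false
set_option linter.style.haveILetI false
set_option linter.unusedSectionVars false
universe u

open CategoryTheory CategoryTheory.Limits AlgebraicGeometry Opposite TopologicalSpace K904 K905.TotPhi K905.TotM
open K905.GeoUp K905.GeoPhi K905.SysP K905.SheafKos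

namespace K905.GeoMain

variable {p : ℕ} [hp : Fact p.Prime] {X Xl S : Scheme.{u}} {f : X ⟶ S} {i : X ⟶ Xl}
  {Ω' : X.Modules} {δ : OmegaSh.Der f Ω'} (D : DeRhamSh.Cx f Ω' δ)
  (hi : Topology.IsOpenEmbedding i) (hp0 : ∀ U : X.Opens, ((p : ℕ) : Γ(X, U)) = 0)

/-- The ring homomorphism. -/
noncomputable abbrev tt (V : X.Opens) : Γ(Xl, up hi V) →+* Γ(X, V) := (i.appLE (up hi V) V (le_preimage_up hi V)).hom

include hp0 in
theorem pz (V : X.Opens) : PZ p Γ(X, V) := ⟨hp0 V⟩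

/-- Chart opens. -/
structure IsCh (δ : OmegaSh.Der f Ω') (hp0 : ∀ U : X.Opens, ((p : ℕ) : Γ(X, U)) = 0) (V : X.Opens) : Prop where
  aff : IsAffineOpen V
  chart : letI := pz hp0 V
    ∃ (_ : CharP Γ(X, V) p) (n : ℕ) (xt : Fin n → Γ(Xl, up hi V)) (e : Module.Basis (Fin n) Γ(X, V) Γ(Ω', V))
    (F : Γ(Xl, up hi V) →+* Γ(Xl, up hi V)),
    TotLocal.Chart p (tt hi V) (δ.app V) (LocalCartier.d (δ.app V) e) e xt F

/-- `Φ` on sections. -/
noncomputable def PhiV (δ : OmegaSh.Der f Ω') (j m : ℕ) (V : X.Opens) (z : PU (sys p hi hp0) j m (op V)) :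
    ↥(⋀[Γ(X, V)]^m Γ(Ω', V)) :=
  letI := pz hp0 V
  ⟨Φ p (tt hi V) (δ.app V) (δ_mul V) z.1, Φ_mem p (tt hi V) (δ.app V) (δ_mul V) z.2⟩

theorem PhiV_val (j m : ℕ) (V : X.Opens) (z : PU (sys p hi hp0) j m (op V)) :
    (PhiV hi hp0 δ j m V z).1 = (letI := pz hp0 V; Φ p (tt hi V) (δ.app V) (δ_mul V) z.1) := rfl

theorem PhiV_add (j m : ℕ) (V : X.Opens) (z w : PU (sys p hi hp0) j m (op V)) :
    PhiV hi hp0 δ j m V (z + w) = PhiV hi hp0 δ j m V z + PhiV hi hp0 δ j m V w := by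
  letI := pz hp0 V
  exact Subtype.ext (map_add (Φ p (tt hi V) (δ.app V) (δ_mul V)) z.1 w.1)

theorem PhiV_res (j m : ℕ) {U V : X.Opens} (h : V ≤ U) (z : PU (sys p hi hp0) j m (op U)) :
    (PhiV hi hp0 δ j m V ⟨resK (sys p hi hp0) (homOfLE h).op z.1, resK_mem _ _ z.2⟩).1 =
      Semi.extR (rO h) (rM Ω' h) (rM_smul Ω' h) (PhiV hi hp0 δ j m U z).1 := by
  letI := pz hp0 V
  letI := pz hp0 U
  exact (extR_Φ p (tt hi U) (δ.app U) (δ_mul U) (tt hi V) (Xl.presheaf.map (homOfLE (up_mono hi h)).op).hom (rO h)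
    (th_nat (sys p hi hp0) (homOfLE h).op) (δ.app V) (δ_mul V) (rM Ω' h) (rM_smul Ω' h) (rM_δ h) z.1).symm

/-- `PhiV` as a homomorphism. -/
noncomputable def PhiH (δ : OmegaSh.Der f Ω') (j m : ℕ) (V : X.Opens) :
    PU (sys p hi hp0) j m (op V) →+ ↥(⋀[Γ(X, V)]^m Γ(Ω', V)) :=
  AddMonoidHom.mk' (PhiV hi hp0 δ j m V) (PhiV_add hi hp0 j m V)

/-- The set of chart opens. -/
def chs (δ : OmegaSh.Der f Ω') : Set (Opens X) := {V | IsCh hi δ hp0 V}

/-- The data on the basis. -/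
noncomputable def bm (j : ℕ) : BasisMap (chs hi hp0 δ) (PC (sys p hi hp0) j) D.K where
  φ m V := (sec D m ⟨V.1, IsCh.aff V.2⟩).toAddMonoidHom.comp (PhiH hi hp0 δ j m V.1)
  nat m V W g z := by
    have h : W.1 ≤ V.1 := g.le
    have hg : g = homOfLE h := Subsingleton.elim _ _
    subst hg
    refine Eq.trans ?_ (sec_res D m ⟨V.1, IsCh.aff V.2⟩ ⟨W.1, IsCh.aff W.2⟩ h (PhiV hi hp0 δ j m V.1 z)).symm
    change sec D m ⟨W.1, _⟩ _ = sec D m ⟨W.1, _⟩ _
    congr 1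
    exact Subtype.ext (PhiV_res hi hp0 j m h z)
  comm m V z := by
    letI := pz hp0 V.1
    obtain ⟨_, n, xt, e, F, hc⟩ := V.2.chart
    have hspan : ∀ m : Γ(Ω', V.1), m ∈ Submodule.span Γ(X, V.1) (Set.range (δ.app V.1)) := by
      intro m
      refine Submodule.span_mono ?_ (e.mem_span m)
      rintro _ ⟨l, rfl⟩
      exact ⟨_, (hc.ex l).symm⟩
    refine Eq.trans ?_ (sec_d D m ⟨V.1, V.2.aff⟩ hc.dr hspan (PhiV hi hp0 δ j m V.1 z)).symm
    have h1 : (PC (sys p hi hp0) j).d m (m + 1) = dd (sys p hi hp0) j m := PC_d _ _ _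
    rw [h1]
    change sec D (m + 1) ⟨V.1, V.2.aff⟩ _ = sec D (m + 1) ⟨V.1, V.2.aff⟩ _
    congr 1
    exact Subtype.ext (d_Φ p (tt hi V.1) (δ.app V.1) hc.dr z.1).symm

theorem P_eq_zero {R S M : Type*} [CommRing R] [AddCommGroup S] [Module R S] [AddCommGroup M] [Module R M] {j m : ℕ}
    (h : j < m) {z : Kos.KK R S M} (hz : z ∈ Kos.P R S M j m) : z = 0 := by
  have : Kos.P R S M j m ≤ ⊥ := by
    rw [Kos.P, AddSubgroup.closure_le]
    rintro _ ⟨t, ω, ht, -, -⟩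
    omega
  exact this hz

/-- Exactness. -/
theorem exactAt (hcov : ∀ (U : Opens X) (x : X), x ∈ U → ∃ V ∈ chs hi hp0 δ, x ∈ V ∧ V ≤ U) (j m : ℕ) (hmj : m ≠ j)
    (hw : j < m ∨ j - m + 1 < p ∨ j < p) : (shC (PC (sys p hi hp0) j)).ExactAt m := by
  refine SheafKos.exactAt m hcov ?_
  intro V hV x hx
  rw [PC_d] at hx
  rcases lt_or_gt_of_ne hmj with h | h
  · letI := pz hp0 V
    obtain ⟨_, n, xt, e, F, hc⟩ := hV.chart
    obtain ⟨y, hy, hy2⟩ := TotLocal.exact hc (j := j) (i := m) h (by omega) x.2 (congrArg Subtype.val hx)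
    cases m with
    | zero =>
      refine ⟨0, ?_⟩
      rw [map_zero]
      rw [show y = 0 from hy, map_zero] at hy2
      exact Subtype.ext hy2
    | succ m =>
      have hp : (ComplexShape.up ℕ).prev (m + 1) = m := CochainComplex.prev_nat_succ m
      rw [hp]
      refine ⟨⟨y, hy⟩, ?_⟩
      rw [PC_d]
      exact Subtype.ext hy2
  · refine ⟨0, ?_⟩
    rw [map_zero]
    exact Subtype.ext (P_eq_zero h x.2).symm

/-- Quasi-isomorphism in the top degree. -/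
theorem quasiIsoAt (hcov : ∀ (U : Opens X) (x : X), x ∈ U → ∃ V ∈ chs hi hp0 δ, x ∈ V ∧ V ≤ U) (j : ℕ) :
    QuasiIsoAt (shHom hcov (bm D hi hp0 j)) j := by
  refine SheafKos.quasiIsoAt hcov (bm D hi hp0 j) j ?_ ?_
  · intro V y hy
    letI := pz hp0 V.1
    obtain ⟨_, n, xt, e, F, hc⟩ := IsCh.chart V.2
    have hspan : ∀ m : Γ(Ω', V.1), m ∈ Submodule.span Γ(X, V.1) (Set.range (δ.app V.1)) := by
      intro m
      refine Submodule.span_mono ?_ (e.mem_span m)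
      rintro _ ⟨l, rfl⟩
      exact ⟨_, (hc.ex l).symm⟩
    obtain ⟨Y, rfl⟩ := (sec D j ⟨V.1, IsCh.aff V.2⟩).surjective y
    have h1 := sec_d D j ⟨V.1, IsCh.aff V.2⟩ hc.dr hspan Y
    have h2 : LocalCartier.d (δ.app V.1) e Y.1 = 0 := by
      have h3 := (sec D (j + 1) ⟨V.1, IsCh.aff V.2⟩).map_eq_zero_iff.1 (h1.symm.trans hy)
      exact congrArg Subtype.val h3
    obtain ⟨z, hz, w, hw, hyw⟩ := (TotLocal.top hc j).1 Y.1 Y.2 h2
    refine ⟨⟨z, hz⟩, ?_, ?_⟩
    · rw [PC_d]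
      exact Subtype.ext (P_eq_zero (Nat.lt_succ_self j) (Kos.κ_mem _ hz))
    · cases j with
      | zero =>
        refine ⟨0, ?_⟩
        rw [map_zero, add_zero]
        rw [show w = 0 from hw, map_zero, add_zero] at hyw
        change sec D 0 ⟨V.1, _⟩ Y = sec D 0 ⟨V.1, _⟩ _
        congr 1
        exact Subtype.ext hyw
      | succ m =>
        have hprev : (ComplexShape.up ℕ).prev (m + 1) = m := CochainComplex.prev_nat_succ m
        rw [hprev]
        refine ⟨sec D m ⟨V.1, IsCh.aff V.2⟩ ⟨w, hw⟩, ?_⟩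
        have h3 := sec_d D m ⟨V.1, IsCh.aff V.2⟩ hc.dr hspan ⟨w, hw⟩
        refine Eq.trans ?_ (congrArg₂ (· + ·) rfl h3.symm)
        change sec D (m + 1) ⟨V.1, _⟩ Y = sec D (m + 1) ⟨V.1, _⟩ _ + sec D (m + 1) ⟨V.1, _⟩ _
        rw [← map_add]
        congr 1
        exact Subtype.ext hyw
  · intro V x hx b hb
    letI := pz hp0 V.1
    obtain ⟨_, n, xt, e, F, hc⟩ := IsCh.chart V.2
    have hspan : ∀ m : Γ(Ω', V.1), m ∈ Submodule.span Γ(X, V.1) (Set.range (δ.app V.1)) := by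
      intro m
      refine Submodule.span_mono ?_ (e.mem_span m)
      rintro _ ⟨l, rfl⟩
      exact ⟨_, (hc.ex l).symm⟩
    cases j with
    | zero =>
      rw [D.K.shape _ _ (by simp)] at hb
      have h0 : (PhiV hi hp0 δ 0 0 V.1 x).1 = 0 := by
        have h3 := (sec D 0 ⟨V.1, IsCh.aff V.2⟩).map_eq_zero_iff.1 hb
        exact congrArg Subtype.val h3
      obtain ⟨y, hy, hy2⟩ := (TotLocal.top hc 0).2 x.1 x.2 0 (Submodule.zero_mem _) (by rw [map_zero]; exact h0)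
      refine ⟨0, ?_⟩
      rw [map_zero]
      rw [show y = 0 from hy, map_zero] at hy2
      exact Subtype.ext hy2
    | succ m =>
      have hprev : (ComplexShape.up ℕ).prev (m + 1) = m := CochainComplex.prev_nat_succ m
      generalize (ComplexShape.up ℕ).prev (m + 1) = q at b hb hprev ⊢
      subst hprev
      obtain ⟨B, rfl⟩ := (sec D q ⟨V.1, IsCh.aff V.2⟩).surjective b
      have h3 := hb.trans (sec_d D q ⟨V.1, IsCh.aff V.2⟩ hc.dr hspan B)
      have h4 : (PhiV hi hp0 δ (q + 1) (q + 1) V.1 x).1 = LocalCartier.d (δ.app V.1) e B.1 := by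
        have h5 := (sec D (q + 1) ⟨V.1, IsCh.aff V.2⟩).injective h3
        exact congrArg Subtype.val h5
      obtain ⟨y, hy, hy2⟩ := (TotLocal.top hc (q + 1)).2 x.1 x.2 B.1 B.2 h4
      refine ⟨⟨y, hy⟩, ?_⟩
      rw [PC_d]
      exact Subtype.ext hy2

/-- **Decomposition** of windows of the de Rham complex, given charts. -/
theorem decomp (hcov : ∀ (U : Opens X) (x : X), x ∈ U → ∃ V ∈ chs hi hp0 δ, x ∈ V ∧ V ≤ U)
    [HasDerivedCategory.{u} (Sheaf (Opens.grothendieckTopology ↥X) AddCommGrpCat.{u})]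
    (a b : ℤ) (hab : b + 2 ≤ a + p ∨ b < p) :
    Nonempty ((DerivedCategory.TStructure.t.truncGELE a b).obj (DerivedCategory.Q.obj D.KZ) ≅
      ⨁ (fun j : Finset.Icc a b =>
        (DerivedCategory.singleFunctor (Sheaf (Opens.grothendieckTopology ↥X) AddCommGrpCat.{u}) j.1).obj
          (D.KZ.homology j.1))) := by
  refine Decomp.complex D.K a b fun j haj hjb => ?_
  refine ⟨shC (PC (sys p hi hp0) j), shHom hcov (bm D hi hp0 j), fun m ham hmj => ?_, quasiIsoAt D hi hp0 hcov j⟩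
  exact exactAt hi hp0 hcov j m hmj (by omega)

end K905.GeoMain
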