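import Groth.Agent.DelIll.K905.Degen
import Groth.Agent.DelIll.K905.FinSch
import Groth.Agent.DelIll.K905.GeoMain
import Groth.Agent.DelIll.K905.GeoCov
import Groth.Agent.DelIll.K905.CartCov

/-!
# Degeneration when the Hodge cohomology vanishes off a band
-/

set_option autoImplicit false
set_option linter.unusedSectionVars false
universe w u

open CategoryTheory CategoryTheory.Limits AlgebraicGeometry Opposite TopologicalSpace DerivedCategory
open K905.HTExact K905.HD K905.Conj E1Deg KLinDR K905.ConjSch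

namespace K905.Band

section gen

variable {p : ℕ} [hp : Fact p.Prime] {k : Type u} [Field k] [CharP k p] [PerfectRing k p] {X : Scheme.{u}}
  [X.Over (Spec (CommRingCat.of k))] {Ω' : X.Modules} {δ : OmegaSh.Der (X ↘ Spec (CommRingCat.of k)) Ω'}
  [HasDerivedCategory.{w} (Sheaf (Opens.grothendieckTopology X) AddCommGrpCat.{u})]
  (D : DeRhamSh.Cx (X ↘ Spec (CommRingCat.of k)) Ω' δ)
  (hcov : ∀ (U : Opens X) (x : X), x ∈ U → ∃ V ∈ CartSh.chs p δ, x ∈ V ∧ V ≤ U)
  (h : TermwiseLinear (Coh.toGlobal (X ↘ Spec (CommRingCat.of k))) D.K D.term D.iso)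

include hcov h in
theorem subsingleton_G' (hfin : ∀ i m, Module.Finite k (Coh.HH X (D.term i) m)) (j m : ℕ) (n : ℤ) (hn : (j : ℤ) + m = n)
    (hs : Subsingleton (Coh.HH X (D.term j) m)) :
    Subsingleton (P X ⟶ (shiftFunctor _ n).obj (G (E D) j)) := by
  obtain ⟨h1, h2⟩ := gradeG D hcov h j m n hn
  have h3 := h1 (hfin j m)
  have h4 : Module.finrank k (V (P X) ((tow (E D) (ρ D h)).ρG j) n) = 0 :=
    h2.trans Module.finrank_zero_of_subsingleton
  have h5 : Subsingleton (V (P X) ((tow (E D) (ρ D h)).ρG j) n) := Module.finrank_zero_iff.1 h4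
  exact h5

include hcov h in
/-- Surjectivity if the Hodge group vanishes. -/
theorem Sj_of_subsingleton (hfin : ∀ i m, Module.Finite k (Coh.HH X (D.term i) m)) (j n : ℕ) (hjn : j ≤ n)
    (hs : Subsingleton (Coh.HH X (D.term j) (n - j))) : (tow (E D) (ρ D h)).Sj (P X) j n := by
  have := subsingleton_G' D hcov h hfin j (n - j) n (by omega) hs
  exact fun z => ⟨0, Subsingleton.elim (α := (P X ⟶ (shiftFunctor _ (n : ℤ)).obj (G (E D) j))) _ _⟩

include hcov h in
/-- Surjectivity from a window if the tower vanishes below. -/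
theorem Sj_of_vanishing (hfin : ∀ i m, Module.Finite k (Coh.HH X (D.term i) m)) {a : ℤ} {j n : ℕ} (haj : a ≤ j)
    (hdec : Nonempty ((TStructure.t.truncGELE a j).obj (E D) ≅
      ⨁ (fun l : Finset.Icc a (j : ℤ) => (singleFunctor (Sheaf (Opens.grothendieckTopology X) AddCommGrpCat.{u}) l.1).obj
        (D.KZ.homology l.1))))
    (hv : ∀ l : ℕ, (l : ℤ) < a → l ≤ n + 1 → Subsingleton (Coh.HH X (D.term l) (n + 1 - l))) :
    (tow (E D) (ρ D h)).Sj (P X) j n := by
  refine Degen.Sj_window D h haj hdec fun w _ => ?_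
  have h1 : Subsingleton (P X ⟶ (shiftFunctor _ ((n : ℤ) + 1)).obj (F (E D) (a - 1))) :=
    Degen.subsingleton_FE D h a ((n : ℤ) + 1) fun l hl hln =>
      subsingleton_G' D hcov h hfin l (n + 1 - l) ((n : ℤ) + 1) (by omega) (hv l hl (by omega))
  exact Subsingleton.elim _ _

end gen

/-- **Degeneration**: the band condition. -/
theorem main (p : ℕ) [Fact p.Prime]
    (k : Type u) [Field k] [CharP k p] [PerfectRing k p]
    (X : Scheme.{u}) [X.Over (Spec (CommRingCat.of k))] [IsProper (X ↘ Spec (CommRingCat.of k))]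
    [Smooth (X ↘ Spec (CommRingCat.of k))]
    (Xl : Scheme.{u}) (g : Xl ⟶ Spec (CommRingCat.of (FrobAlg.W2 p k))) [Flat g] (i : X ⟶ Xl)
    (hlift : IsPullback i (X ↘ Spec (CommRingCat.of k)) g (Spec.map (CommRingCat.ofHom (FrobAlg.res p k))))
    {Ω' : X.Modules} (d : OmegaSh.Der (X ↘ Spec (CommRingCat.of k)) Ω') (hd : OmegaSh.IsUniversal d)
    (D : DeRhamSh.Cx (X ↘ Spec (CommRingCat.of k)) Ω' d)
    (hvan : ∀ a b : ℕ, (p : ℤ) ≤ |(a : ℤ) - (b : ℤ)| → Subsingleton (Coh.HH X (D.term a) b))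
    [HasDerivedCategory.{u} (Sheaf (Opens.grothendieckTopology ↥X) AddCommGrpCat.{u})] :
    E1Deg.HyperDegenerates D.KZ (⊤ : X.Opens) := by
  have hcov := fun U x hx => CartCov.exists_isC p hd U x hx
  have h := FinSch.termwiseLinear (X ↘ Spec (CommRingCat.of k)) hd D
  have hfin := FinSch.finite_HH hd D
  have : CompactSpace X := QuasiCompact.compactSpace_of_compactSpace (X ↘ Spec (CommRingCat.of k))
  obtain ⟨N, hN⟩ := FinSch.exists_isZero (X ↘ Spec (CommRingCat.of k)) hd D
  have hp2 := (Fact.out : p.Prime).two_le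
  refine Degen.degenerates D hcov h hfin N hN fun j n hj hjn => ?_
  by_cases hs : (p : ℤ) ≤ |(j : ℤ) - ((n - j : ℕ) : ℤ)|
  · exact Sj_of_subsingleton D hcov h hfin j n hjn (hvan _ _ hs)
  · have hs1 := lt_of_not_ge hs
    rw [abs_lt] at hs1
    refine Sj_of_vanishing D hcov h hfin (a := (j : ℤ) - p + 2) (by omega)
      (K905.GeoMain.decomp D (K905.GeoUp.isOpenEmbedding hlift) (K905.GeoCov.natCast_eq_zero p k X)
        (K905.GeoCov.exists_isCh hlift hd _ _) _ _ (Or.inl (by omega))) fun l hl hln => hvan _ _ ?_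
    rw [le_abs]
    right
    push_cast [Nat.cast_sub hln, Nat.cast_sub hjn] at hs1 ⊢
    omega

end K905.Band
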