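import Groth.Agent.DelIll.K905.HTSingle

/-!
# Dimension count for hypercohomology, in terms of given `k`-vector spaces `W i m` identified with `Ext^m(T', G i)`

Everything is stated in an abstract abelian category; for sheaves on a scheme one applies it with
`T' = constant sheaf ℤ`, `G i = Coh.toAb (term i)`, `W i m = Coh.HH X (term i) m`.
-/

set_option autoImplicit false

universe w w' v u u'

open CategoryTheory CategoryTheory.Limits E1Deg KLinDR K905.HTExact K905.Sigma K905.HTFin K905.HTSingle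

namespace K905.HTAbs

variable {A : Type u} [Category.{v} A] [Abelian A] [HasDerivedCategory.{w} A] [HasExt.{w'} A]

/-- A graded piece as a vector space `W`. -/
noncomputable def grLin {k : Type*} [CommRing k] {T T' : A} (eT : T ≅ T') (K : CochainComplex A ℤ) (ρ : k →+* End K)
    {G : A} (i n : ℤ) (m : ℕ) (h : i + m = n) (e : K.X i ≅ G) (r : k → (G ⟶ G))
    (he : ∀ a : k, HomologicalComplex.Hom.f (A := K) (B := K) (ρ a) i ≫ e.hom = e.hom ≫ r a)
    {W : Type*} [AddCommGroup W] [Module k W] (φ : W ≃+ Abelian.Ext.{w'} T' G m)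
    (hφ : ∀ (a : k) (x : W), φ (a • x) = (φ x).comp (Abelian.Ext.mk₀ (r a)) (add_zero m)) :
    HTρ T ((HomologicalComplex.single A (ComplexShape.up ℤ) i).obj (K.X i)) ((grEnd K i).comp ρ) n ≃ₗ[k] W :=
  { (HTρ.toHT.trans (grAdd eT e i n m h)).trans φ.symm with
    map_smul' := fun a x => by
      change φ.symm (grAdd eT e i n m h (HTρ.toHT (a • x))) = a • φ.symm (grAdd eT e i n m h (HTρ.toHT x))
      rw [AddEquiv.symm_apply_eq, grAdd_smul eT K ρ i n m h e r he, hφ, AddEquiv.apply_symm_apply] }

variable {k : Type u'} [Field k]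

theorem subsingleton_E (T : A) (K : CochainComplex A ℤ) (ρ : k →+* End K) (n i : ℤ) (h : n < i) :
    Subsingleton (E T K ρ n i) :=
  subsingleton_HT_single T (K.X i) i n h

/-- **Dimension count**, nonnegative degree. -/
theorem main {T T' : A} (eT : T ≅ T') (K : CochainComplex A ℤ) (ρ : k →+* End K)
    (h0 : ∀ m, m < 0 → IsZero (K.X m)) (N : ℤ) (hN : ∀ m, N ≤ m → IsZero (K.X m))
    (G : ℕ → A) (e : ∀ i : ℕ, K.X i ≅ G i) (r : ∀ i : ℕ, k → (G i ⟶ G i))
    (he : ∀ (i : ℕ) (a : k), HomologicalComplex.Hom.f (A := K) (B := K) (ρ a) i ≫ (e i).hom = (e i).hom ≫ r i a)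
    (W : ℕ → ℕ → Type*) [∀ i m, AddCommGroup (W i m)] [∀ i m, Module k (W i m)]
    (φ : ∀ i m, W i m ≃+ Abelian.Ext.{w'} T' (G i) m)
    (hφ : ∀ (i m : ℕ) (a : k) (x : W i m), φ i m (a • x) = (φ i m x).comp (Abelian.Ext.mk₀ (r i a)) (add_zero m))
    (hfin : ∀ i m, Module.Finite k (W i m)) (n : ℕ) :
    Module.Finite k (HTρ T K ρ n) ∧
    Module.finrank k (HTρ T K ρ n) ≤ ∑ i ∈ Finset.range (n + 1), Module.finrank k (W i (n - i)) ∧
    (Module.finrank k (HTρ T K ρ n) = ∑ i ∈ Finset.range (n + 1), Module.finrank k (W i (n - i)) ↔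
      ∀ i, DegeneratesAt T K n i) := by
  -- replace N by a bound larger than n
  obtain ⟨N', hN', hNn⟩ : ∃ N' : ℕ, (∀ m : ℤ, (N' : ℤ) ≤ m → IsZero (K.X m)) ∧ n + 1 ≤ N' :=
    ⟨max N.toNat (n + 1), fun m hm => hN m (by
      have : (N.toNat : ℤ) ≤ m := le_trans (by exact_mod_cast le_max_left _ _) hm
      omega), le_max_right _ _⟩
  have hE : ∀ i : ℕ, i ≤ n → Nonempty (E T K ρ n i ≃ₗ[k] W i (n - i)) := fun i hi =>
    ⟨grLin eT K ρ (i : ℤ) (n : ℤ) (n - i) (by omega) (e i) (r i) (he i) (φ i (n - i)) (hφ i (n - i))⟩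
  have hEf : ∀ i : ℤ, 0 ≤ i → i < N' → Module.Finite k (E T K ρ n i) := by
    intro i hi _
    by_cases hin : i ≤ n
    · obtain ⟨i', rfl⟩ := Int.eq_ofNat_of_zero_le hi
      obtain ⟨f⟩ := hE i' (by omega)
      have := hfin i' (n - i')
      exact Module.Finite.equiv f.symm
    · have := subsingleton_E T K ρ n i (by omega)
      infer_instance
  have key := HTFin.main T K ρ (n : ℤ) 0 N' (by omega) h0 hN' hEf
  have hsum : ∑ i ∈ Finset.Ico (0 : ℤ) N', Module.finrank k (E T K ρ n i) =
      ∑ i ∈ Finset.range (n + 1), Module.finrank k (W i (n - i)) := by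
    have h1 : ∑ i ∈ Finset.Ico (0 : ℤ) N', Module.finrank k (E T K ρ n i) =
        ∑ i ∈ Finset.range N', Module.finrank k (E T K ρ n (i : ℤ)) := by
      refine (Finset.sum_nbij (fun i : ℕ => (i : ℤ)) ?_ ?_ ?_ ?_).symm
      · intro i hi
        simp only [Finset.mem_range] at hi
        simp only [Finset.mem_Ico]
        omega
      · intro i _ j _ hij
        simpa using hij
      · intro i hi
        simp only [Finset.coe_Ico, Set.mem_Ico] at hi
        refine ⟨i.toNat, ?_, by simpa using hi.1⟩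
        simp only [Finset.coe_range, Set.mem_Iio]
        omega
      · intro i _
        rfl
    rw [h1, ← Finset.sum_subset (Finset.range_subset_range.2 hNn)]
    · refine Finset.sum_congr rfl fun i hi => ?_
      simp only [Finset.mem_range] at hi
      obtain ⟨f⟩ := hE i (by omega)
      exact f.finrank_eq
    · intro i _ hi
      simp only [Finset.mem_range, not_lt] at hi
      have := subsingleton_E T K ρ n i (by omega)
      exact Module.finrank_zero_of_subsingleton
  rw [hsum] at key
  exact key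

/-- negative degrees: everything vanishes -/
theorem subsingleton_HT_of_neg (T : A) (K : CochainComplex A ℤ) (c : ℤ) (h0 : ∀ m, m < c → IsZero (K.X m)) (n : ℤ)
    (hn : n < c) : Subsingleton (HT T K n) := by
  have h1 : K.IsStrictlyGE c := by rw [CochainComplex.isStrictlyGE_iff]; exact h0
  have h2 : DerivedCategory.TStructure.t.IsGE ((shiftFunctor (DerivedCategory A) n).obj
      (DerivedCategory.Q.obj K)) (c - n) :=
    have : DerivedCategory.TStructure.t.IsGE (DerivedCategory.Q.obj K) c := by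
      change (DerivedCategory.Q.obj K).IsGE c
      infer_instance
    DerivedCategory.TStructure.t.isGE_shift _ c n (c - n) (by omega)
  have h3 : DerivedCategory.TStructure.t.IsLE ((DerivedCategory.singleFunctor A 0).obj T) 0 := inferInstance
  refine ⟨fun x y => ?_⟩
  rw [DerivedCategory.TStructure.t.zero x 0 (c - n) (by omega), DerivedCategory.TStructure.t.zero y 0 (c - n) (by omega)]

theorem degeneratesAt_of_neg (T : A) (K : CochainComplex A ℤ) (h0 : ∀ m, m < 0 → IsZero (K.X m)) (n i : ℤ)
    (hn : n < 0) : DegeneratesAt T K n i := by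
  by_cases hi : i < 0
  · exact degeneratesAt_of_isZero T K n i (h0 i hi)
  · have h1 : Subsingleton (HT T (sigmaGE K (i + 1)) n) :=
      subsingleton_HT_of_neg T _ (i + 1) (fun m hm => isZero_sigmaGE K (i + 1) m hm) n (by omega)
    have h2 : Subsingleton (HT T ((HomologicalComplex.single A (ComplexShape.up ℤ) i).obj (K.X i)) n) :=
      subsingleton_HT_single T _ i n (by omega)
    exact ⟨fun x y _ => Subsingleton.elim x y, fun y => ⟨0, Subsingleton.elim _ _⟩⟩

end K905.HTAbs
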