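import Groth.Agent.Sga4B.DTrunc
import Mathlib.CategoryTheory.Limits.Shapes.Biproducts
import Mathlib.CategoryTheory.Preadditive.Biproducts
import Mathlib.Order.Interval.Finset.Defs
import Mathlib.Data.Int.Interval

/-!
# A criterion for the decomposability of a truncation

Let `K` be an object of `D(A)` and `a ≤ b`.  If for every `j ∈ [a, b]` there is a morphism `X j ⟶ K` with `H^i(X j) = 0`
for `i ≥ a`, `i ≠ j`, inducing an isomorphism on `H^j`, then `τ_{≥ a} τ_{≤ b} K ≅ ⨁ H^j(K)[-j]`.
-/

set_option autoImplicit false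
universe w v u
open CategoryTheory CategoryTheory.Limits CategoryTheory.Pretriangulated DerivedCategory

namespace K905.Decomp

open Groth.Agent.Sga4B.DTrunc DerivedCategory.TStructure

variable {A : Type u} [Category.{v} A] [Abelian A] [HasDerivedCategory.{w} A]

/-- An additive functor killing all the summands but one is an isomorphism on the inclusion of that one. -/
theorem isIso_map_ι {C : Type*} [Category C] [Preadditive C] {D : Type*} [Category D] [Preadditive D]
    (F : C ⥤ D) [F.Additive] {J : Type} [Fintype J] (Y : J → C) [HasBiproduct Y] (i : J)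
    (h : ∀ j, j ≠ i → IsZero (F.obj (Y j))) : IsIso (F.map (biproduct.ι Y i)) := by
  classical
  refine ⟨F.map (biproduct.π Y i), ?_, ?_⟩
  · rw [← F.map_comp, biproduct.ι_π_self, F.map_id]
  · have hs : ∑ j, F.map (biproduct.π Y j ≫ biproduct.ι Y j) = 𝟙 (F.obj (⨁ Y)) := by
      rw [← F.map_sum, biproduct.total, F.map_id]
    rw [← hs, Finset.sum_eq_single i]
    · rw [F.map_comp]
    · intro j _ hj
      rw [F.map_comp, (h j hj).eq_of_tgt (F.map (biproduct.π Y j)) 0, zero_comp]
    · simp

/-- One summand. -/
theorem exists_summand (K : DerivedCategory A) (a j : ℤ) (hj : a ≤ j) (X : DerivedCategory A) (f : X ⟶ K)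
    (h0 : ∀ i, a ≤ i → i ≠ j → IsZero ((homologyFunctor A i).obj X))
    (h1 : IsIso ((homologyFunctor A j).map f)) :
    ∃ g : (singleFunctor A j).obj ((homologyFunctor A j).obj K) ⟶ (t.truncGE a).obj K,
      IsIso ((homologyFunctor A j).map g) := by
  have hi : ∀ i, a ≤ i → IsIso ((homologyFunctor A i).map ((t.truncGEπ a).app X)) := fun i hi =>
    isIso_homology_truncGE a i hi X
  have hGE : ((t.truncGE a).obj X).IsGE j := by
    rw [isGE_iff]
    intro i hij
    by_cases hai : a ≤ i
    · have := hi i hai
      exact (h0 i hai (by omega)).of_iso (asIso ((homologyFunctor A i).map ((t.truncGEπ a).app X))).symm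
    · have : ((t.truncGE a).obj X).IsGE a := (inferInstance : t.IsGE ((t.truncGE a).obj X) a)
      exact isZero_of_isGE _ a i (by omega)
  have hLE : ((t.truncGE a).obj X).IsLE j := by
    rw [isLE_iff]
    intro i hij
    have := hi i (by omega)
    exact (h0 i (by omega) (by omega)).of_iso (asIso ((homologyFunctor A i).map ((t.truncGEπ a).app X))).symm
  have e1 : IsIso (ι j ((t.truncGE a).obj X)) := by
    apply isIso_of_heart j
    rw [homology_ι]
    infer_instance
  -- H^j(τ X) → H^j(τ K) is an isomorphism
  have n1 : (homologyFunctor A j).map ((t.truncGEπ a).app X) ≫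
      (homologyFunctor A j).map ((t.truncGE a).map f) =
      (homologyFunctor A j).map f ≫ (homologyFunctor A j).map ((t.truncGEπ a).app K) := by
    rw [← Functor.map_comp, ← Functor.map_comp]
    exact congrArg _ ((t.truncGEπ a).naturality f).symm
  have i1 := hi j hj
  have i2 := isIso_homology_truncGE a j hj K
  have i3 : IsIso ((homologyFunctor A j).map ((t.truncGE a).map f)) := by
    have : IsIso ((homologyFunctor A j).map ((t.truncGEπ a).app X) ≫
      (homologyFunctor A j).map ((t.truncGE a).map f)) := by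
      rw [n1]; infer_instance
    exact IsIso.of_isIso_comp_left ((homologyFunctor A j).map ((t.truncGEπ a).app X)) _
  let e : (homologyFunctor A j).obj K ≅ (homologyFunctor A j).obj ((t.truncGE a).obj X) :=
    asIso ((homologyFunctor A j).map ((t.truncGEπ a).app K)) ≪≫
      (asIso ((homologyFunctor A j).map ((t.truncGE a).map f))).symm
  refine ⟨(singleFunctor A j).map e.hom ≫ ι j ((t.truncGE a).obj X) ≫ (t.truncGE a).map f, ?_⟩
  rw [Functor.map_comp, Functor.map_comp]
  infer_instance

/-- **Criterion.** -/
theorem main (K : DerivedCategory A) (a b : ℤ)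
    (H : ∀ j, a ≤ j → j ≤ b → ∃ (X : DerivedCategory A) (f : X ⟶ K),
      (∀ i, a ≤ i → i ≠ j → IsZero ((homologyFunctor A i).obj X)) ∧ IsIso ((homologyFunctor A j).map f)) :
    Nonempty ((t.truncGELE a b).obj K ≅
      ⨁ (fun j : Finset.Icc a b => (singleFunctor A j.1).obj ((homologyFunctor A j.1).obj K))) := by
  have H' : ∀ j : Finset.Icc a b, ∃ g : (singleFunctor A j.1).obj ((homologyFunctor A j.1).obj K) ⟶
      (t.truncGE a).obj K, IsIso ((homologyFunctor A j.1).map g) := by
    rintro ⟨j, hj⟩
    rw [Finset.mem_Icc] at hj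
    obtain ⟨X, f, h0, h1⟩ := H j hj.1 hj.2
    exact exists_summand K a j hj.1 X f h0 h1
  choose g hg using H'
  let Y : Finset.Icc a b → DerivedCategory A :=
    fun j => (singleFunctor A j.1).obj ((homologyFunctor A j.1).obj K)
  have hz : ∀ (i : ℤ) (j : Finset.Icc a b), i ≠ j.1 → IsZero ((homologyFunctor A i).obj (Y j)) := by
    intro i j hij
    rcases lt_or_gt_of_ne hij with h | h
    · exact isZero_of_isGE _ j.1 i h
    · exact isZero_of_isLE _ j.1 i h
  have hzB : ∀ i : ℤ, ¬ (a ≤ i ∧ i ≤ b) → IsZero ((homologyFunctor A i).obj (⨁ Y)) := by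
    intro i hi
    have hs : ∑ j, (homologyFunctor A i).map (biproduct.π Y j ≫ biproduct.ι Y j) =
        𝟙 ((homologyFunctor A i).obj (⨁ Y)) := by
      rw [← Functor.map_sum, biproduct.total, CategoryTheory.Functor.map_id]
    rw [IsZero.iff_id_eq_zero, ← hs]
    refine Finset.sum_eq_zero fun j _ => ?_
    rw [Functor.map_comp]
    have hij : i ≠ j.1 := by
      rintro rfl
      exact hi (Finset.mem_Icc.1 j.2)
    rw [(hz i j hij).eq_of_tgt ((homologyFunctor A i).map (biproduct.π Y j)) 0, zero_comp]
  have hLE : t.IsLE (⨁ Y) b := by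
    change (⨁ Y).IsLE b
    rw [isLE_iff]
    exact fun i hi => hzB i (by omega)
  let G : (⨁ Y) ⟶ (t.truncGE a).obj K := biproduct.desc g
  have hG : ∀ i : Finset.Icc a b, IsIso ((homologyFunctor A i.1).map G) := by
    intro i
    have h1 : IsIso ((homologyFunctor A i.1).map (biproduct.ι Y i)) :=
      isIso_map_ι _ Y i fun j hj => hz i.1 j fun h => hj (Subtype.ext h.symm)
    have h2 : (homologyFunctor A i.1).map (biproduct.ι Y i) ≫ (homologyFunctor A i.1).map G =
        (homologyFunctor A i.1).map (g i) := by
      rw [← Functor.map_comp, biproduct.ι_desc]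
    have h3 : IsIso ((homologyFunctor A i.1).map (biproduct.ι Y i) ≫ (homologyFunctor A i.1).map G) := by
      rw [h2]; exact hg i
    exact IsIso.of_isIso_comp_left ((homologyFunctor A i.1).map (biproduct.ι Y i)) _
  let G' : (⨁ Y) ⟶ (t.truncLE b).obj ((t.truncGE a).obj K) := t.liftTruncLE G b
  have hG' : G' ≫ (t.truncLEι b).app _ = G := t.liftTruncLE_ι _ _
  have hiso : IsIso G' := by
    rw [DerivedCategory.isIso_iff]
    intro i
    by_cases hi : a ≤ i ∧ i ≤ b
    · have h1 := isIso_homology_truncLE b i hi.2 ((t.truncGE a).obj K)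
      have h2 := hG ⟨i, Finset.mem_Icc.2 hi⟩
      have h3 : IsIso ((homologyFunctor A i).map G' ≫
          (homologyFunctor A i).map ((t.truncLEι b).app ((t.truncGE a).obj K))) := by
        rw [← Functor.map_comp, hG']
        exact h2
      exact IsIso.of_isIso_comp_right _ ((homologyFunctor A i).map ((t.truncLEι b).app ((t.truncGE a).obj K)))
    · refine (hzB i hi).isIso ?_ _
      by_cases h2 : i < a
      · have : ((t.truncLE b).obj ((t.truncGE a).obj K)).IsGE a :=
          (inferInstance : t.IsGE ((t.truncLE b).obj ((t.truncGE a).obj K)) a)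
        exact isZero_of_isGE _ a i h2
      · have : ((t.truncLE b).obj ((t.truncGE a).obj K)).IsLE b :=
          (inferInstance : t.IsLE ((t.truncLE b).obj ((t.truncGE a).obj K)) b)
        exact isZero_of_isLE _ b i (by omega)
  exact ⟨(t.truncGELEIsoLEGE a b).app K ≪≫ (asIso G').symm⟩

end K905.Decomp
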