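import Groth.Prelude.Def_KLinDR

/-!
# Exactness of `E1Deg.HT` along short exact sequences of complexes
-/

set_option autoImplicit false

universe w v u u'

open CategoryTheory CategoryTheory.Limits Pretriangulated

namespace K905.HTExact

section Tri

variable {C : Type u} [Category.{v} C] [Preadditive C]

theorem comp_unit_smul {P Q R : C} (f : P ⟶ Q) (g : Q ⟶ R) (r : ℤˣ) : f ≫ (r • g) = r • (f ≫ g) := by
  rcases Int.units_eq_one_or r with rfl | rfl <;> simp

theorem unit_smul_comp {P Q R : C} (f : P ⟶ Q) (g : Q ⟶ R) (r : ℤˣ) : (r • f) ≫ g = r • (f ≫ g) := by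
  rcases Int.units_eq_one_or r with rfl | rfl <;> simp

variable [HasZeroObject C] [HasShift C ℤ]
  [∀ (n : ℤ), (shiftFunctor C n).Additive] [Pretriangulated C]

variable {P Q R : C} {f : P ⟶ Q} {g : Q ⟶ R} {δ : R ⟶ (shiftFunctor C (1 : ℤ)).obj P}

/-- exactness in the middle, after a shift -/
theorem tri_exact₂ (hT : Triangle.mk f g δ ∈ distTriang C) (n : ℤ) {T : C}
    (x : T ⟶ (shiftFunctor C n).obj Q) (hx : x ≫ (shiftFunctor C n).map g = 0) :
    ∃ y : T ⟶ (shiftFunctor C n).obj P, y ≫ (shiftFunctor C n).map f = x := by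
  have hT' := Triangle.shift_distinguished _ hT n
  have key : ∀ (x : T ⟶ (shiftFunctor C n).obj Q), x ≫ (n.negOnePow • (shiftFunctor C n).map g) = 0 →
      ∃ y : T ⟶ (shiftFunctor C n).obj P, x = y ≫ (n.negOnePow • (shiftFunctor C n).map f) :=
    fun x hx => Triangle.coyoneda_exact₂ _ hT' (X := T) x hx
  obtain ⟨y, hy⟩ := key x (by rw [comp_unit_smul, hx, smul_zero])
  refine ⟨n.negOnePow • y, ?_⟩
  rw [hy, comp_unit_smul, unit_smul_comp]

/-- exactness at the third object, after a shift -/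
theorem tri_exact₃ (hT : Triangle.mk f g δ ∈ distTriang C) (n : ℤ) {T : C}
    (x : T ⟶ (shiftFunctor C n).obj R) (hx : x ≫ (shiftFunctor C n).map δ = 0) :
    ∃ y : T ⟶ (shiftFunctor C n).obj Q, y ≫ (shiftFunctor C n).map g = x :=
  tri_exact₂ (rot_of_distTriang _ hT) n x hx

/-- exactness at the first object (target of the connecting map), after a shift -/
theorem tri_exact₁ (hT : Triangle.mk f g δ ∈ distTriang C) (n : ℤ) {T : C}
    (x : T ⟶ (shiftFunctor C n).obj ((shiftFunctor C (1 : ℤ)).obj P))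
    (hx : x ≫ (shiftFunctor C n).map ((shiftFunctor C (1 : ℤ)).map f) = 0) :
    ∃ y : T ⟶ (shiftFunctor C n).obj R, y ≫ (shiftFunctor C n).map δ = x := by
  refine tri_exact₂ (rot_of_distTriang _ (rot_of_distTriang _ hT)) n x ?_
  change x ≫ (shiftFunctor C n).map (-(shiftFunctor C (1 : ℤ)).map f) = 0
  rw [Functor.map_neg, Preadditive.comp_neg, hx, neg_zero]

/-- The connecting map `Hom(T, R⟦n⟧) → Hom(T, P⟦m⟧)`, `n + 1 = m`. -/
noncomputable def con (δ : R ⟶ (shiftFunctor C (1 : ℤ)).obj P) {T : C} (n m : ℤ) (h : n + 1 = m) :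
    (T ⟶ (shiftFunctor C n).obj R) →+ (T ⟶ (shiftFunctor C m).obj P) :=
  Preadditive.rightComp _ ((shiftFunctor C n).map δ ≫ (shiftFunctorAdd' C 1 n m (by omega)).inv.app P)

theorem con_apply (δ : R ⟶ (shiftFunctor C (1 : ℤ)).obj P) {T : C} (n m : ℤ) (h : n + 1 = m)
    (x : T ⟶ (shiftFunctor C n).obj R) :
    con δ n m h x = (x ≫ (shiftFunctor C n).map δ) ≫ (shiftFunctorAdd' C 1 n m (by omega)).inv.app P :=
  (Category.assoc _ _ _).symm

theorem con_exact₃ (hT : Triangle.mk f g δ ∈ distTriang C) {T : C} (n m : ℤ) (h : n + 1 = m)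
    (x : T ⟶ (shiftFunctor C n).obj R) (hx : con δ n m h x = 0) :
    ∃ y : T ⟶ (shiftFunctor C n).obj Q, y ≫ (shiftFunctor C n).map g = x := by
  refine tri_exact₃ hT n x ?_
  rw [con_apply] at hx
  exact (cancel_mono ((shiftFunctorAdd' C 1 n m (by omega)).inv.app P)).1 (hx.trans zero_comp.symm)

theorem con_exact₁ (hT : Triangle.mk f g δ ∈ distTriang C) {T : C} (n m : ℤ) (h : n + 1 = m)
    (x : T ⟶ (shiftFunctor C m).obj P) (hx : x ≫ (shiftFunctor C m).map f = 0) :
    ∃ y : T ⟶ (shiftFunctor C n).obj R, con δ n m h y = x := by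
  obtain ⟨y, hy⟩ := tri_exact₁ hT n
    (x ≫ (shiftFunctorAdd' C 1 n m (by omega)).hom.app P) (by
      rw [Category.assoc]
      have := (shiftFunctorAdd' C 1 n m (by omega)).hom.naturality f
      refine (congrArg (fun t => x ≫ t) this.symm).trans ?_
      rw [← Category.assoc, hx, zero_comp])
  refine ⟨y, ?_⟩
  rw [con_apply, hy, Category.assoc, Iso.hom_inv_id_app]
  exact Category.comp_id _

theorem map_con (hT : Triangle.mk f g δ ∈ distTriang C) {T : C} (n m : ℤ) (h : n + 1 = m)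
    (x : T ⟶ (shiftFunctor C n).obj R) : con δ n m h x ≫ (shiftFunctor C m).map f = 0 := by
  have h1 := (shiftFunctorAdd' C 1 n m (by omega)).inv.naturality f
  have h3 : δ ≫ (shiftFunctor C (1 : ℤ)).map f = 0 := comp_distTriang_mor_zero₃₁ _ hT
  rw [con_apply, Category.assoc, ← h1, ← Category.assoc]
  have h4 : (x ≫ (shiftFunctor C n).map δ) ≫ (shiftFunctor C 1 ⋙ shiftFunctor C n).map f = 0 := by
    change (x ≫ (shiftFunctor C n).map δ) ≫ (shiftFunctor C n).map ((shiftFunctor C (1 : ℤ)).map f) = 0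
    rw [Category.assoc, ← Functor.map_comp, h3, Functor.map_zero, comp_zero]
  rw [h4, zero_comp]

theorem con_map (hT : Triangle.mk f g δ ∈ distTriang C) {T : C} (n m : ℤ) (h : n + 1 = m)
    (x : T ⟶ (shiftFunctor C n).obj Q) : con δ n m h (x ≫ (shiftFunctor C n).map g) = 0 := by
  have h3 : g ≫ δ = 0 := comp_distTriang_mor_zero₂₃ _ hT
  rw [con_apply, Category.assoc x, ← Functor.map_comp, h3, Functor.map_zero, comp_zero, zero_comp]

theorem con_naturality {P' R' : C} {δ' : R' ⟶ (shiftFunctor C (1 : ℤ)).obj P'} (a : P ⟶ P') (c : R ⟶ R')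
    (hac : δ ≫ (shiftFunctor C (1 : ℤ)).map a = c ≫ δ') {T : C} (n m : ℤ) (h : n + 1 = m)
    (x : T ⟶ (shiftFunctor C n).obj R) :
    con δ' n m h (x ≫ (shiftFunctor C n).map c) = con δ n m h x ≫ (shiftFunctor C m).map a := by
  have h1 := (shiftFunctorAdd' C 1 n m (by omega)).inv.naturality a
  rw [con_apply, con_apply, Category.assoc (x ≫ _) _ ((shiftFunctor C m).map a), ← h1, Category.assoc x,
    ← Functor.map_comp, ← hac, Functor.map_comp, ← Category.assoc, ← Category.assoc, Category.assoc _ _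
    ((shiftFunctorAdd' C 1 n m (by omega)).inv.app P')]
  simp only [Category.assoc]
  rfl

end Tri

section SES

variable {A : Type u} [Category.{v} A] [Abelian A] [HasDerivedCategory.{w} A]

/-- Exactness in the middle of the long exact sequence of `H_T` for a short exact sequence of complexes. -/
theorem exact₂ {S : ShortComplex (CochainComplex A ℤ)} (hS : S.ShortExact) (T : A) (n : ℤ)
    (x : E1Deg.HT T S.X₂ n) (hx : E1Deg.HTmap T S.g n x = 0) :
    ∃ y : E1Deg.HT T S.X₁ n, E1Deg.HTmap T S.f n y = x :=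
  tri_exact₂ (DerivedCategory.triangleOfSES_distinguished hS) n x hx

/-- The connecting map `H_T^n(K'') → H_T^{n+1}(K')`. -/
noncomputable def delta {S : ShortComplex (CochainComplex A ℤ)} (hS : S.ShortExact) (T : A) (n m : ℤ)
    (h : n + 1 = m) : E1Deg.HT T S.X₃ n →+ E1Deg.HT T S.X₁ m :=
  con (DerivedCategory.triangleOfSESδ hS) n m h

theorem exact₃ {S : ShortComplex (CochainComplex A ℤ)} (hS : S.ShortExact) (T : A) (n m : ℤ)
    (h : n + 1 = m) (x : E1Deg.HT T S.X₃ n) (hx : delta hS T n m h x = 0) :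
    ∃ y : E1Deg.HT T S.X₂ n, E1Deg.HTmap T S.g n y = x :=
  con_exact₃ (DerivedCategory.triangleOfSES_distinguished hS) n m h x hx

theorem exact₁ {S : ShortComplex (CochainComplex A ℤ)} (hS : S.ShortExact) (T : A) (n m : ℤ)
    (h : n + 1 = m) (x : E1Deg.HT T S.X₁ m) (hx : E1Deg.HTmap T S.f m x = 0) :
    ∃ y : E1Deg.HT T S.X₃ n, delta hS T n m h y = x :=
  con_exact₁ (DerivedCategory.triangleOfSES_distinguished hS) n m h x hx

theorem map_delta {S : ShortComplex (CochainComplex A ℤ)} (hS : S.ShortExact) (T : A) (n m : ℤ)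
    (h : n + 1 = m) (x : E1Deg.HT T S.X₃ n) : E1Deg.HTmap T S.f m (delta hS T n m h x) = 0 :=
  map_con (DerivedCategory.triangleOfSES_distinguished hS) n m h x

theorem delta_map {S : ShortComplex (CochainComplex A ℤ)} (hS : S.ShortExact) (T : A) (n m : ℤ)
    (h : n + 1 = m) (x : E1Deg.HT T S.X₂ n) : delta hS T n m h (E1Deg.HTmap T S.g n x) = 0 :=
  con_map (DerivedCategory.triangleOfSES_distinguished hS) n m h x

/-- `H_T(g) ∘ H_T(f) = 0`. -/
theorem map_map {S : ShortComplex (CochainComplex A ℤ)} (T : A) (n : ℤ) (x : E1Deg.HT T S.X₁ n) :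
    E1Deg.HTmap T S.g n (E1Deg.HTmap T S.f n x) = 0 := by
  rw [← E1Deg.HTmap_comp, S.zero, E1Deg.HTmap_apply, Functor.map_zero, Functor.map_zero, comp_zero]

/-- naturality of the connecting map -/
theorem delta_naturality {S S' : ShortComplex (CochainComplex A ℤ)} (hS : S.ShortExact) (hS' : S'.ShortExact)
    (φ : S ⟶ S') (T : A) (n m : ℤ) (h : n + 1 = m) (x : E1Deg.HT T S.X₃ n) :
    delta hS' T n m h (E1Deg.HTmap T φ.τ₃ n x) = E1Deg.HTmap T φ.τ₁ m (delta hS T n m h x) :=
  con_naturality _ _ (DerivedCategory.triangleOfSESδ_naturality hS hS' φ) n m h x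

/-- A quasi-isomorphism induces a bijection on `H_T`. -/
theorem HTmap_bijective (T : A) {K L : CochainComplex A ℤ} (φ : K ⟶ L) [QuasiIso φ] (n : ℤ) :
    Function.Bijective (E1Deg.HTmap T φ n) := by
  have h1 : IsIso (DerivedCategory.Q.map φ) := inferInstance
  have h2 : IsIso ((shiftFunctor (DerivedCategory A) n).map (DerivedCategory.Q.map φ)) := inferInstance
  constructor
  · intro x y hxy
    rw [E1Deg.HTmap_apply, E1Deg.HTmap_apply] at hxy
    exact (cancel_mono _).1 hxy
  · intro y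
    refine ⟨y ≫ inv ((shiftFunctor (DerivedCategory A) n).map (DerivedCategory.Q.map φ)), ?_⟩
    rw [E1Deg.HTmap_apply, Category.assoc, IsIso.inv_hom_id, Category.comp_id]

end SES

end K905.HTExact
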