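import Groth.Agent.DelIll.K905.KosExact
import Groth.Agent.DelIll.K904.Semi

/-!
# Functoriality of Koszul complexes for semilinear maps
-/

set_option autoImplicit false

open ExteriorAlgebra K904.Ext K904

namespace K905.Kos

variable {R : Type*} [CommRing R] {S : Type*} [AddCommGroup S] [Module R S] {M : Type*} [AddCommGroup M] [Module R M]
  {R' : Type*} [CommRing R'] {S' : Type*} [AddCommGroup S'] [Module R' S'] {M' : Type*} [AddCommGroup M'] [Module R' M']
  {R'' : Type*} [CommRing R''] {S'' : Type*} [AddCommGroup S''] [Module R'' S''] {M'' : Type*} [AddCommGroup M'']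
  [Module R'' M'']

variable (σ : R →+* R') (fS : S →+ S') (hS : ∀ (a : R) (x : S), fS (a • x) = σ a • fS x)
  (fM : M →+ M') (hM : ∀ (a : R) (m : M), fM (a • m) = σ a • fM m)

/-- The map of Koszul groups induced by semilinear maps. -/
noncomputable def map : KK R S M →+ KK R' S' M' :=
  lift (fun t ω => mk (t.map fS) (Semi.extR σ fM hM ω)) (fun t ω ω' => by rw [map_add, mk_add])
    (fun x y t ω => by rw [Multiset.map_cons, map_add, mk_cons_add, Multiset.map_cons, Multiset.map_cons])
    (fun c x t ω => by rw [Multiset.map_cons, hS, mk_cons_smul, Semi.extR_smul, Multiset.map_cons])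

@[simp]
theorem map_mk (t : Multiset S) (ω : ExteriorAlgebra R M) :
    map σ fS hS fM hM (mk t ω) = mk (t.map fS) (Semi.extR σ fM hM ω) := lift_mk _ _ _ _ _ _

theorem map_X (x : S) (z : KK R S M) : map σ fS hS fM hM (X x z) = X (fS x) (map σ fS hS fM hM z) := by
  have : (map σ fS hS fM hM).comp (X x) = (X (fS x)).comp (map σ fS hS fM hM) := hom_ext fun t ω => by simp
  exact DFunLike.congr_fun this z

theorem map_κ (u : S →ₗ[R] M) (u' : S' →ₗ[R'] M') (hu : ∀ x, fM (u x) = u' (fS x)) (z : KK R S M) :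
    map σ fS hS fM hM (κ u z) = κ u' (map σ fS hS fM hM z) := by
  have : (map σ fS hS fM hM).comp (κ u) = (κ u').comp (map σ fS hS fM hM) := by
    refine hom_ext fun t ω => ?_
    simp only [AddMonoidHom.comp_apply, κ_mk, map_mk]
    induction t using Multiset.induction_on with
    | empty => rw [κ₀_zero, Multiset.map_zero, κ₀_zero, map_zero]
    | cons x t ih =>
      rw [κ₀_cons, Multiset.map_cons, κ₀_cons, map_add, map_X, ih, map_mk, map_mul, Semi.extR_ι, hu]
  exact DFunLike.congr_fun this z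

theorem map_mem {j i : ℕ} {z : KK R S M} (hz : z ∈ P R S M j i) : map σ fS hS fM hM z ∈ P R' S' M' j i := by
  refine map_P_le _ _ (fun t ω ht hω => ?_) hz
  rw [map_mk]
  exact mk_mem_P _ _ (by rw [Multiset.card_map, ht]) (Semi.extR_mem _ _ _ _ _ hω)

theorem map_id (σ : R →+* R) (fS : S →+ S) (hS : ∀ (a : R) (x : S), fS (a • x) = σ a • fS x)
    (fM : M →+ M) (hM : ∀ (a : R) (m : M), fM (a • m) = σ a • fM m)
    (h1 : ∀ a, σ a = a) (h2 : ∀ x, fS x = x) (h3 : ∀ m, fM m = m) (z : KK R S M) :
    map σ fS hS fM hM z = z := by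
  have : map σ fS hS fM hM = AddMonoidHom.id _ := by
    refine hom_ext fun t ω => ?_
    rw [map_mk, AddMonoidHom.id_apply]
    congr 1
    · rw [Multiset.map_congr rfl fun x _ => h2 x, Multiset.map_id']
    · have : Semi.extR σ fM hM = RingHom.id _ := Semi.ringHom_ext
        (fun a => by rw [Semi.extR_algebraMap, h1]; rfl) (fun m => by rw [Semi.extR_ι, h3]; rfl)
      rw [this, RingHom.id_apply]
  exact DFunLike.congr_fun this z

theorem map_comp (τ : R' →+* R'') (gS : S' →+ S'') (hgS : ∀ (a : R') (x : S'), gS (a • x) = τ a • gS x)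
    (gM : M' →+ M'') (hgM : ∀ (a : R') (m : M'), gM (a • m) = τ a • gM m)
    (ρ : R →+* R'') (kS : S →+ S'') (hkS : ∀ (a : R) (x : S), kS (a • x) = ρ a • kS x)
    (kM : M →+ M'') (hkM : ∀ (a : R) (m : M), kM (a • m) = ρ a • kM m)
    (h1 : ∀ a, τ (σ a) = ρ a) (h2 : ∀ x, gS (fS x) = kS x) (h3 : ∀ m, gM (fM m) = kM m) (z : KK R S M) :
    map τ gS hgS gM hgM (map σ fS hS fM hM z) = map ρ kS hkS kM hkM z := by
  have : (map τ gS hgS gM hgM).comp (map σ fS hS fM hM) = map ρ kS hkS kM hkM := by
    refine hom_ext fun t ω => ?_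
    rw [AddMonoidHom.comp_apply, map_mk, map_mk, map_mk]
    congr 1
    · rw [Multiset.map_map]
      exact Multiset.map_congr rfl fun x _ => h2 x
    · have : (Semi.extR τ gM hgM).comp (Semi.extR σ fM hM) = Semi.extR ρ kM hkM := Semi.ringHom_ext
        (fun a => by rw [RingHom.comp_apply, Semi.extR_algebraMap, Semi.extR_algebraMap, h1, Semi.extR_algebraMap])
        (fun m => by rw [RingHom.comp_apply, Semi.extR_ι, Semi.extR_ι, h3, Semi.extR_ι])
      exact RingHom.congr_fun this ω
  exact DFunLike.congr_fun this z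

end K905.Kos
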