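import Groth.Agent.DelIll.K905.TotM
import Groth.Agent.DelIll.K905.KosMap

/-!
# The map from the Koszul complex of `Fr p A → TM p θ` to the de Rham complex
-/

set_option autoImplicit false
set_option linter.unusedSectionVars false

open ExteriorAlgebra K904 K905.TotM

namespace K905.TotPhi

/-- A de Rham differential on `Λ_A L` extending `δ : A → L`. -/
structure IsDR {A L : Type*} [CommRing A] [AddCommGroup L] [Module A L] (δ : A →+ L)
    (d : ExteriorAlgebra A L →+ ExteriorAlgebra A L) : Prop where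
  leib : ∀ a b, δ (a * b) = a • δ b + b • δ a
  alg : ∀ b, d (algebraMap A _ b) = ι A (δ b)
  mul : ∀ x y, d (x * y) = d x * y + Iso.sg x * d y
  dd : ∀ b, d (ι A (δ b)) = 0

section basic

variable {A L : Type*} [CommRing A] [AddCommGroup L] [Module A L] {δ : A →+ L}

theorem δ_pow (hδ : ∀ a b, δ (a * b) = a • δ b + b • δ a) (x : A) (n : ℕ) :
    δ (x ^ (n + 1)) = ((n + 1 : ℕ) : A) • x ^ n • δ x := by
  induction n with
  | zero => simp
  | succ n ih =>
    rw [pow_succ, hδ, ih, smul_smul, smul_smul, smul_smul, ← add_smul]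
    congr 1
    push_cast
    ring

theorem δ_pow_p (p : ℕ) [hp : Fact p.Prime] [PZ p A] (hδ : ∀ a b, δ (a * b) = a • δ b + b • δ a) (x : A) :
    δ (x ^ p) = 0 := by
  obtain ⟨q, rfl⟩ : ∃ q, p = q + 1 := ⟨p - 1, by have := hp.1.one_lt; omega⟩
  rw [δ_pow hδ, PZ.eq_zero, zero_smul]

theorem IsDR.smul {d : ExteriorAlgebra A L →+ ExteriorAlgebra A L} (hd : IsDR δ d) (b : A) (x : ExteriorAlgebra A L) :
    d (b • x) = ι A (δ b) * x + b • d x := by
  rw [Algebra.smul_def, hd.mul, hd.alg, AlgHom.commutes, Algebra.smul_def]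

theorem IsDR.one {d : ExteriorAlgebra A L →+ ExteriorAlgebra A L} (hd : IsDR δ d) : d 1 = 0 := by
  have h := hd.mul 1 1
  rw [mul_one, mul_one, map_one (Iso.sg : ExteriorAlgebra A L →ₐ[A] ExteriorAlgebra A L), one_mul] at h
  exact left_eq_add.1 h

/-- The rule. -/
theorem IsDR.rule {d : ExteriorAlgebra A L →+ ExteriorAlgebra A L} (hd : IsDR δ d) {n : ℕ} (b₀ : A) (b : Fin n → A) :
    d (b₀ • ιMulti A n (fun i => δ (b i))) = ιMulti A (n + 1) (Fin.cons (δ b₀) (fun i => δ (b i))) := by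
  have h0 : ∀ (n : ℕ) (b : Fin n → A), d (ιMulti A n (fun i => δ (b i))) = 0 := by
    intro n
    induction n with
    | zero => intro b; rw [ιMulti_zero_apply]; exact hd.one
    | succ n ih =>
      intro b
      rw [ιMulti_succ_apply, hd.mul, hd.dd, zero_mul, zero_add]
      have := ih (fun i => b i.succ)
      rw [show Matrix.vecTail (fun i => δ (b i)) = fun i => δ (b i.succ) from rfl, this, mul_zero]
  rw [hd.smul, h0, smul_zero, add_zero, ιMulti_succ_apply]
  rfl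

end basic

variable (p : ℕ) [hp : Fact p.Prime] {At A : Type*} [CommRing At] [CommRing A] [PZ p A] (θ : At →+* A)
  {L : Type*} [AddCommGroup L] [Module A L] (δ : A →+ L) (hδ : ∀ a b, δ (a * b) = a • δ b + b • δ a)

/-- `δ` on `Fr p A`. -/
def δF : Fr p A →+ L := δ

omit hp in
@[simp] theorem δF_toFr (s : A) : δF p δ (toFr p A s) = δ s := rfl

/-- The map `φ : TM p θ → L`, Frobenius semilinear, `br a ↦ a ^ (p - 1) δ a`, `io s ↦ δ s`. -/
noncomputable def φ : TM p θ →ₛₗ[frob p A] L :=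
  lift p θ (frob p A) (fun a => θ a ^ (p - 1) • δ (θ a)) (δF p δ)
    (fun c x => by
      obtain ⟨s, rfl⟩ := (toFr p A).surjective x
      rw [smul_toFr, δF_toFr, δF_toFr, hδ, δ_pow_p p hδ, smul_zero, add_zero, frob_apply])
    (fun a b => by
      rw [δF_toFr, Cross.δ_c hp.1 δ hδ, map_add]
      abel)
    (fun a b => by
      have hq : ∀ x : A, x ^ p = x ^ (p - 1) * x := fun x => by
        rw [← pow_succ, Nat.sub_add_cancel hp.1.one_le]
      rw [map_mul, hδ, smul_add, frob_apply, frob_apply, smul_smul, smul_smul, smul_smul, smul_smul, hq, hq, mul_pow]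
      congr 2 <;> ring)

@[simp] theorem φ_br (a : At) : φ p θ δ hδ (br p θ a) = θ a ^ (p - 1) • δ (θ a) := lift_br _ _ _ _ _ _ _ _ _
@[simp] theorem φ_io (s : Fr p A) : φ p θ δ hδ (io p θ s) = δF p δ s := lift_io _ _ _ _ _ _ _ _ _
theorem φ_smul (c : A) (m : TM p θ) : φ p θ δ hδ (c • m) = frob p A c • φ p θ δ hδ m := LinearMap.map_smulₛₗ _ c m

/-- The ring homomorphism on exterior algebras. -/
noncomputable def FF : ExteriorAlgebra A (TM p θ) →+* ExteriorAlgebra A L :=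
  Semi.extR (frob p A) (φ p θ δ hδ).toAddMonoidHom (φ_smul p θ δ hδ)

@[simp] theorem FF_ι (m : TM p θ) : FF p θ δ hδ (ι A m) = ι A (φ p θ δ hδ m) := Semi.extR_ι _ _ _ _
@[simp] theorem FF_algebraMap (a : A) : FF p θ δ hδ (algebraMap A _ a) = algebraMap A _ (a ^ p) :=
  Semi.extR_algebraMap _ _ _ _
theorem FF_smul (a : A) (x : ExteriorAlgebra A (TM p θ)) : FF p θ δ hδ (a • x) = a ^ p • FF p θ δ hδ x :=
  Semi.extR_smul _ _ _ _ _

/-- The product of a multiset in `Fr p A`. -/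
def pr (t : Multiset (Fr p A)) : A := (t.map (toFr p A).symm).prod

omit hp [PZ p A] in
theorem pr_cons (x : Fr p A) (t : Multiset (Fr p A)) : pr p (x ::ₘ t) = (toFr p A).symm x * pr p t := by
  rw [pr, Multiset.map_cons, Multiset.prod_cons, pr]

omit hp [PZ p A] in
theorem pr_zero : pr p (0 : Multiset (Fr p A)) = 1 := by
  rw [pr, Multiset.map_zero, Multiset.prod_zero]

/-- The map from the Koszul complex to the de Rham complex. -/
noncomputable def Φ : Kos.KK A (Fr p A) (TM p θ) →+ ExteriorAlgebra A L :=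
  Kos.lift (fun t ω => pr p t • FF p θ δ hδ ω) (fun t ω ω' => by rw [map_add, smul_add])
    (fun x y t ω => by rw [pr_cons, map_add, add_mul, add_smul, pr_cons, pr_cons])
    (fun c x t ω => by
      obtain ⟨s, rfl⟩ := (toFr p A).surjective x
      rw [pr_cons, pr_cons, smul_toFr, AddEquiv.symm_apply_apply, AddEquiv.symm_apply_apply, FF_smul, smul_smul]
      congr 1
      ring)

@[simp]
theorem Φ_mk (t : Multiset (Fr p A)) (ω : ExteriorAlgebra A (TM p θ)) :
    Φ p θ δ hδ (Kos.mk t ω) = pr p t • FF p θ δ hδ ω := Kos.lift_mk _ _ _ _ _ _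

theorem Φ_X (x : Fr p A) (z : Kos.KK A (Fr p A) (TM p θ)) :
    Φ p θ δ hδ (Kos.X x z) = (toFr p A).symm x • Φ p θ δ hδ z := by
  have : (Φ p θ δ hδ).comp (Kos.X x) = (DistribSMul.toAddMonoidHom _ ((toFr p A).symm x)).comp (Φ p θ δ hδ) :=
    Kos.hom_ext fun t ω => by
      rw [AddMonoidHom.comp_apply, AddMonoidHom.comp_apply, Kos.X_mk, Φ_mk, Φ_mk, pr_cons, mul_smul]
      rfl
  exact DFunLike.congr_fun this z

theorem Φ_E (v : TM p θ) (z : Kos.KK A (Fr p A) (TM p θ)) :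
    Φ p θ δ hδ (Kos.A (Ext.E v) z) = ι A (φ p θ δ hδ v) * Φ p θ δ hδ z := by
  have : (Φ p θ δ hδ).comp (Kos.A (Ext.E v)) = (AddMonoidHom.mulLeft (ι A (φ p θ δ hδ v))).comp (Φ p θ δ hδ) :=
    Kos.hom_ext fun t ω => by
      rw [AddMonoidHom.comp_apply, AddMonoidHom.comp_apply, Kos.A_mk, Φ_mk, Φ_mk, Ext.E_apply, map_mul, FF_ι,
        AddMonoidHom.coe_mulLeft, mul_smul_comm]
  exact DFunLike.congr_fun this z

theorem Φ_mem {j i : ℕ} {z : Kos.KK A (Fr p A) (TM p θ)} (hz : z ∈ Kos.P A (Fr p A) (TM p θ) j i) :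
    Φ p θ δ hδ z ∈ ⋀[A]^i L := by
  have : Φ p θ δ hδ z ∈ (⋀[A]^i L).toAddSubgroup := by
    refine Kos.map_P_le _ _ (fun t ω _ hω => ?_) hz
    rw [Φ_mk]
    exact Submodule.smul_mem _ _ (Semi.extR_mem _ _ _ _ _ hω)
  exact this

section d

variable {d : ExteriorAlgebra A L →+ ExteriorAlgebra A L} (hd : IsDR δ d)

include hd in
theorem d_φ (m : TM p θ) : d (ι A (φ p θ δ hd.leib m)) = 0 := by
  induction m using TotM.induction with
  | h1 c a =>
    have hq : ∃ q, p = q + 2 := ⟨p - 2, by have := hp.1.two_le; omega⟩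
    rw [φ_smul, φ_br, frob_apply, smul_smul, map_smul, hd.smul, hd.dd, smul_zero, add_zero]
    rw [hd.leib, δ_pow_p p hd.leib, smul_zero, add_zero]
    have h2 : δ (θ a ^ (p - 1)) = ((p - 1 : ℕ) : A) • θ a ^ (p - 2) • δ (θ a) := by
      obtain ⟨q, rfl⟩ := hq
      exact δ_pow hd.leib (θ a) q
    rw [h2, map_smul, map_smul, map_smul, smul_mul_assoc, smul_mul_assoc, smul_mul_assoc, ι_sq_zero, smul_zero,
      smul_zero, smul_zero]
  | h2 s =>
    obtain ⟨s, rfl⟩ := (toFr p A).surjective s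
    rw [φ_io, δF_toFr, hd.dd]
  | hadd x y hx hy => rw [map_add, map_add, map_add, hx, hy, add_zero]

include hd in
theorem d_FF (ω : ExteriorAlgebra A (TM p θ)) : d (FF p θ δ hd.leib ω) = 0 := by
  induction ω using ExteriorAlgebra.induction with
  | algebraMap r => rw [FF_algebraMap, hd.alg, δ_pow_p p hd.leib, map_zero]
  | ι m => rw [FF_ι, d_φ p θ δ hd]
  | mul a b ha hb => rw [map_mul, hd.mul, ha, hb, zero_mul, mul_zero, add_zero]
  | add a b ha hb => rw [map_add, map_add, ha, hb, add_zero]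

include hd in
/-- `Φ` is a morphism of complexes. -/
theorem d_Φ (z : Kos.KK A (Fr p A) (TM p θ)) :
    d (Φ p θ δ hd.leib z) = Φ p θ δ hd.leib (Kos.κ (io p θ) z) := by
  induction z using Kos.mk_induction with
  | h t ω =>
    induction t using Multiset.induction_on with
    | empty => rw [Φ_mk, pr_zero, one_smul, d_FF p θ δ hd, Kos.κ_mk, Kos.κ₀_zero, map_zero]
    | cons x t ih =>
      rw [← Kos.X_mk, Φ_X, hd.smul, ih, Kos.κ_X, map_add, Φ_X, Φ_E, φ_io, add_comm]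
      rfl
  | h0 => simp
  | hadd x y hx hy => simp only [map_add, hx, hy]
  | hneg x hx => simp only [map_neg, hx]

end d

/-! ### Naturality -/

variable {Bt B : Type*} [CommRing Bt] [CommRing B] [PZ p B] (θ' : Bt →+* B) (ft : At →+* Bt) (f : A →+* B)
  (hf : ∀ a, θ' (ft a) = f (θ a)) {L' : Type*} [AddCommGroup L'] [Module B L'] (δ' : B →+ L')
  (hδ' : ∀ a b, δ' (a * b) = a • δ' b + b • δ' a) (fL : L →+ L') (hfL : ∀ (a : A) (m : L), fL (a • m) = f a • fL m)
  (hfδ : ∀ a, fL (δ a) = δ' (f a))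

/-- The map of Koszul groups. -/
noncomputable def mapK : Kos.KK A (Fr p A) (TM p θ) →+ Kos.KK B (Fr p B) (TM p θ') :=
  Kos.map f (frMap p f) (frMap_smul p f) (mapM p θ θ' ft f hf).toAddMonoidHom (mapM_smul p θ θ' ft f hf)

theorem mapK_mk (t : Multiset (Fr p A)) (ω : ExteriorAlgebra A (TM p θ)) :
    mapK p θ θ' ft f hf (Kos.mk t ω) = Kos.mk (t.map (frMap p f))
      (Semi.extR f (mapM p θ θ' ft f hf).toAddMonoidHom (mapM_smul p θ θ' ft f hf) ω) := Kos.map_mk _ _ _ _ _ _ _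

theorem mapK_κ (z : Kos.KK A (Fr p A) (TM p θ)) :
    mapK p θ θ' ft f hf (Kos.κ (io p θ) z) = Kos.κ (io p θ') (mapK p θ θ' ft f hf z) :=
  Kos.map_κ _ _ _ _ _ _ _ (fun x => mapM_io p θ θ' ft f hf x) z

theorem mapK_mem {j i : ℕ} {z : Kos.KK A (Fr p A) (TM p θ)} (hz : z ∈ Kos.P A (Fr p A) (TM p θ) j i) :
    mapK p θ θ' ft f hf z ∈ Kos.P B (Fr p B) (TM p θ') j i := Kos.map_mem _ _ _ _ _ hz

theorem mapK_id (ft : At →+* At) (f : A →+* A) (hf : ∀ a, θ (ft a) = f (θ a)) (h1 : ∀ a, ft a = a) (h2 : ∀ a, f a = a)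
    (z : Kos.KK A (Fr p A) (TM p θ)) : mapK p θ θ ft f hf z = z := by
  refine Kos.map_id f (frMap p f) (frMap_smul p f) _ _ h2 (fun x => ?_) (fun m => ?_) z
  · obtain ⟨s, rfl⟩ := (toFr p A).surjective x
    rw [frMap_toFr, h2]
  · refine TotM.hom_ext p θ (f := (mapM p θ θ ft f hf).toAddMonoidHom) (g := AddMonoidHom.id _) f
      (fun c m => mapM_smul p θ θ ft f hf c m) (fun c m => ?_) (fun a => ?_) (fun s => ?_) m
    · rw [h2]; rfl
    · exact (mapM_br p θ θ ft f hf a).trans (by rw [h1]; rfl)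
    · refine (mapM_io p θ θ ft f hf s).trans ?_
      obtain ⟨s, rfl⟩ := (toFr p A).surjective s
      rw [frMap_toFr, h2]
      rfl

theorem mapK_comp {Ct C : Type*} [CommRing Ct] [CommRing C] [PZ p C] (θ'' : Ct →+* C) (gt : Bt →+* Ct) (g : B →+* C)
    (hg : ∀ a, θ'' (gt a) = g (θ' a)) (kt : At →+* Ct) (k : A →+* C) (hk : ∀ a, θ'' (kt a) = k (θ a))
    (h1 : ∀ a, gt (ft a) = kt a) (h2 : ∀ a, g (f a) = k a) (z : Kos.KK A (Fr p A) (TM p θ)) :
    mapK p θ' θ'' gt g hg (mapK p θ θ' ft f hf z) = mapK p θ θ'' kt k hk z := by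
  refine Kos.map_comp _ _ _ _ _ _ _ _ _ _ _ _ _ _ _ h2 (fun x => ?_) (fun m => ?_) z
  · obtain ⟨s, rfl⟩ := (toFr p A).surjective x
    rw [frMap_toFr, frMap_toFr, frMap_toFr, h2]
  · refine TotM.hom_ext p θ
      (f := (mapM p θ' θ'' gt g hg).toAddMonoidHom.comp (mapM p θ θ' ft f hf).toAddMonoidHom)
      (g := (mapM p θ θ'' kt k hk).toAddMonoidHom) k
      (fun c m => ?_) (fun c m => mapM_smul p θ θ'' kt k hk c m) (fun a => ?_) (fun s => ?_) m
    · change mapM p θ' θ'' gt g hg (mapM p θ θ' ft f hf (c • m)) = k c • mapM p θ' θ'' gt g hg (mapM p θ θ' ft f hf m)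
      rw [mapM_smul, mapM_smul, h2]
    · change mapM p θ' θ'' gt g hg (mapM p θ θ' ft f hf (br p θ a)) = mapM p θ θ'' kt k hk (br p θ a)
      rw [mapM_br, mapM_br, mapM_br, h1]
    · change mapM p θ' θ'' gt g hg (mapM p θ θ' ft f hf (io p θ s)) = mapM p θ θ'' kt k hk (io p θ s)
      obtain ⟨s, rfl⟩ := (toFr p A).surjective s
      rw [mapM_io, mapM_io, mapM_io, frMap_toFr, frMap_toFr, frMap_toFr, h2]

include hfL hfδ in
theorem extR_φ (m : TM p θ) : fL (φ p θ δ hδ m) = φ p θ' δ' hδ' (mapM p θ θ' ft f hf m) := by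
  refine TotM.hom_ext p θ (f := fL.comp (φ p θ δ hδ).toAddMonoidHom)
      (g := (φ p θ' δ' hδ').toAddMonoidHom.comp (mapM p θ θ' ft f hf).toAddMonoidHom) ((frob p B).comp f)
      (fun c m => ?_) (fun c m => ?_) (fun a => ?_) (fun s => ?_) m
  · change fL (φ p θ δ hδ (c • m)) = _ • fL (φ p θ δ hδ m)
    rw [φ_smul, hfL, RingHom.comp_apply, frob_apply, frob_apply, map_pow]
  · change φ p θ' δ' hδ' (mapM p θ θ' ft f hf (c • m)) = _ • φ p θ' δ' hδ' (mapM p θ θ' ft f hf m)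
    rw [mapM_smul, φ_smul]
    rfl
  · change fL (φ p θ δ hδ (br p θ a)) = φ p θ' δ' hδ' (mapM p θ θ' ft f hf (br p θ a))
    rw [mapM_br, φ_br, φ_br, hf, hfL, hfδ, map_pow]
  · change fL (φ p θ δ hδ (io p θ s)) = φ p θ' δ' hδ' (mapM p θ θ' ft f hf (io p θ s))
    obtain ⟨s, rfl⟩ := (toFr p A).surjective s
    rw [mapM_io, φ_io, φ_io, frMap_toFr, δF_toFr, δF_toFr, hfδ]

include hfδ in
/-- Naturality of `Φ`. -/
theorem extR_Φ (z : Kos.KK A (Fr p A) (TM p θ)) :
    Semi.extR f fL hfL (Φ p θ δ hδ z) = Φ p θ' δ' hδ' (mapK p θ θ' ft f hf z) := by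
  have : (Semi.extR f fL hfL).toAddMonoidHom.comp (Φ p θ δ hδ) = (Φ p θ' δ' hδ').comp (mapK p θ θ' ft f hf) := by
    refine Kos.hom_ext fun t ω => ?_
    change Semi.extR f fL hfL (Φ p θ δ hδ (Kos.mk t ω)) = Φ p θ' δ' hδ' (mapK p θ θ' ft f hf (Kos.mk t ω))
    rw [Φ_mk, mapK_mk, Φ_mk, Semi.extR_smul]
    congr 1
    · rw [pr, pr, map_multiset_prod, Multiset.map_map, Multiset.map_map]
      congr 1
    · have h : (Semi.extR f fL hfL).comp (FF p θ δ hδ) = (FF p θ' δ' hδ').comp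
          (Semi.extR f (mapM p θ θ' ft f hf).toAddMonoidHom (mapM_smul p θ θ' ft f hf)) := by
        refine Semi.ringHom_ext (fun a => ?_) (fun m => ?_)
        · rw [RingHom.comp_apply, RingHom.comp_apply, FF_algebraMap, Semi.extR_algebraMap, Semi.extR_algebraMap,
            FF_algebraMap, map_pow]
        · rw [RingHom.comp_apply, RingHom.comp_apply, FF_ι, Semi.extR_ι, Semi.extR_ι, FF_ι,
            extR_φ p θ δ hδ θ' ft f hf δ' hδ' fL hfL hfδ]
          rfl
      exact RingHom.congr_fun h ω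
  exact DFunLike.congr_fun this z

end K905.TotPhi
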