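import Groth.Agent.LogNCD.K913.QisBasis
import Mathlib.Topology.Sheaves.SheafCondition.Sites
import Mathlib.Algebra.Category.Grp.Zero

/-!
# From complexes of presheaves to complexes of sheaves, via a basis
-/

set_option autoImplicit false
universe u

open CategoryTheory CategoryTheory.Limits Opposite TopologicalSpace
open scoped ZeroObject

namespace K905.SheafKos

open K913.QisBasis Groth.Agent.Sga4A

variable {T : Type u} [TopologicalSpace T]

/-- Data on a basis. -/
structure BasisMap (𝓑 : Set (Opens T)) (P : CochainComplex ((Opens T)ᵒᵖ ⥤ AddCommGrpCat.{u}) ℕ)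
    (K : CochainComplex (Sheaf (Opens.grothendieckTopology T) AddCommGrpCat.{u}) ℕ) where
  φ : ∀ (i : ℕ) (V : 𝓑), (P.X i).obj (op V.1) →+ (K.X i).obj.obj (op V.1)
  nat : ∀ (i : ℕ) (V W : 𝓑) (f : W.1 ⟶ V.1) (z : (P.X i).obj (op V.1)),
    φ i W ((P.X i).map f.op z) = (K.X i).obj.map f.op (φ i V z)
  comm : ∀ (i : ℕ) (V : 𝓑) (z : (P.X i).obj (op V.1)),
    φ (i + 1) V ((P.d i (i + 1)).app (op V.1) z) = (K.d i (i + 1)).hom.app (op V.1) (φ i V z)

variable {𝓑 : Set (Opens T)} (hB : ∀ (U : Opens T) (x : T), x ∈ U → ∃ V ∈ 𝓑, x ∈ V ∧ V ≤ U)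
  {P : CochainComplex ((Opens T)ᵒᵖ ⥤ AddCommGrpCat.{u}) ℕ}
  {K : CochainComplex (Sheaf (Opens.grothendieckTopology T) AddCommGrpCat.{u}) ℕ} (D : BasisMap 𝓑 P K)

include hB in
theorem isBasis : Opens.IsBasis (Set.range (fun V : 𝓑 => (V.1 : Opens (TopCat.of T)))) := by
  rw [Subtype.range_coe_subtype]
  rw [Opens.isBasis_iff_nbhd]
  intro U x hx
  obtain ⟨V, hV, hxV, hVU⟩ := hB U x hx
  exact ⟨V, hV, hxV, hVU⟩

/-- The natural transformation on the basis. -/
noncomputable def natB (i : ℕ) :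
    (inducedFunctor (fun V : 𝓑 => (V.1 : Opens (TopCat.of T)))).op ⋙ (P.X i : TopCat.Presheaf AddCommGrpCat.{u} (TopCat.of T)) ⟶
      (inducedFunctor (fun V : 𝓑 => (V.1 : Opens (TopCat.of T)))).op ⋙ (K.X i).obj where
  app V := AddCommGrpCat.ofHom (D.φ i V.unop)
  naturality V W f := by
    ext z
    exact D.nat i V.unop W.unop f.unop.hom z

/-- The extended natural transformation. -/
noncomputable def ext (i : ℕ) : P.X i ⟶ (K.X i).obj :=
  TopCat.Sheaf.restrictHomEquivHom (X := TopCat.of T) (P.X i) (K.X i) (isBasis hB) (natB D i)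

theorem ext_app (i : ℕ) (V : 𝓑) (z : (P.X i).obj (op V.1)) : (ext hB D i).app (op V.1) z = D.φ i V z := by
  have := TopCat.Sheaf.extend_hom_app (X := TopCat.of T) (P.X i) (K.X i) (isBasis hB) (natB D i) V
  exact ConcreteCategory.congr_hom this z

/-- The morphism of complexes of presheaves. -/
noncomputable def toHom : P ⟶ und K where
  f i := ext hB D i
  comm' i j hij := by
    obtain rfl : i + 1 = j := hij
    refine TopCat.Sheaf.hom_ext (X := TopCat.of T) (P.X i) (K.X (i + 1)) (isBasis hB) fun V => ?_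
    ext z
    have e1 : (ext hB D (i + 1)).app (op V.1) ((P.d i (i + 1)).app (op V.1) z) =
        (K.d i (i + 1)).hom.app (op V.1) ((ext hB D i).app (op V.1) z) := by
      rw [ext_app, ext_app, D.comm]
    exact e1.symm

theorem toHom_f_app (i : ℕ) (V : 𝓑) (z : (P.X i).obj (op V.1)) :
    ((toHom hB D).f i).app (op V.1) z = D.φ i V z := ext_app hB D i V z

/-- The sheafified complex. -/
noncomputable abbrev shC (P : CochainComplex ((Opens T)ᵒᵖ ⥤ AddCommGrpCat.{u}) ℕ) :
    CochainComplex (Sheaf (Opens.grothendieckTopology T) AddCommGrpCat.{u}) ℕ :=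
  ((presheafToSheaf (Opens.grothendieckTopology T) AddCommGrpCat.{u}).mapHomologicalComplex _).obj P

/-- The morphism of complexes of sheaves. -/
noncomputable def shHom : shC P ⟶ K :=
  ((presheafToSheaf (Opens.grothendieckTopology T) AddCommGrpCat.{u}).mapHomologicalComplex _).map (toHom hB D) ≫
    (counitIso (c := ComplexShape.up ℕ)).hom.app K

/-- Exactness of the sheafified complex. -/
theorem exactAt (k : ℕ) (hB : ∀ (U : Opens T) (x : T), x ∈ U → ∃ V ∈ 𝓑, x ∈ V ∧ V ≤ U)
    (h : ∀ V ∈ 𝓑, ∀ x : (P.X k).obj (op V), (P.d k (k + 1)).app (op V) x = 0 →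
      ∃ b : (P.X ((ComplexShape.up ℕ).prev k)).obj (op V), (P.d ((ComplexShape.up ℕ).prev k) k).app (op V) b = x) :
    (shC P).ExactAt k := by
  let φ : P ⟶ (0 : CochainComplex ((Opens T)ᵒᵖ ⥤ AddCommGrpCat.{u}) ℕ) := 0
  have hs : LocQis.LocSurj (Opens.grothendieckTopology T) φ k := by
    intro U y _
    refine ⟨⊤, GrothendieckTopology.top_mem _ _, fun V f _ => ⟨0, map_zero _, 0, ?_⟩⟩
    have h0 : IsZero (((0 : CochainComplex ((Opens T)ᵒᵖ ⥤ AddCommGrpCat.{u}) ℕ).X k).obj (op V)) :=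
      ((evaluation _ _).obj (op V)).map_isZero (((HomologicalComplex.eval _ _ k).map_isZero (isZero_zero _)))
    have := AddCommGrpCat.subsingleton_of_isZero h0
    exact Subsingleton.elim _ _
  have hi : LocQis.LocInj (Opens.grothendieckTopology T) φ k := by
    intro U x hx b _
    have hn : (ComplexShape.up ℕ).next k = k + 1 := CochainComplex.next ℕ k
    rw [hn] at hx
    refine cover_of_basis 𝓑 hB U
      (fun V f => ∃ b' : (P.X ((ComplexShape.up ℕ).prev k)).obj (op V),
        (P.d ((ComplexShape.up ℕ).prev k) k).app (op V) b' = (P.X k).map f.op x) ?_ ?_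
    · intro V hV f
      refine h V hV _ ?_
      have := ConcreteCategory.congr_hom ((P.d k (k + 1)).naturality f.op) x
      refine Eq.trans this ?_
      change (P.X (k + 1)).map f.op ((P.d k (k + 1)).app (op U) x) = 0
      rw [hx, map_zero]
    · rintro V W f g ⟨b', hb'⟩
      refine ⟨(P.X _).map g.op b', ?_⟩
      have := ConcreteCategory.congr_hom ((P.d ((ComplexShape.up ℕ).prev k) k).naturality g.op) b'
      refine Eq.trans this ?_
      change (P.X k).map g.op ((P.d ((ComplexShape.up ℕ).prev k) k).app (op V) b') = _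
      rw [hb', op_comp, (P.X k).map_comp]
      rfl
  have h1 := LocQis.quasiIsoAt_presheafToSheaf_of_local φ k hs hi
  have h2 : IsZero (((presheafToSheaf (Opens.grothendieckTopology T) AddCommGrpCat.{u}).mapHomologicalComplex
      (ComplexShape.up ℕ)).obj (0 : CochainComplex ((Opens T)ᵒᵖ ⥤ AddCommGrpCat.{u}) ℕ)) :=
    Functor.map_isZero _ (isZero_zero _)
  rw [HomologicalComplex.exactAt_iff_isZero_homology]
  have h3 := (quasiIsoAt_iff_isIso_homologyMap _ _).1 h1
  refine IsZero.of_iso ?_ (@asIso _ _ _ _ _ h3)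
  exact (HomologicalComplex.homologyFunctor _ _ k).map_isZero h2

include hB in
/-- Quasi-isomorphism in degree `k`. -/
theorem quasiIsoAt (k : ℕ)
    (h1 : ∀ V : 𝓑, ∀ y : (K.X k).obj.obj (op V.1), (K.d k (k + 1)).hom.app (op V.1) y = 0 →
      ∃ x : (P.X k).obj (op V.1), (P.d k (k + 1)).app (op V.1) x = 0 ∧
        ∃ b : (K.X ((ComplexShape.up ℕ).prev k)).obj.obj (op V.1), y =
          D.φ k V x + (K.d ((ComplexShape.up ℕ).prev k) k).hom.app (op V.1) b)
    (h2 : ∀ V : 𝓑, ∀ x : (P.X k).obj (op V.1), (P.d k (k + 1)).app (op V.1) x = 0 →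
      ∀ b : (K.X ((ComplexShape.up ℕ).prev k)).obj.obj (op V.1),
        D.φ k V x = (K.d ((ComplexShape.up ℕ).prev k) k).hom.app (op V.1) b →
      ∃ b' : (P.X ((ComplexShape.up ℕ).prev k)).obj (op V.1), (P.d ((ComplexShape.up ℕ).prev k) k).app (op V.1) b' = x) :
    QuasiIsoAt (shHom hB D) k := by
  have hn : (ComplexShape.up ℕ).next k = k + 1 := CochainComplex.next ℕ k
  have natK : ∀ (V W : Opens T) (f : W ⟶ V) (i j : ℕ) (z : (K.X i).obj.obj (op V)),
      (K.d i j).hom.app (op W) ((K.X i).obj.map f.op z) = (K.X j).obj.map f.op ((K.d i j).hom.app (op V) z) := by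
    intro V W f i j z
    exact (ConcreteCategory.congr_hom ((K.d i j).hom.naturality f.op) z)
  have natP : ∀ (V W : Opens T) (f : W ⟶ V) (i j : ℕ) (z : (P.X i).obj (op V)),
      (P.d i j).app (op W) ((P.X i).map f.op z) = (P.X j).map f.op ((P.d i j).app (op V) z) := by
    intro V W f i j z
    exact (ConcreteCategory.congr_hom ((P.d i j).naturality f.op) z)
  have natφ : ∀ (V W : Opens T) (f : W ⟶ V) (i : ℕ) (z : (P.X i).obj (op V)),
      ((toHom hB D).f i).app (op W) ((P.X i).map f.op z) = (K.X i).obj.map f.op (((toHom hB D).f i).app (op V) z) := by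
    intro V W f i z
    exact (ConcreteCategory.congr_hom (((toHom hB D).f i).naturality f.op) z)
  have mapmap : ∀ (F : (Opens T)ᵒᵖ ⥤ AddCommGrpCat.{u}) (U V W : Opens T)
      (f : V ⟶ U) (g : W ⟶ V) (z : F.obj (op U)), F.map g.op (F.map f.op z) = F.map (g ≫ f).op z := by
    intro F U V W f g z
    rw [op_comp, F.map_comp]
    rfl
  have hs : LocQis.LocSurj (Opens.grothendieckTopology T) (toHom hB D) k := by
    intro U y hy
    rw [hn] at hy ⊢
    change (K.d k (k + 1)).hom.app (op U) y = 0 at hy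
    refine cover_of_basis 𝓑 hB U
      (fun V f => ∃ x : (P.X k).obj (op V), (P.d k (k + 1)).app (op V) x = 0 ∧
        ∃ b : (K.X ((ComplexShape.up ℕ).prev k)).obj.obj (op V), ((toHom hB D).f k).app (op V) x =
          (K.X k).obj.map f.op y + (K.d ((ComplexShape.up ℕ).prev k) k).hom.app (op V) b) ?_ ?_
    · intro V hV f
      obtain ⟨x, hx, b, hb⟩ := h1 ⟨V, hV⟩ ((K.X k).obj.map f.op y) (by rw [natK, hy, map_zero])
      refine ⟨x, hx, -b, ?_⟩
      rw [hb, map_neg, toHom_f_app hB D k ⟨V, hV⟩ x]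
      abel
    · rintro V W f g ⟨x, hx, b, hb⟩
      refine ⟨(P.X k).map g.op x, ?_, (K.X _).obj.map g.op b, ?_⟩
      · rw [natP, hx, map_zero]
      · rw [natφ, hb, natK, map_add, mapmap]
  have hi : LocQis.LocInj (Opens.grothendieckTopology T) (toHom hB D) k := by
    intro U x hx b hb
    rw [hn] at hx
    refine cover_of_basis 𝓑 hB U
      (fun V f => ∃ b' : (P.X ((ComplexShape.up ℕ).prev k)).obj (op V),
        (P.d ((ComplexShape.up ℕ).prev k) k).app (op V) b' = (P.X k).map f.op x) ?_ ?_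
    · intro V hV f
      refine h2 ⟨V, hV⟩ _ (by rw [natP, hx, map_zero]) ((K.X _).obj.map f.op b) ?_
      rw [← toHom_f_app hB D k ⟨V, hV⟩, natφ, hb, natK]
      rfl
    · rintro V W f g ⟨b', hb'⟩
      refine ⟨(P.X _).map g.op b', ?_⟩
      rw [natP, hb', mapmap]
  have h3 := LocQis.quasiIsoAt_presheafToSheaf_of_local (toHom hB D) k hs hi
  have h4 : QuasiIsoAt ((counitIso (J := Opens.grothendieckTopology T) (c := ComplexShape.up ℕ)).hom.app K) k :=
    inferInstance
  exact quasiIsoAt_comp _ _ k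

end K905.SheafKos
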