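import Groth.Agent.DelIll.K905.TotSplit

/-!
# Local theorem: the Koszul complexes compute the de Rham cohomology in one degree
-/

set_option autoImplicit false
set_option linter.unusedSectionVars false

open ExteriorAlgebra K904 K905.TotM K905.TotPhi Module K905.TotSplit

namespace K905.TotLocal

/-- The charts. -/
structure Chart (p : ℕ) [hp : Fact p.Prime] {At A : Type*} [CommRing At] [CommRing A] [PZ p A] (θ : At →+* A)
    {L : Type*} [AddCommGroup L] [Module A L] (δ : A →+ L) (d : ExteriorAlgebra A L →+ ExteriorAlgebra A L)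
    {J : Type*} [LinearOrder J] [Fintype J] (e : Basis J A L) (xt : J → At) (F : At →+* At) : Prop where
  froblift : FrobLift p θ F
  dr : IsDR δ d
  pbasis : LocalCartier.IsPBasis p (fun j => θ (xt j))
  ex : ∀ j, e j = δ (θ (xt j))
  univ : ∀ D : A →+ Qt p θ, (∀ a b, D (a * b) = a • D b + b • D a) → ∃ T : L →ₗ[A] Qt p θ, ∀ a, T (δ a) = D a

variable {p : ℕ} [hp : Fact p.Prime] {At A : Type*} [CommRing At] [CommRing A] [CharP A p] [PZ p A] {θ : At →+* A}
  {L : Type*} [AddCommGroup L] [Module A L] {δ : A →+ L} {d : ExteriorAlgebra A L →+ ExteriorAlgebra A L}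
  {J : Type*} [LinearOrder J] [Fintype J] {e : Basis J A L} {xt : J → At} {F : At →+* At}
  (h : Chart p θ δ d e xt F)

/-! ### Coordinates -/

section coord

variable {x : J → A} (hx : LocalCartier.IsPBasis p x)

/-- The linear map of coordinates. -/
noncomputable def lc (x : J → A) : ((J → ZMod p) → A) →ₗ[A] Fr p A :=
  Fintype.linearCombination A (fun a : J → ZMod p => toFr p A (LocalCartier.mon x (fun j => (a j).val)))

theorem lc_apply (x : J → A) (β : (J → ZMod p) → A) :
    lc x β = toFr p A (∑ a, β a ^ p * LocalCartier.mon x (fun j => (a j).val)) := by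
  rw [lc, Fintype.linearCombination_apply, map_sum]
  exact Finset.sum_congr rfl fun a _ => smul_toFr p _ _

include hx in
theorem lc_bijective : Function.Bijective (lc (p := p) x) := by
  have : (lc (p := p) x : ((J → ZMod p) → A) → Fr p A) = (toFr p A) ∘
      (fun β : (J → ZMod p) → A => ∑ a, β a ^ p * LocalCartier.mon x (fun j => (a j).val)) := by
    funext β
    exact lc_apply x β
  rw [this]
  exact (toFr p A).bijective.comp hx

/-- The basis of `Fr p A`. -/
noncomputable def bF : Basis (J → ZMod p) A (Fr p A) :=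
  Basis.ofEquivFun (LinearEquiv.ofBijective (lc x) (lc_bijective hx)).symm

/-- The coordinates. -/
noncomputable def ε (hF : FrobLift p θ F) (a : J → ZMod p) : Module.Dual A (TM p θ) :=
  ((bF hx).coord a).comp (FrobLift.ρ hF)

theorem coord (hF : FrobLift p θ F) : Kos.Coord (io p θ) (bF hx) (ε hx hF) where
  span_e s := (bF hx).mem_span s
  dual i j := by
    classical
    rw [ε, LinearMap.comp_apply, FrobLift.ρ_io, Basis.coord_apply, Basis.repr_self]
    by_cases hij : i = j
    · subst hij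
      rw [Finsupp.single_eq_same, if_pos rfl]
    · rw [Finsupp.single_apply, if_neg (fun h => hij h.symm), if_neg hij]
  span_M m := by
    have hm : m = (m - io p θ (FrobLift.ρ hF m)) + io p θ (FrobLift.ρ hF m) := by abel
    rw [hm]
    refine Submodule.add_mem _ (Submodule.subset_span (Or.inr fun l => ?_)) ?_
    · rw [ε, LinearMap.comp_apply, map_sub, FrobLift.ρ_io, sub_self, map_zero]
    · generalize FrobLift.ρ hF m = s
      induction (bF hx).mem_span s using Submodule.span_induction with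
      | mem y hy =>
        obtain ⟨l, rfl⟩ := hy
        exact Submodule.subset_span (Or.inl ⟨l, rfl⟩)
      | zero => rw [map_zero]; exact Submodule.zero_mem _
      | add a b _ _ ha hb => rw [map_add]; exact Submodule.add_mem _ ha hb
      | smul c a _ ha => rw [map_smul]; exact Submodule.smul_mem _ _ ha

end coord

include h in
/-- **Local exactness.** -/
theorem exact {j i : ℕ} (hij : i < j) (hw : j - i + 1 < p ∨ j < p) {z : Kos.KK A (Fr p A) (TM p θ)}
    (hz : z ∈ Kos.P A (Fr p A) (TM p θ) j i) (hκ : Kos.κ (io p θ) z = 0) :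
    ∃ y ∈ Kos.Pp A (Fr p A) (TM p θ) j i, Kos.κ (io p θ) y = z :=
  Kos.exact p PZ.eq_zero (coord h.pbasis h.froblift) hij hw hz hκ

/-! ### The top degree -/

include h in
theorem d_eq : d = LocalCartier.d δ e := by
  refine Iso.ext_of_basis e fun b s => ?_
  obtain ⟨n, v, h1, -⟩ := Ext.exists_basis_eq e s
  have h2 : d (e.ExteriorAlgebra s) = 0 := by
    have := h.dr.rule (n := n) 1 (fun i => θ (xt (v i)))
    rw [one_smul] at this
    rw [h1]
    simp only [h.ex] at this ⊢
    rw [this, ιMulti_succ_apply]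
    have h3 : δ (1 : A) = 0 := by
      have := h.dr.leib 1 1
      rw [one_mul, one_smul] at this
      exact left_eq_add.1 this
    rw [Fin.cons_zero, h3, map_zero, zero_mul]
  rw [h.dr.smul, h2, smul_zero, add_zero, LocalCartier.d, Iso.dd_basis]
  conv_lhs => rw [← e.sum_repr (δ b), map_sum, Finset.sum_mul]
  refine Finset.sum_congr rfl fun j _ => ?_
  rw [map_smul, smul_mul_assoc]
  rfl

include h in
theorem logChart : LocalCartier.LogChart p (fun _ : J => False) (fun j => θ (xt j)) δ e where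
  pbasis := h.pbasis
  leib := h.dr.leib
  log _ hj := hj.elim
  plain j _ := (h.ex j).symm

variable (L) in
/-- The exterior powers of degree `j - 1`. -/
def prevL : ℕ → Submodule A (ExteriorAlgebra A L)
  | 0 => ⊥
  | n + 1 => ⋀[A]^n L

theorem frob_eq : frobenius A p = frob p A := by
  ext a
  rfl

include h in
theorem FF_σ (ω : ExteriorAlgebra A L) :
    FF p θ δ h.dr.leib (ExteriorAlgebra.map (σ p θ e xt) ω) =
      LocalCartier.cb p (fun _ : J => False) (fun j => θ (xt j)) e 0 ω := by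
  have h0 : LocalCartier.mon (fun j => θ (xt j)) (0 : J → ℕ) = 1 := by
    rw [LocalCartier.mon]
    simp
  rw [LocalCartier.cb_apply, h0, one_smul]
  have : (FF p θ δ h.dr.leib).comp (ExteriorAlgebra.map (σ p θ e xt)).toRingHom =
      LocalCartier.c0 p (fun _ : J => False) (fun j => θ (xt j)) e := by
    refine Semi.ringHom_ext (fun a => ?_) (fun m => ?_)
    · change FF p θ δ h.dr.leib (ExteriorAlgebra.map (σ p θ e xt) (algebraMap A _ a)) = _
      rw [AlgHom.commutes, FF_algebraMap, LocalCartier.c0, Semi.extR_algebraMap]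
      rfl
    · change FF p θ δ h.dr.leib (ExteriorAlgebra.map (σ p θ e xt) (ι A m)) = _
      rw [ExteriorAlgebra.map_apply_ι, FF_ι, LocalCartier.c0, Semi.extR_ι]
      congr 1
      conv_lhs => rw [← e.sum_repr m, map_sum, map_sum]
      change _ = ∑ j, _
      refine Finset.sum_congr rfl fun j _ => ?_
      rw [map_smul, φ_smul, σ_e, φ_br, if_neg not_false, ← h.ex]
      rfl
  exact RingHom.congr_fun this ω

theorem map_mem_ext {M N : Type*} [AddCommGroup M] [Module A M] [AddCommGroup N] [Module A N] (g : M →ₗ[A] N) {n : ℕ}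
    {ω : ExteriorAlgebra A M} (hω : ω ∈ ⋀[A]^n M) : ExteriorAlgebra.map g ω ∈ ⋀[A]^n N := by
  have h1 := Semi.extR_mem (RingHom.id A) g.toAddMonoidHom (fun a m => map_smul g a m) n ω hω
  have h2 : (ExteriorAlgebra.map g).toRingHom =
      Semi.extR (RingHom.id A) g.toAddMonoidHom (fun a m => map_smul g a m) := by
    refine Semi.ringHom_ext (fun a => ?_) (fun m => ?_)
    · rw [Semi.extR_algebraMap]
      exact AlgHom.commutes _ a
    · rw [Semi.extR_ι]
      exact ExteriorAlgebra.map_apply_ι g m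
  rw [← RingHom.congr_fun h2 ω] at h1
  exact h1

theorem A_E_mem {j i : ℕ} (m : TM p θ) {z : Kos.KK A (Fr p A) (TM p θ)} (hz : z ∈ Kos.P A (Fr p A) (TM p θ) j i) :
    Kos.A (Ext.E m) z ∈ Kos.P A (Fr p A) (TM p θ) (j + 1) (i + 1) := by
  refine Kos.map_P_le _ _ (fun t ω ht hω => ?_) hz
  rw [Kos.A_mk]
  exact Kos.mk_mem_P _ _ (by omega) (Ext.E_mem m i ω hω)

theorem A_E_mem' {j : ℕ} (m : TM p θ) {z : Kos.KK A (Fr p A) (TM p θ)} (hz : z ∈ Kos.Pp A (Fr p A) (TM p θ) j j) :
    Kos.A (Ext.E m) z ∈ Kos.Pp A (Fr p A) (TM p θ) (j + 1) (j + 1) := by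
  cases j with
  | zero =>
    rw [show z = 0 from hz, map_zero]
    exact AddSubgroup.zero_mem _
  | succ i => exact A_E_mem m hz

include h in
theorem sub_σπ (j : ℕ) {ω : ExteriorAlgebra A (TM p θ)} (hω : ω ∈ ⋀[A]^j (TM p θ)) :
    ∃ y ∈ Kos.Pp A (Fr p A) (TM p θ) j j, Kos.κ (io p θ) y =
      Kos.mk 0 (ω - ExteriorAlgebra.map (σ p θ e xt) (ExteriorAlgebra.map (π p θ δ h.dr.leib) ω)) := by
  induction j generalizing ω with
  | zero =>
    rw [exteriorPower, pow_zero, Submodule.mem_one] at hω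
    obtain ⟨a, rfl⟩ := hω
    refine ⟨0, AddSubgroup.zero_mem _, ?_⟩
    rw [map_zero, AlgHom.commutes, AlgHom.commutes, sub_self, Kos.mk_zero]
  | succ j ih =>
    rw [exteriorPower, pow_succ'] at hω
    induction hω using Submodule.mul_induction_on' with
    | mem_mul_mem v hv ω' hω' =>
      obtain ⟨v, rfl⟩ := hv
      obtain ⟨y, hy, hy2⟩ := ih hω'
      obtain ⟨s, hs⟩ := sub_mem h.froblift δ h.dr.leib e xt h.ex h.univ v
      refine ⟨Kos.mk {s} ω' - Kos.A (Ext.E (σ p θ e xt (π p θ δ h.dr.leib v))) y,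
        AddSubgroup.sub_mem _ (Kos.mk_mem_P _ _ (by rw [Multiset.card_singleton, add_comm]) hω') (A_E_mem' _ hy), ?_⟩
      rw [map_sub, Kos.κ_E, hy2, Kos.κ_mk, ← Multiset.cons_zero, Kos.κ₀_cons, Kos.κ₀_zero, map_zero, add_zero,
        Kos.A_mk, sub_neg_eq_add, ← Kos.mk_add, hs, Ext.E_apply, map_mul, map_mul, ExteriorAlgebra.map_apply_ι,
        ExteriorAlgebra.map_apply_ι, map_sub]
      congr 1
      noncomm_ring
    | add a _ b _ ha hb =>
      obtain ⟨y, hy, hy2⟩ := ha
      obtain ⟨z, hz, hz2⟩ := hb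
      refine ⟨y + z, AddSubgroup.add_mem _ hy hz, ?_⟩
      rw [map_add, hy2, hz2, ← Kos.mk_add, map_add, map_add]
      congr 1
      abel

theorem exists_of_mem_top {j : ℕ} {z : Kos.KK A (Fr p A) (TM p θ)} (hz : z ∈ Kos.P A (Fr p A) (TM p θ) j j) :
    ∃ ω ∈ ⋀[A]^j (TM p θ), z = Kos.mk 0 ω := by
  induction hz using AddSubgroup.closure_induction with
  | mem z hz =>
    obtain ⟨t, ω, ht, hω, rfl⟩ := hz
    obtain rfl : t = 0 := Multiset.card_eq_zero.1 (by omega)
    exact ⟨ω, hω, rfl⟩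
  | zero => exact ⟨0, Submodule.zero_mem _, by rw [Kos.mk_zero]⟩
  | add x y _ _ hx hy =>
    obtain ⟨a, ha, rfl⟩ := hx
    obtain ⟨b, hb, rfl⟩ := hy
    exact ⟨a + b, Submodule.add_mem _ ha hb, by rw [Kos.mk_add]⟩
  | neg x _ hx =>
    obtain ⟨a, ha, rfl⟩ := hx
    exact ⟨-a, Submodule.neg_mem _ ha, by rw [Kos.mk_neg]⟩

theorem Φ_mem_prev {j : ℕ} {y : Kos.KK A (Fr p A) (TM p θ)} (hδ : ∀ a b, δ (a * b) = a • δ b + b • δ a)
    (hy : y ∈ Kos.Pp A (Fr p A) (TM p θ) j j) : Φ p θ δ hδ y ∈ prevL (A := A) L j := by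
  cases j with
  | zero =>
    rw [show y = 0 from hy, map_zero]
    exact Submodule.zero_mem _
  | succ i => exact Φ_mem p θ δ hδ hy

include h in
/-- **Top degree.** -/
theorem top (j : ℕ) :
    (∀ y ∈ ⋀[A]^j L, d y = 0 → ∃ z ∈ Kos.P A (Fr p A) (TM p θ) j j, ∃ w ∈ prevL (A := A) L j,
      y = Φ p θ δ h.dr.leib z + d w) ∧
    (∀ z ∈ Kos.P A (Fr p A) (TM p θ) j j, ∀ w ∈ prevL (A := A) L j, Φ p θ δ h.dr.leib z = d w →
      ∃ y ∈ Kos.Pp A (Fr p A) (TM p θ) j j, Kos.κ (io p θ) y = z) := by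
  obtain ⟨H, r, h1, h2, h3, h4, -, -, h7, h8, h9⟩ := LocalCartier.main (logChart h) (pole := 0)
    (fun _ => hp.1.pos) (fun _ _ => rfl)
  have hdb : ∀ y, LocalCartier.db δ e 0 y = d y := by
    intro y
    rw [LocalCartier.db_apply, d_eq h]
    simp
  constructor
  · intro y hy hdy
    have h10 := h1 y
    rw [hdb, hdb, hdy, map_zero, add_zero] at h10
    refine ⟨Kos.mk 0 (ExteriorAlgebra.map (σ p θ e xt) (r y)), Kos.mk_mem_P _ _ (by simp)
      (map_mem_ext _ (h9 j y hy)), H y, ?_, ?_⟩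
    · cases j with
      | zero => exact h8 y hy
      | succ n => exact h7 n y hy
    · rw [Φ_mk, pr_zero, one_smul, FF_σ h, h10]
      abel
  · intro z hz w hw hzw
    obtain ⟨ω, hω, rfl⟩ := exists_of_mem_top hz
    obtain ⟨y, hy, hy2⟩ := sub_σπ h j hω
    have e1 : FF p θ δ h.dr.leib ω = d w := by
      rw [← hzw, Φ_mk, pr_zero, one_smul]
    have e2 : FF p θ δ h.dr.leib (ω - ExteriorAlgebra.map (σ p θ e xt) (ExteriorAlgebra.map (π p θ δ h.dr.leib) ω)) =
        d (Φ p θ δ h.dr.leib y) := by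
      rw [d_Φ p θ δ h.dr, hy2, Φ_mk, pr_zero, one_smul]
    rw [map_sub, e1, FF_σ h] at e2
    have e3 := congrArg r e2
    rw [map_sub, h2, ← hdb, ← hdb, h3, h3, zero_sub, neg_eq_zero] at e3
    rw [e3, map_zero, sub_zero] at hy2
    exact ⟨y, hy, hy2⟩

end K905.TotLocal
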