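import Groth.Agent.DelIll.K905.Band
import Groth.Agent.S0458

/-!
# Dimension at most `p`: the only possible obstruction is in bidegree `(p, p)`
-/

set_option autoImplicit false
set_option linter.unusedSectionVars false
universe w u

open CategoryTheory CategoryTheory.Limits AlgebraicGeometry Opposite TopologicalSpace DerivedCategory
open CategoryTheory.Pretriangulated
open K905.HTExact K905.HD K905.Conj E1Deg KLinDR K905.ConjSch K905.Band

namespace K905.DimLe

section tow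

universe v u'

variable {C : Type u} [Category.{v} C] [Preadditive C] [HasZeroObject C] [HasShift C ℤ]
  [∀ (n : ℤ), (shiftFunctor C n).Additive] [Pretriangulated C] {k : Type u'} [Field k]

/-- Injectivity one degree up gives surjectivity. -/
theorem Sj_of_injective (W : Tow C k) (P : C) (j n : ℤ)
    (h : ∀ y : P ⟶ (shiftFunctor C (n + 1)).obj (W.F (j - 1)), y ≫ (shiftFunctor C (n + 1)).map (W.i j) = 0 → y = 0) :
    W.Sj P j n := fun z =>
  con_exact₃ (W.tri j) n (n + 1) rfl z (h _ (map_con (W.tri j) n (n + 1) rfl z))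

end tow

theorem subsingleton_HH_of_dim {X : Scheme.{u}} [IsNoetherian X] (d : ℕ) (hd : topologicalKrullDim ↥X ≤ d) (M : X.Modules)
    (m : ℕ) (hm : d < m) : Subsingleton (Coh.HH X M m) := by
  have : TopologicalSpace.NoetherianSpace X := inferInstance
  exact @Groth.Agent.S0458.result X.toTopCat this d hd (Coh.toAb M) m hm

variable {p : ℕ} [hp : Fact p.Prime] {k : Type u} [Field k] [CharP k p] [PerfectRing k p] {X : Scheme.{u}}
  [X.Over (Spec (CommRingCat.of k))] {Ω' : X.Modules} {δ : OmegaSh.Der (X ↘ Spec (CommRingCat.of k)) Ω'}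
  [HasDerivedCategory.{w} (Sheaf (Opens.grothendieckTopology X) AddCommGrpCat.{u})]
  (D : DeRhamSh.Cx (X ↘ Spec (CommRingCat.of k)) Ω' δ)
  (hcov : ∀ (U : Opens X) (x : X), x ∈ U → ∃ V ∈ CartSh.chs p δ, x ∈ V ∧ V ≤ U)
  (h : TermwiseLinear (Coh.toGlobal (X ↘ Spec (CommRingCat.of k))) D.K D.term D.iso)

/-- The windows. -/
abbrev Dec (a b : ℤ) : Prop :=
  Nonempty ((TStructure.t.truncGELE a b).obj (E D) ≅
      ⨁ (fun l : Finset.Icc a b => (singleFunctor (Sheaf (Opens.grothendieckTopology X) AddCommGrpCat.{u}) l.1).obj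
        (D.KZ.homology l.1)))

include hcov h in
theorem Sj_of_ne (hfin : ∀ i m, Module.Finite k (Coh.HH X (D.term i) m))
    (hvan : ∀ i m, p < m → Subsingleton (Coh.HH X (D.term i) m))
    (hdec : ∀ a b : ℤ, b + 2 ≤ a + p ∨ b < p → Dec D a b) (j n : ℕ) (hj : j < p + 1) (hjn : j ≤ n)
    (hne : ¬ (j = p ∧ n = p)) : (tow (E D) (ρ D h)).Sj (P X) j n := by
  have hp2 := hp.out.two_le
  rcases Nat.lt_or_ge j p with h1 | h1
  · exact Sj_of_vanishing D hcov h hfin (a := 0) (by omega) (hdec 0 j (Or.inr (by omega))) fun l hl _ => by omega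
  · have h2 : j = p := by omega
    subst h2
    exact Sj_of_vanishing D hcov h hfin (a := 2) (by omega) (hdec 2 j (Or.inl (by omega))) fun l hl _ =>
      hvan _ _ (by omega)

include hcov h in
/-- **Numerical criterion** in the remaining bidegree. -/
theorem Sj_of_finrank (hfin : ∀ i m, Module.Finite k (Coh.HH X (D.term i) m))
    (hvan : ∀ i m, p < m → Subsingleton (Coh.HH X (D.term i) m)) (hN : ∀ i, p + 1 ≤ i → IsZero (D.term i))
    (hdec : ∀ a b : ℤ, b + 2 ≤ a + p ∨ b < p → Dec D a b)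
    (hnum : Module.finrank k (HTρ (CohCx.freeSheaf (Opens.grothendieckTopology X) (⊤ : X.Opens)) D.KZ (scalar h)
      ((p + 1 : ℕ) : ℤ)) = ∑ i ∈ Finset.range (p + 1 + 1), Module.finrank k (Coh.HH X (D.term i) (p + 1 - i))) :
    (tow (E D) (ρ D h)).Sj (P X) p p := by
  have hS := Sj_of_ne D hcov h hfin hvan hdec
  let W := tow (E D) (ρ D h)
  have hdeg : ∀ j : ℤ, 0 ≤ j → j < 0 + (p : ℤ) → ∃ j' : ℕ, (j' : ℤ) = j ∧ j' < p := fun j h1 h2 =>
    ⟨j.toNat, by omega, by omega⟩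
  have hG : ∀ j : ℕ, j ≤ p → Module.Finite k (V (P X) (W.ρG j) ((p + 1 : ℕ) : ℤ)) := fun j hj =>
    (gradeG D hcov h j (p + 1 - j) ((p + 1 : ℕ) : ℤ) (by omega)).1 (hfin _ _)
  have hG' : ∀ j : ℕ, j ≤ p → Module.finrank k (V (P X) (W.ρG j) ((p + 1 : ℕ) : ℤ)) =
      Module.finrank k (Coh.HH X (D.term j) (p + 1 - j)) := fun j hj =>
    (gradeG D hcov h j (p + 1 - j) ((p + 1 : ℕ) : ℤ) (by omega)).2
  obtain ⟨c1, c2⟩ := W.count (P X) ((p + 1 : ℕ) : ℤ) 0 (subsingleton_F (E D) (P X) 0 (isGE D) _) p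
    (fun j h1 h2 => by
      obtain ⟨j, rfl, hj⟩ := hdeg j h1 h2
      exact hG j hj.le)
    (fun j h1 h2 => by
      obtain ⟨j, rfl, hj⟩ := hdeg j h1 h2
      exact hS j (p + 1) (by omega) (by omega) (by omega))
    (fun j h1 h2 => by
      obtain ⟨j, rfl, hj⟩ := hdeg j h1 h2
      have h3 := hS j p (by omega) (by omega) (by omega)
      have e1 : ((p + 1 : ℕ) : ℤ) - 1 = p := by push_cast; ring
      rw [e1]
      exact h3)
  have e1 : (0 : ℤ) + p - 1 = p - 1 := by ring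
  rw [e1] at c1 c2
  let f : V (P X) (W.ρF ((p : ℤ) - 1)) ((p + 1 : ℕ) : ℤ) →ₗ[k] V (P X) (W.ρF p) ((p + 1 : ℕ) : ℤ) :=
    V.map (P X) (W.i p) (W.ci p) _
  let g : V (P X) (W.ρF p) ((p + 1 : ℕ) : ℤ) →ₗ[k] V (P X) (W.ρG p) ((p + 1 : ℕ) : ℤ) :=
    V.map (P X) (W.q p) (W.cq p) _
  have h1 : ∀ x, g (f x) = 0 := fun x => by
    have h2 : W.i p ≫ W.q p = 0 := comp_distTriang_mor_zero₁₂ _ (W.tri _)
    change (H.to x ≫ (shiftFunctor _ ((p + 1 : ℕ) : ℤ)).map (W.i p)) ≫ (shiftFunctor _ ((p + 1 : ℕ) : ℤ)).map (W.q p) = 0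
    rw [Category.assoc, ← Functor.map_comp, h2, Functor.map_zero, comp_zero]
  have h2 : ∀ x, g x = 0 → ∃ y, f y = x := fun x hx => W.exact (P X) p ((p + 1 : ℕ) : ℤ) (H.to x) hx
  have hGp := hG p le_rfl
  have hc := (ExactFin.finrank_mid_eq_iff f g h1 h2).1 (by
    have hb := topEquiv (E D) (ρ D h) (P X) (p : ℤ) (by
      have := isLE D (p + 1) hN
      simpa using this) ((p + 1 : ℕ) : ℤ)
    have e2 := hb.finrank_eq
    have e3 : Module.finrank k (V (P X) (W.ρF p) ((p + 1 : ℕ) : ℤ)) =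
        Module.finrank k (V (P X) (ρ D h) ((p + 1 : ℕ) : ℤ)) := e2
    rw [e3, ← (toV D h ((p + 1 : ℕ) : ℤ)).finrank_eq, hnum, hG' p le_rfl, Finset.sum_range_succ, Finset.sum_range_succ]
    have h5 : Subsingleton (Coh.HH X (D.term (p + 1)) (p + 1 - (p + 1))) :=
      subsingleton_HH _ (Functor.map_isZero (SheafOfModules.toSheaf X.ringCatSheaf) (hN (p + 1) le_rfl)) _
    rw [Module.finrank_zero_of_subsingleton (R := k) (M := Coh.HH X (D.term (p + 1)) (p + 1 - (p + 1))), add_zero]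
    congr 1
    refine Eq.trans ?_ c2.symm
    refine Finset.sum_congr rfl fun j hj => ?_
    rw [zero_add]
    exact (hG' j (Finset.mem_range.1 hj).le).symm)
  refine Sj_of_injective W (P X) p p fun y hy => ?_
  have e4 : ((p + 1 : ℕ) : ℤ) = p + 1 := by push_cast; ring
  have h6 := hc.1
  rw [injective_iff_map_eq_zero] at h6
  have h7 : ∀ y : P X ⟶ (shiftFunctor _ ((p + 1 : ℕ) : ℤ)).obj (W.F ((p : ℤ) - 1)),
      y ≫ (shiftFunctor _ ((p + 1 : ℕ) : ℤ)).map (W.i p) = 0 → y = 0 := fun y hy => h6 (H.to.symm y) hy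
  rw [e4] at h7
  exact h7 y hy

end K905.DimLe
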