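import Groth.Agent.DelIll.K905.ResCx
import Groth.Agent.DelIll.K905.DimLe

/-!
# The dimension formula and disjoint unions
-/

set_option autoImplicit false
universe w w' u

open CategoryTheory CategoryTheory.Limits AlgebraicGeometry Opposite TopologicalSpace
open E1Deg KLinDR K905.HTFin K905.ResHT K905.ResOpen K905.RestrCx K905.ResCx

namespace K905.AddSch

variable {k : Type u} [Field k] {X : Scheme.{u}} [X.Over (Spec (CommRingCat.of k))]

theorem finrank_of_prod {M M₁ M₂ : Type*} [AddCommGroup M] [AddCommGroup M₁] [AddCommGroup M₂] [Module k M]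
    [Module k M₁] [Module k M₂] (e : M ≃ₗ[k] M₁ × M₂) (hM : Module.Finite k M) :
    Module.finrank k M = Module.finrank k M₁ + Module.finrank k M₂ := by
  have h1 : Module.Finite k (M₁ × M₂) := Module.Finite.equiv e
  have h2 : Module.Finite k M₁ := Module.Finite.of_surjective (LinearMap.fst k M₁ M₂) LinearMap.fst_surjective
  have h3 : Module.Finite k M₂ := Module.Finite.of_surjective (LinearMap.snd k M₁ M₂) LinearMap.snd_surjective
  rw [e.finrank_eq, Module.finrank_prod]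

/-- **The dimension formula** in all degrees. -/
def Formula {Ω' : X.Modules} {δ : OmegaSh.Der (X ↘ Spec (CommRingCat.of k)) Ω'}
    (D : DeRhamSh.Cx (X ↘ Spec (CommRingCat.of k)) Ω' δ)
    (h : TermwiseLinear (Coh.toGlobal (X ↘ Spec (CommRingCat.of k))) D.K D.term D.iso)
    [HasDerivedCategory.{w} (Sheaf (Opens.grothendieckTopology X) AddCommGrpCat.{u})] : Prop :=
  ∀ n : ℕ, Module.finrank k (HTρ (CohCx.freeSheaf (Opens.grothendieckTopology X) (⊤ : X.Opens)) D.KZ (scalar h) n) =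
    ∑ i ∈ Finset.range (n + 1), Module.finrank k (Coh.HH X (D.term i) (n - i))

variable {Ω' : X.Modules} {δ : OmegaSh.Der (X ↘ Spec (CommRingCat.of k)) Ω'}
  (D : DeRhamSh.Cx (X ↘ Spec (CommRingCat.of k)) Ω' δ)
  (h : TermwiseLinear (Coh.toGlobal (X ↘ Spec (CommRingCat.of k))) D.K D.term D.iso)
  [i1 : HasDerivedCategory.{w} (Sheaf (Opens.grothendieckTopology X) AddCommGrpCat.{u})] (Y Z : X.Opens)
  [i2 : HasDerivedCategory.{w'} (Sheaf (Opens.grothendieckTopology Y.toScheme) AddCommGrpCat.{u})]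
  [i3 : HasDerivedCategory.{w'} (Sheaf (Opens.grothendieckTopology Z.toScheme) AddCommGrpCat.{u})]

include h i1 i2 i3 in
/-- Additivity of Hodge numbers. -/
theorem finrank_HH_add (hd : Y ⊓ Z = ⊥) (hc : Y ⊔ Z = ⊤) (a m : ℕ) (hfin : Module.Finite k (Coh.HH X (D.term a) m)) :
    Module.finrank k (Coh.HH X (D.term a) m) = Module.finrank k (Coh.HH Y.toScheme ((rcx Y D).term a) m) +
      Module.finrank k (Coh.HH Z.toScheme ((rcx Z D).term a) m) := by
  obtain ⟨eY⟩ := nonempty_resGr Y D h (a : ℤ) ((a + m : ℕ) : ℤ)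
  obtain ⟨eZ⟩ := nonempty_resGr Z D h (a : ℤ) ((a + m : ℕ) : ℤ)
  let e := disjLin ((HomologicalComplex.single _ (ComplexShape.up ℤ) (a : ℤ)).obj (D.KZ.X a))
    ((grEnd D.KZ a).comp (scalar h)) ((a + m : ℕ) : ℤ) hd hc
  have h0 : Module.Finite k (HTρ (CohCx.freeSheaf (Opens.grothendieckTopology X) (⊤ : X.Opens))
      ((HomologicalComplex.single _ (ComplexShape.up ℤ) (a : ℤ)).obj (D.KZ.X a)) ((grEnd D.KZ a).comp (scalar h))
      ((a + m : ℕ) : ℤ)) := Module.Finite.equiv (grHH D h a m).symm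
  rw [← (grHH D h a m).finrank_eq, ← (grHH (rcx Y D) (termwiseLinear_rcx Y D h) a m).finrank_eq,
    ← (grHH (rcx Z D) (termwiseLinear_rcx Z D h) a m).finrank_eq, ← eY.finrank_eq, ← eZ.finrank_eq]
  exact finrank_of_prod e h0

/-- **Additivity of the formula.** -/
theorem formula_of_disjoint (hd : Y ⊓ Z = ⊥) (hc : Y ⊔ Z = ⊤)
    (hfin : ∀ a m, Module.Finite k (Coh.HH X (D.term a) m))
    (hfin' : ∀ n : ℕ, Module.Finite k (HTρ (CohCx.freeSheaf (Opens.grothendieckTopology X) (⊤ : X.Opens)) D.KZ (scalar h) n))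
    (hY : Formula (rcx Y D) (termwiseLinear_rcx Y D h)) (hZ : Formula (rcx Z D) (termwiseLinear_rcx Z D h)) :
    Formula D h := by
  intro n
  obtain ⟨eY⟩ := nonempty_resHdR Y D h n
  obtain ⟨eZ⟩ := nonempty_resHdR Z D h n
  rw [finrank_of_prod (disjLin D.KZ (scalar h) (n : ℤ) hd hc) (hfin' n), eY.finrank_eq, eZ.finrank_eq, hY n, hZ n,
    ← Finset.sum_add_distrib]
  exact Finset.sum_congr rfl fun i _ => (finrank_HH_add D h Y Z hd hc i (n - i) (hfin i (n - i))).symm

end K905.AddSch
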