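import Groth.Agent.DelIll.K905.TotLocal
import Groth.Agent.DelIll.K904.DR

/-!
# The local Cartier isomorphism, with its intrinsic description

`cI p x e` is the Frobenius semilinear ring endomorphism of `Λ_B L` with `e_j ↦ x_j ^ (p - 1) e_j`.  For a derivation `δ`
with `δ x_j = e_j`, `x` a `p`-basis: `cI` is closed, has a retraction `r` killing exact forms, every closed form is
`cI (r y) + d (H y)`, and `cI (b δa_1 ∧ ⋯ ∧ δa_n) ≡ b ^ p (∏ a_i ^ (p - 1)) δa_1 ∧ ⋯ ∧ δa_n` modulo exact forms.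
-/

set_option autoImplicit false
set_option linter.unusedSectionVars false

open ExteriorAlgebra K904 K905.TotM K905.TotPhi Module K905.TotLocal

namespace K905.CartLoc

variable (p : ℕ) [hp : Fact p.Prime] {B L J : Type*} [CommRing B] [CharP B p] [AddCommGroup L] [Module B L]
  [LinearOrder J] [Fintype J] {x : J → B} {δ : B →+ L} {e : Basis J B L}

/-- The inverse Cartier operator. -/
noncomputable abbrev cI (x : J → B) (e : Basis J B L) : ExteriorAlgebra B L →+* ExteriorAlgebra B L :=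
  LocalCartier.c0 p (fun _ : J => False) x e

/-- The differential. -/
noncomputable abbrev dI (δ : B →+ L) (e : Basis J B L) : ExteriorAlgebra B L →+ ExteriorAlgebra B L :=
  LocalCartier.d δ e

variable (h : LocalCartier.LogChart p (fun _ : J => False) x δ e)

instance pzI : PZ p B := ⟨CharP.cast_eq_zero B p⟩

include h in
theorem isDR : IsDR δ (dI δ e) := by
  refine ⟨h.leib, fun b => DR.d_algebraMap h b, fun x y => DR.d_mul h x y, fun b => ?_⟩
  rw [← DR.d_algebraMap h]
  exact DR.d_d h _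

theorem cI_ι (v : L) : cI p x e (ι B v) = ι B (LocalCartier.fadd p (fun _ : J => False) x e v) :=
  Semi.extR_ι _ _ _ _

theorem cI_smul (b : B) (y : ExteriorAlgebra B L) : cI p x e (b • y) = b ^ p • cI p x e y :=
  Semi.extR_smul _ _ _ _ _

theorem cI_mem (n : ℕ) (y : ExteriorAlgebra B L) (hy : y ∈ ⋀[B]^n L) : cI p x e y ∈ ⋀[B]^n L :=
  Semi.extR_mem _ _ _ n y hy

theorem cb_zero (y : ExteriorAlgebra B L) :
    LocalCartier.cb p (fun _ : J => False) x e (fun _ => 0) y = cI p x e y := by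
  have h0 : LocalCartier.mon x (fun _ : J => 0) = 1 := by
    rw [LocalCartier.mon]
    simp
  rw [LocalCartier.cb_apply, h0, one_smul]

include h in
/-- **Local Cartier isomorphism.** -/
theorem main : ∃ H r : ExteriorAlgebra B L →+ ExteriorAlgebra B L,
      (∀ y, dI δ e (H y) + H (dI δ e y) = y - cI p x e (r y)) ∧
      (∀ y, r (cI p x e y) = y) ∧
      (∀ y, r (dI δ e y) = 0) ∧
      (∀ y, dI δ e (cI p x e y) = 0) ∧
      (∀ n, ∀ y ∈ ⋀[B]^(n + 1) L, H y ∈ ⋀[B]^n L) ∧
      (∀ y ∈ ⋀[B]^0 L, H y = 0) ∧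
      (∀ n, ∀ y ∈ ⋀[B]^n L, r y ∈ ⋀[B]^n L) := by
  obtain ⟨H, r, h1, h2, h3, h4, -, -, h7, h8, h9⟩ := LocalCartier.main h (pole := fun _ => 0)
    (fun _ => hp.1.pos) (fun _ _ => rfl)
  simp only [DR.db_zero, cb_zero] at h1 h2 h3 h4
  exact ⟨H, r, h1, h2, h3, h4, h7, h8, h9⟩

include h in
theorem d_cI (y : ExteriorAlgebra B L) : dI δ e (cI p x e y) = 0 := by
  obtain ⟨H, r, h1, h2, h3, h4, -⟩ := main p h
  exact h4 y

include h in
/-- Injectivity. -/
theorem eq_zero_of_exact (y w : ExteriorAlgebra B L) (hyw : cI p x e y = dI δ e w) : y = 0 := by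
  obtain ⟨H, r, h1, h2, h3, h4, -⟩ := main p h
  rw [← h2 y, hyw, h3]

include h in
/-- Surjectivity. -/
theorem exists_of_closed (n : ℕ) (y : ExteriorAlgebra B L) (hy : y ∈ ⋀[B]^n L) (hd : dI δ e y = 0) :
    ∃ z ∈ ⋀[B]^n L, ∃ w ∈ prevL (A := B) L n, y = cI p x e z + dI δ e w := by
  obtain ⟨H, r, h1, h2, h3, h4, h5, h6, h7⟩ := main p h
  refine ⟨r y, h7 n y hy, H y, ?_, ?_⟩
  · cases n with
    | zero => exact h6 y hy
    | succ n => exact h5 n y hy
  · have := h1 y
    rw [hd, map_zero, add_zero] at this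
    rw [this]
    abel

/-! ### The intrinsic description -/

include h in
theorem fadd_δ (a : B) : ∃ w : B, LocalCartier.fadd p (fun _ : J => False) x e (δ a) = a ^ (p - 1) • δ a + δ w := by
  set f := LocalCartier.fadd p (fun _ : J => False) x e with hf
  have hq : ∀ x : B, x ^ (p - 1) * x = x ^ p := fun x => by
    rw [← pow_succ, Nat.sub_add_cancel hp.1.one_le]
  have fsmul : ∀ (b : B) (v : L), f (b • v) = b ^ p • f v := fun b v => LocalCartier.fadd_smul b v
  let P : B → Prop := fun a => ∃ w : B, f (δ a) = a ^ (p - 1) • δ a + δ w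
  have hpow : ∀ b : B, P (b ^ p) := fun b => ⟨0, by
    rw [δ_pow_p p h.leib, map_zero, map_zero, smul_zero, add_zero]⟩
  have hx : ∀ j, P (x j) := fun j => ⟨0, by
    rw [h.plain j not_false, LocalCartier.fadd_basis, if_neg not_false, map_zero, add_zero]⟩
  have hadd : ∀ a b, P a → P b → P (a + b) := by
    rintro a b ⟨u, hu⟩ ⟨v, hv⟩
    refine ⟨u + v - Cross.c p a b, ?_⟩
    rw [map_sub, map_add δ u v, Cross.δ_c hp.1 δ h.leib, map_add δ a b, map_add, hu, hv, smul_add]
    abel
  have hmul : ∀ a b, P a → P b → P (a * b) := by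
    rintro a b ⟨u, hu⟩ ⟨v, hv⟩
    refine ⟨a ^ p * v + b ^ p * u, ?_⟩
    rw [h.leib, map_add, fsmul, fsmul, hu, hv, map_add, h.leib, h.leib, δ_pow_p p h.leib, δ_pow_p p h.leib, smul_zero,
      smul_zero, add_zero, add_zero, smul_add, smul_add, smul_add, smul_smul, smul_smul, smul_smul, smul_smul, mul_pow]
    have e1 : a ^ p * b ^ (p - 1) = a ^ (p - 1) * b ^ (p - 1) * a := by rw [← hq a]; ring
    have e2 : b ^ p * a ^ (p - 1) = a ^ (p - 1) * b ^ (p - 1) * b := by rw [← hq b]; ring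
    rw [e1, e2]
    abel
  have hone : P 1 := by
    have := hpow 1
    rwa [one_pow] at this
  have hzero : P 0 := by
    have := hpow 0
    rwa [zero_pow hp.1.ne_zero] at this
  have hprod : ∀ (s : Finset J) (k : J → ℕ), P (∏ j ∈ s, x j ^ k j) := by
    intro s k
    classical
    induction s using Finset.induction_on with
    | empty => rw [Finset.prod_empty]; exact hone
    | insert i s hi ih =>
      rw [Finset.prod_insert hi]
      refine hmul _ _ ?_ ih
      induction k i with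
      | zero => rw [pow_zero]; exact hone
      | succ m ih => rw [pow_succ]; exact hmul _ _ ih (hx i)
  obtain ⟨β, rfl⟩ := h.pbasis.2 a
  change P (∑ a, β a ^ p * LocalCartier.mon x (fun j => (a j).val))
  refine Finset.sum_induction _ P hadd hzero fun a _ => hmul _ _ (hpow _) (hprod _ _)

include h in
theorem d_smul_pow (b : B) (y : ExteriorAlgebra B L) : dI δ e (b ^ p • y) = b ^ p • dI δ e y := by
  rw [(isDR p h).smul, δ_pow_p p h.leib, map_zero, zero_mul, zero_add]

/-- The intrinsic form. -/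
noncomputable def gen (b : B) {n : ℕ} (a : Fin n → B) : ExteriorAlgebra B L :=
  (b ^ p * ∏ i, a i ^ (p - 1)) • ιMulti B n (fun i => δ (a i))

include h in
theorem cI_one_gen {n : ℕ} (a : Fin n → B) :
    ∃ w ∈ prevL (A := B) L n, cI p x e (ιMulti B n (fun i => δ (a i))) =
      (∏ i, a i ^ (p - 1)) • ιMulti B n (fun i => δ (a i)) + dI δ e w := by
  have hDR := isDR p h
  induction n with
  | zero =>
    refine ⟨0, Submodule.zero_mem _, ?_⟩
    rw [ιMulti_zero_apply, map_one, Finset.univ_eq_empty, Finset.prod_empty, one_smul, map_zero, add_zero]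
  | succ n ih =>
    obtain ⟨w, hw, hcw⟩ := ih (fun i => a i.succ)
    obtain ⟨u, hu⟩ := fadd_δ p h (a 0)
    set R := ιMulti B n (fun i => δ (a i.succ)) with hR
    have e1 : ιMulti B (n + 1) (fun i => δ (a i)) = ι B (δ (a 0)) * R := by
      rw [ιMulti_succ_apply]
      rfl
    have hdR : dI δ e (cI p x e R) = 0 := d_cI p h _
    -- d of the two terms
    have f1 : dI δ e (u • cI p x e R) = ι B (δ u) * cI p x e R := by
      rw [hDR.smul, hdR, smul_zero, add_zero]
    have f3 : dI δ e (ι B (a 0 ^ (p - 1) • δ (a 0))) = 0 := by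
      rw [map_smul, hDR.smul, hDR.dd, smul_zero, add_zero]
      obtain ⟨q, hq⟩ : ∃ q, p - 1 = q + 1 := ⟨p - 2, by have := hp.1.two_le; omega⟩
      rw [hq, δ_pow h.leib, map_smul, map_smul, smul_mul_assoc, smul_mul_assoc, ι_sq_zero, smul_zero, smul_zero]
    have f2 : dI δ e (ι B (a 0 ^ (p - 1) • δ (a 0)) * w) = -(ι B (a 0 ^ (p - 1) • δ (a 0)) * dI δ e w) := by
      rw [hDR.mul, f3, zero_mul, zero_add, Iso.sg_ι, neg_mul]
    refine ⟨u • cI p x e R - ι B (a 0 ^ (p - 1) • δ (a 0)) * w, ?_, ?_⟩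
    · refine Submodule.sub_mem _ (Submodule.smul_mem _ _ (cI_mem p n _ (ιMulti_range B n ⟨_, rfl⟩))) ?_
      cases n with
      | zero =>
        rw [show w = 0 from hw, mul_zero]
        exact Submodule.zero_mem _
      | succ n =>
        have : ι B (a 0 ^ (p - 1) • δ (a 0)) * w ∈ ⋀[B]^(n + 1) L := by
          rw [exteriorPower, pow_succ']
          exact Submodule.mul_mem_mul ⟨_, rfl⟩ hw
        exact this
    · rw [map_sub, f1, f2, e1, map_mul, cI_ι, hu, map_add, add_mul, hcw, Fin.prod_univ_succ, map_smul]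
      simp only [smul_mul_assoc, mul_add, mul_smul, mul_smul_comm]
      rw [smul_comm (∏ i, a (Fin.succ i) ^ (p - 1)) (a 0 ^ (p - 1))]
      abel

include h in
/-- **Intrinsic description.** -/
theorem cI_gen (b : B) {n : ℕ} (a : Fin n → B) :
    ∃ w ∈ prevL (A := B) L n, cI p x e (b • ιMulti B n (fun i => δ (a i))) = gen p (δ := δ) b a + dI δ e w := by
  obtain ⟨w, hw, hcw⟩ := cI_one_gen p h a
  refine ⟨b ^ p • w, Submodule.smul_mem _ _ hw, ?_⟩
  rw [cI_smul, hcw, smul_add, d_smul_pow p h, gen, mul_smul]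

end K905.CartLoc
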