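import Groth.Agent.DelIll.K905.HD
import Groth.Agent.DelIll.K905.Decomp

/-!
# The conjugate filtration: canonical truncations
-/

set_option autoImplicit false
universe w v u u'

open CategoryTheory CategoryTheory.Limits CategoryTheory.Pretriangulated DerivedCategory K905.HTExact K905.HD

namespace K905.Conj

open Groth.Agent.Sga4B.DTrunc DerivedCategory.TStructure

variable {A : Type u} [Category.{v} A] [Abelian A] [HasDerivedCategory.{w} A] {k : Type u'} [Field k]

section tri

variable (E : DerivedCategory A)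

/-- `τ_{≤ j} E`. -/
noncomputable abbrev F (j : ℤ) : DerivedCategory A := (t.truncLE j).obj E

/-- `H^j(τ_{≤ j} E)[-j]`. -/
noncomputable abbrev G (j : ℤ) : DerivedCategory A := (singleFunctor A j).obj ((homologyFunctor A j).obj (F E j))

/-- The transition maps. -/
noncomputable abbrev tr (i j : ℤ) (h : i ≤ j) : F E i ⟶ F E j := (t.natTransTruncLEOfLE i j h).app E

/-- `τ_{≤ i} τ_{≤ j} E ≅ τ_{≤ i} E`. -/
noncomputable def e₁ (i j : ℤ) (h : i ≤ j) : (t.truncLE i).obj (F E j) ≅ F E i :=
  haveI := t.isIso_truncLE_map_truncLEι_app i j h E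
  asIso ((t.truncLE i).map ((t.truncLEι j).app E))

theorem e₁_hom_tr (i j : ℤ) (h : i ≤ j) : (e₁ E i j h).hom ≫ tr E i j h = (t.truncLEι i).app (F E j) := by
  have : t.IsLE ((t.truncLE i).obj (F E j)) j := t.isLE_of_le _ i j h
  refine t.to_truncLE_obj_ext (n := j) ?_
  rw [Category.assoc, t.natTransTruncLEOfLE_ι_app]
  exact (t.truncLEι i).naturality ((t.truncLEι j).app E)

theorem tr_eq (i j : ℤ) (h : i ≤ j) : tr E i j h = (e₁ E i j h).inv ≫ (t.truncLEι i).app (F E j) := by
  rw [← e₁_hom_tr, Iso.inv_hom_id_assoc]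

/-- `τ_{≥ j} τ_{≤ j} E ≅ H^j[-j]`. -/
noncomputable def e₃ (j : ℤ) : (t.truncGE j).obj (F E j) ≅ G E j := (exists_iso_truncGE j (F E j)).choose

theorem e₃_spec (j : ℤ) : (t.truncGEπ j).app (F E j) ≫ (e₃ E j).hom = π j (F E j) :=
  (exists_iso_truncGE j (F E j)).choose_spec

/-- The connecting morphism. -/
noncomputable def δt (j : ℤ) : G E j ⟶ (shiftFunctor (DerivedCategory A) (1 : ℤ)).obj (F E (j - 1)) :=
  (e₃ E j).inv ≫ (t.truncGEδLE (j - 1) j (by omega)).app (F E j) ≫
    (shiftFunctor (DerivedCategory A) (1 : ℤ)).map (e₁ E (j - 1) j (by omega)).hom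

theorem tri (j : ℤ) : Triangle.mk (tr E (j - 1) j (by omega)) (π j (F E j)) (δt E j) ∈
    distTriang (DerivedCategory A) := by
  refine isomorphic_distinguished _ (t.triangleLEGE_distinguished (j - 1) j (by omega) (F E j)) _
    (Triangle.isoMk _ _ (e₁ E (j - 1) j (by omega)).symm (Iso.refl _) (e₃ E j).symm ?_ ?_ ?_)
  · change tr E (j - 1) j (by omega) ≫ 𝟙 _ = (e₁ E (j - 1) j (by omega)).inv ≫ (t.truncLEι (j - 1)).app (F E j)
    rw [Category.comp_id, tr_eq]
  · change π j (F E j) ≫ (e₃ E j).inv = 𝟙 _ ≫ (t.truncGEπ j).app (F E j)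
    rw [Category.id_comp, ← e₃_spec, Category.assoc, Iso.hom_inv_id, Category.comp_id]
  · change δt E j ≫ (shiftFunctor (DerivedCategory A) (1 : ℤ)).map (e₁ E (j - 1) j (by omega)).inv =
      (e₃ E j).inv ≫ (t.truncGEδLE (j - 1) j (by omega)).app (F E j)
    rw [δt, Category.assoc, Category.assoc, ← Functor.map_comp, Iso.hom_inv_id, CategoryTheory.Functor.map_id]
    exact congrArg (fun x => (e₃ E j).inv ≫ x) (Category.comp_id _)

end tri

section tow

variable (E : DerivedCategory A) (ρ : k →+* End E)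

/-- **The conjugate tower.** -/
noncomputable def tow : Tow (DerivedCategory A) k where
  F j := F E j
  ρF j := (HTFin.mapEnd (t.truncLE j) E).comp ρ
  G j := G E j
  ρG j := (HTFin.mapEnd (singleFunctor A j) _).comp ((HTFin.mapEnd (homologyFunctor A j) (F E j)).comp
    ((HTFin.mapEnd (t.truncLE j) E).comp ρ))
  i j := tr E (j - 1) j (by omega)
  q j := π j (F E j)
  δ j := δt E j
  tri j := tri E j
  ci j a := (t.natTransTruncLEOfLE (j - 1) j (by omega)).naturality (ρ a : E ⟶ E)
  cq j a := π_naturality j ((t.truncLE j).map (ρ a : E ⟶ E))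

variable (P : DerivedCategory A)

/-- The windows: an isomorphism of `X ≤ j` with a direct sum of shifted objects. -/
theorem lift_of_decomp {a j : ℤ} (haj : a ≤ j) (X : DerivedCategory A) [hX : X.IsLE j] (Y : ℤ → A)
    (e : X ≅ ⨁ (fun l : Finset.Icc a j => (singleFunctor A l.1).obj (Y l.1))) (n : ℤ)
    (z : P ⟶ (shiftFunctor (DerivedCategory A) n).obj ((singleFunctor A j).obj ((homologyFunctor A j).obj X))) :
    ∃ y : P ⟶ (shiftFunctor (DerivedCategory A) n).obj X, y ≫ (shiftFunctor (DerivedCategory A) n).map (π j X) = z := by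
  let Z : Finset.Icc a j → DerivedCategory A := fun l => (singleFunctor A l.1).obj (Y l.1)
  let j' : Finset.Icc a j := ⟨j, Finset.mem_Icc.2 ⟨haj, le_rfl⟩⟩
  have h1 : IsIso ((homologyFunctor A j).map (biproduct.ι Z j')) := by
    refine Decomp.isIso_map_ι _ Z j' fun l hl => ?_
    have hl' : l.1 ≠ j := fun h => hl (Subtype.ext h)
    rcases lt_or_gt_of_ne hl' with h | h
    · exact isZero_of_isLE _ l.1 j h
    · exact isZero_of_isGE _ l.1 j h
  let s : (singleFunctor A j).obj (Y j) ⟶ X := biproduct.ι Z j' ≫ e.inv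
  have h2 : IsIso ((homologyFunctor A j).map (s ≫ π j X)) := by
    rw [Functor.map_comp, Functor.map_comp, homology_π]
    infer_instance
  have h3 : IsIso (s ≫ π j X) := isIso_of_heart j _ h2
  refine ⟨z ≫ (shiftFunctor (DerivedCategory A) n).map (inv (s ≫ π j X) ≫ s), ?_⟩
  rw [Category.assoc, ← Functor.map_comp, Category.assoc, IsIso.inv_hom_id, CategoryTheory.Functor.map_id,
    Category.comp_id]

/-- **Lifting through a window.** -/
theorem Sj_of_window {a j n : ℤ} (haj : a ≤ j)
    (h1 : ∀ z : P ⟶ (shiftFunctor (DerivedCategory A) n).obj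
      ((singleFunctor A j).obj ((homologyFunctor A j).obj ((t.truncGELE a j).obj E))),
      ∃ y : P ⟶ (shiftFunctor (DerivedCategory A) n).obj ((t.truncGELE a j).obj E),
        y ≫ (shiftFunctor (DerivedCategory A) n).map (π j ((t.truncGELE a j).obj E)) = z)
    (h2 : ∀ w : P ⟶ (shiftFunctor (DerivedCategory A) (n + 1)).obj (F E (a - 1)),
      w ≫ (shiftFunctor (DerivedCategory A) (n + 1)).map (tr E (a - 1) j (by omega)) = 0 → w = 0) :
    (tow E ρ).Sj P j n := by
  intro z
  have hle : ((t.truncGELE a j).obj E).IsLE j := (inferInstance : t.IsLE ((t.truncGELE a j).obj E) j)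
  let c : F E j ⟶ (t.truncGELE a j).obj E := (t.truncGEπ a).app (F E j)
  have hc : IsIso ((homologyFunctor A j).map c) := isIso_homology_truncGE a j haj (F E j)
  have nat := π_naturality j c
  obtain ⟨y, hy⟩ := h1 (z ≫ (shiftFunctor (DerivedCategory A) n).map
    ((singleFunctor A j).map ((homologyFunctor A j).map c)))
  have hT := t.triangleLEGE_distinguished (a - 1) a (by omega) (F E j)
  have hT' : Triangle.mk ((t.truncLEι (a - 1)).app (F E j)) c ((t.truncGEδLE (a - 1) a (by omega)).app (F E j)) ∈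
    distTriang (DerivedCategory A) := hT
  set δ := (t.truncGEδLE (a - 1) a (by omega)).app (F E j) with hδ
  have h3 : con δ n (n + 1) rfl y = 0 := by
    have h4 := h2 (con δ n (n + 1) rfl y ≫ (shiftFunctor (DerivedCategory A) (n + 1)).map
      (e₁ E (a - 1) j (by omega)).hom) (by
        rw [Category.assoc, ← Functor.map_comp, e₁_hom_tr]
        exact map_con hT' n (n + 1) rfl y)
    rw [← cancel_mono ((shiftFunctor (DerivedCategory A) (n + 1)).map (e₁ E (a - 1) j (by omega)).hom), zero_comp]
    exact h4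
  obtain ⟨x, hx⟩ := con_exact₃ hT' n (n + 1) rfl y h3
  refine ⟨x, ?_⟩
  change x ≫ (shiftFunctor (DerivedCategory A) n).map (π j (F E j)) = z
  have h5 : (x ≫ (shiftFunctor (DerivedCategory A) n).map (π j (F E j))) ≫
      (shiftFunctor (DerivedCategory A) n).map ((singleFunctor A j).map ((homologyFunctor A j).map c)) =
      z ≫ (shiftFunctor (DerivedCategory A) n).map ((singleFunctor A j).map ((homologyFunctor A j).map c)) := by
    rw [Category.assoc, ← Functor.map_comp, ← nat, Functor.map_comp, ← Category.assoc, hx, hy]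
  exact (cancel_mono _).1 h5

/-- `τ_{< a} E = 0` if `E ≥ a`. -/
theorem subsingleton_F (a : ℤ) (hE : t.IsGE E a) (m : ℤ) :
    Subsingleton (P ⟶ (shiftFunctor (DerivedCategory A) m).obj (F E (a - 1))) := by
  have h1 : IsZero (F E (a - 1)) := t.isZero_truncLE_obj_of_isGE (a - 1) a (by omega) E
  have h2 : IsZero ((shiftFunctor (DerivedCategory A) m).obj (F E (a - 1))) := Functor.map_isZero _ h1
  exact ⟨fun x y => h2.eq_of_tgt x y⟩

/-- `τ_{≤ b} E ≅ E`, linearly. -/
noncomputable def topEquiv (b : ℤ) (hE : t.IsLE E b) (n : ℤ) :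
    V P ((HTFin.mapEnd (t.truncLE b) E).comp ρ) n ≃ₗ[k] V P ρ n :=
  haveI := hE
  H.mapIso ((shiftFunctor (DerivedCategory A) n).mapIso (asIso ((t.truncLEι b).app E))) (fun a => by
    change (shiftFunctor (DerivedCategory A) n).map ((t.truncLE b).map (ρ a : E ⟶ E)) ≫
      (shiftFunctor (DerivedCategory A) n).map ((t.truncLEι b).app E) =
      (shiftFunctor (DerivedCategory A) n).map ((t.truncLEι b).app E) ≫
        (shiftFunctor (DerivedCategory A) n).map (ρ a : E ⟶ E)
    rw [← Functor.map_comp, ← Functor.map_comp]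
    exact congrArg _ ((t.truncLEι b).naturality (ρ a : E ⟶ E)))

/-- The action on `H^j(E)[-j]`. -/
noncomputable abbrev ρH (j : ℤ) : k →+* End ((singleFunctor A j).obj ((homologyFunctor A j).obj E)) :=
  (HTFin.mapEnd (singleFunctor A j) _).comp ((HTFin.mapEnd (homologyFunctor A j) E).comp ρ)

/-- `G E j ≅ H^j(E)[-j]`, linearly. -/
noncomputable def gEquiv (j : ℤ) (n : ℤ) : V P ((tow E ρ).ρG j) n ≃ₗ[k] V P (ρH E ρ j) n :=
  haveI := isIso_homology_map_truncLEι j E
  H.mapIso ((shiftFunctor (DerivedCategory A) n).mapIso ((singleFunctor A j).mapIso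
    (asIso ((homologyFunctor A j).map ((t.truncLEι j).app E))))) (fun a => by
    change (shiftFunctor (DerivedCategory A) n).map ((singleFunctor A j).map ((homologyFunctor A j).map
        ((t.truncLE j).map (ρ a : E ⟶ E)))) ≫
      (shiftFunctor (DerivedCategory A) n).map ((singleFunctor A j).map ((homologyFunctor A j).map
        ((t.truncLEι j).app E))) =
      (shiftFunctor (DerivedCategory A) n).map ((singleFunctor A j).map ((homologyFunctor A j).map
        ((t.truncLEι j).app E))) ≫
        (shiftFunctor (DerivedCategory A) n).map ((singleFunctor A j).map ((homologyFunctor A j).map (ρ a : E ⟶ E)))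
    rw [← Functor.map_comp, ← Functor.map_comp, ← Functor.map_comp, ← Functor.map_comp, ← Functor.map_comp,
      ← Functor.map_comp]
    exact congrArg _ (congrArg _ (congrArg _ ((t.truncLEι j).naturality (ρ a : E ⟶ E)))))

end tow

end K905.Conj
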