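import Mathlib.Algebra.CharP.Basic
import Mathlib.Algebra.Module.BigOperators
import Mathlib.Algebra.Module.Defs
import Mathlib.Tactic.Ring
import Mathlib.Tactic.Abel
import Mathlib.Tactic.Module
import Mathlib.Data.Nat.Choose.Dvd
import Mathlib.Data.Nat.Choose.Sum
import Mathlib.Algebra.Order.Interval.Finset.SuccPred
import Mathlib.Algebra.BigOperators.Intervals

/-!
# The polynomial `((a + b) ^ p - a ^ p - b ^ p) / p`
-/

set_option autoImplicit false

namespace K905.Cross

variable (p : ℕ) {A : Type*} [CommRing A]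

/-- `((a + b) ^ p - a ^ p - b ^ p) / p`. -/
def c (a b : A) : A := ∑ k ∈ Finset.range (p - 1), (p.choose (k + 1) / p) • (a ^ (k + 1) * b ^ (p - 1 - k))

variable {p}

theorem map_c {B : Type*} [CommRing B] (f : A →+* B) (a b : A) : f (c p a b) = c p (f a) (f b) := by
  simp only [c, map_sum, map_nsmul, map_mul, map_pow]

theorem add_pow_eq (hp : p.Prime) (a b : A) : (a + b) ^ p = a ^ p + b ^ p + p • c p a b := by
  obtain ⟨q, rfl⟩ : ∃ q, p = q + 1 := ⟨p - 1, by have := hp.one_lt; omega⟩
  rw [add_pow, Finset.sum_range_succ, Finset.sum_range_succ', c, Finset.smul_sum]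
  simp only [Nat.add_sub_cancel, pow_zero, one_mul, Nat.sub_zero, Nat.choose_zero_right, Nat.cast_one, mul_one,
    Nat.choose_self, Nat.sub_self]
  rw [show ∑ k ∈ Finset.range q, a ^ (k + 1) * b ^ (q + 1 - (k + 1)) * ((q + 1).choose (k + 1) : A) =
    ∑ k ∈ Finset.range q, (q + 1) • ((q + 1).choose (k + 1) / (q + 1)) • (a ^ (k + 1) * b ^ (q - k)) from
    Finset.sum_congr rfl fun k hk => by
      have hk' := Finset.mem_range.1 hk
      have h1 : (q + 1) ∣ (q + 1).choose (k + 1) := hp.dvd_choose_self (by omega) (by omega)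
      rw [smul_smul, Nat.mul_div_cancel' h1, nsmul_eq_mul, show q + 1 - (k + 1) = q - k by omega]
      ring]
  ring

/-- The derivative of `c`. -/
theorem δ_c (hp : p.Prime) {L : Type*} [AddCommGroup L] [Module A L] (δ : A →+ L)
    (hδ : ∀ a b, δ (a * b) = a • δ b + b • δ a) (a b : A) :
    δ (c p a b) = (a + b) ^ (p - 1) • δ (a + b) - a ^ (p - 1) • δ a - b ^ (p - 1) • δ b := by
  have hpow : ∀ (x : A) (n : ℕ), δ (x ^ (n + 1)) = ((n + 1 : ℕ) : A) • x ^ n • δ x := by
    intro x n
    induction n with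
    | zero => simp
    | succ n ih =>
      rw [pow_succ, hδ, ih, smul_smul, smul_smul, smul_smul, ← add_smul]
      congr 1
      push_cast
      ring
  obtain ⟨q, rfl⟩ : ∃ q, p = q + 1 := ⟨p - 1, by have := hp.one_lt; omega⟩
  have hq : 1 ≤ q := by have := hp.two_le; omega
  -- the coefficients
  have h1 : ∀ k < q, ((q + 1).choose (k + 1) / (q + 1)) * (k + 1) = q.choose k := by
    intro k hk
    have hd : (q + 1) ∣ (q + 1).choose (k + 1) := hp.dvd_choose_self (by omega) (by omega)
    have h2 := Nat.add_one_mul_choose_eq q k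
    refine Nat.eq_of_mul_eq_mul_left (show 0 < q + 1 by omega) ?_
    rw [← mul_assoc, Nat.mul_div_cancel' hd, ← h2]
  have h2 : ∀ k < q, ((q + 1).choose (k + 1) / (q + 1)) * (q - k) = q.choose (k + 1) := by
    intro k hk
    have h3 := h1 k hk
    refine Nat.eq_of_mul_eq_mul_right (show 0 < k + 1 by omega) ?_
    rw [mul_right_comm, h3]
    exact (Nat.choose_succ_right_eq q k).symm
  have key : δ (c (q + 1) a b) = (∑ k ∈ Finset.range q, (q.choose k : A) * (a ^ k * b ^ (q - k))) • δ a +
      (∑ k ∈ Finset.range q, (q.choose (k + 1) : A) * (a ^ (k + 1) * b ^ (q - (k + 1)))) • δ b := by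
    rw [c, map_sum, Finset.sum_smul, Finset.sum_smul, ← Finset.sum_add_distrib]
    refine Finset.sum_congr (by rw [Nat.add_sub_cancel]) fun k hk => ?_
    have hk' := Finset.mem_range.1 hk
    rw [map_nsmul, Nat.add_sub_cancel, hδ]
    obtain ⟨m, hm⟩ : ∃ m, q - k = m + 1 := ⟨q - k - 1, by omega⟩
    rw [hm, hpow, hpow, smul_add, ← h1 k hk', ← h2 k hk', hm, show q - (k + 1) = m by omega, add_comm]
    congr 1
    · rw [← Nat.cast_smul_eq_nsmul A, smul_smul, smul_smul, smul_smul]
      congr 1
      push_cast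
      ring
    · rw [← Nat.cast_smul_eq_nsmul A, smul_smul, smul_smul, smul_smul]
      congr 1
      push_cast
      ring
  have e1 : (a + b) ^ q = ∑ k ∈ Finset.range q, (q.choose k : A) * (a ^ k * b ^ (q - k)) + a ^ q := by
    rw [add_pow, Finset.sum_range_succ]
    congr 1
    · exact Finset.sum_congr rfl fun k _ => by ring
    · simp
  have e2 : (a + b) ^ q = ∑ k ∈ Finset.range q, (q.choose (k + 1) : A) * (a ^ (k + 1) * b ^ (q - (k + 1))) + b ^ q := by
    rw [add_pow, Finset.sum_range_succ']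
    congr 1
    · exact Finset.sum_congr rfl fun k _ => by ring
    · simp
  rw [key, Nat.add_sub_cancel, map_add, smul_add]
  nth_rewrite 1 [e1]
  rw [e2, add_smul, add_smul]
  abel

end K905.Cross
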