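import Groth.Agent.DelIll.K905.ConjSch

/-!
# Degeneration from surjectivity in the conjugate tower
-/

set_option autoImplicit false
set_option linter.unusedSectionVars false
universe w u

open CategoryTheory CategoryTheory.Limits AlgebraicGeometry Opposite TopologicalSpace DerivedCategory
open K905.HTExact K905.HD K905.Conj E1Deg KLinDR K905.ConjSch

namespace K905.Degen

variable {p : ℕ} [hp : Fact p.Prime] {k : Type u} [Field k] [CharP k p] [PerfectRing k p] {X : Scheme.{u}}
  [X.Over (Spec (CommRingCat.of k))] {Ω' : X.Modules} {δ : OmegaSh.Der (X ↘ Spec (CommRingCat.of k)) Ω'}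
  [HasDerivedCategory.{w} (Sheaf (Opens.grothendieckTopology X) AddCommGrpCat.{u})]
  (D : DeRhamSh.Cx (X ↘ Spec (CommRingCat.of k)) Ω' δ)
  (hcov : ∀ (U : Opens X) (x : X), x ∈ U → ∃ V ∈ CartSh.chs p δ, x ∈ V ∧ V ≤ U)
  (h : TermwiseLinear (Coh.toGlobal (X ↘ Spec (CommRingCat.of k))) D.K D.term D.iso)

include hcov in
/-- The dimension of hypercohomology. -/
theorem finrank_eq (hfin : ∀ i m, Module.Finite k (Coh.HH X (D.term i) m)) (N : ℕ) (hN : ∀ i, N ≤ i → IsZero (D.term i))
    (hS : ∀ j n : ℕ, j < N → j ≤ n → (tow (E D) (ρ D h)).Sj (P X) j n) (n : ℕ) :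
    Module.Finite k (HTρ (CohCx.freeSheaf (Opens.grothendieckTopology X) (⊤ : X.Opens)) D.KZ (scalar h) n) ∧
    Module.finrank k (HTρ (CohCx.freeSheaf (Opens.grothendieckTopology X) (⊤ : X.Opens)) D.KZ (scalar h) n) =
      ∑ i ∈ Finset.range (n + 1), Module.finrank k (Coh.HH X (D.term i) (n - i)) := by
  have hS' : ∀ (j : ℕ) (n : ℤ), j < N → (tow (E D) (ρ D h)).Sj (P X) j n := by
    intro j n hj
    rcases lt_or_ge n j with h1 | h1
    · have := subsingleton_G D j n h1
      exact fun z => ⟨0, Subsingleton.elim (α := (P X ⟶ (shiftFunctor _ n).obj (G (E D) j))) _ _⟩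
    · obtain ⟨n, rfl⟩ := Int.eq_ofNat_of_zero_le (show 0 ≤ n by omega)
      exact hS j n hj (by omega)
  exact ⟨(HTSch.count h hfin N hN n).1, count D hcov h hfin N hN n (fun j hj => hS' j n hj) (fun j hj => hS' j (n - 1) hj)⟩

include hcov in
/-- **Degeneration.** -/
theorem degenerates (hfin : ∀ i m, Module.Finite k (Coh.HH X (D.term i) m)) (N : ℕ) (hN : ∀ i, N ≤ i → IsZero (D.term i))
    (hS : ∀ j n : ℕ, j < N → j ≤ n → (tow (E D) (ρ D h)).Sj (P X) j n) :
    E1Deg.HyperDegenerates D.KZ (⊤ : X.Opens) := by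
  intro n i
  rcases lt_or_ge n 0 with h1 | h1
  · exact HTAbs.degeneratesAt_of_neg _ D.KZ (HTSch.isZero_extend_neg D.K) n i h1
  · obtain ⟨n, rfl⟩ := Int.eq_ofNat_of_zero_le h1
    exact (HTSch.count h hfin N hN n).2.2.1 (finrank_eq D hcov h hfin N hN hS n).2 i

/-- Window surjectivity. -/
theorem Sj_window {a : ℤ} {j n : ℕ} (haj : a ≤ j)
    (hdec : Nonempty ((TStructure.t.truncGELE a j).obj (E D) ≅
      ⨁ (fun l : Finset.Icc a (j : ℤ) => (singleFunctor (Sheaf (Opens.grothendieckTopology X) AddCommGrpCat.{u}) l.1).obj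
        (D.KZ.homology l.1))))
    (h2 : ∀ w : P X ⟶ (shiftFunctor _ ((n : ℤ) + 1)).obj (F (E D) (a - 1)),
      w ≫ (shiftFunctor _ ((n : ℤ) + 1)).map (tr (E D) (a - 1) j (by omega)) = 0 → w = 0) :
    (tow (E D) (ρ D h)).Sj (P X) j n := by
  refine Sj_of_window (E D) (ρ D h) (P X) haj ?_ h2
  have hle : ((TStructure.t.truncGELE a j).obj (E D)).IsLE j :=
    (inferInstance : TStructure.t.IsLE ((TStructure.t.truncGELE a j).obj (E D)) j)
  exact lift_of_decomp (P X) haj _ (fun l => D.KZ.homology l) hdec.some n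

include h in
/-- Vanishing below a given step of the tower. -/
theorem subsingleton_FE (a : ℤ) (m : ℤ) (hG : ∀ l : ℕ, (l : ℤ) < a → (l : ℤ) ≤ m →
      Subsingleton (P X ⟶ (shiftFunctor _ m).obj (G (E D) l))) :
    Subsingleton (P X ⟶ (shiftFunctor _ m).obj (F (E D) (a - 1))) := by
  rcases le_or_gt a 0 with ha | ha
  · have h1 : TStructure.t.IsGE (E D) a := by
      have := isGE D
      exact TStructure.t.isGE_of_ge (E D) a 0 ha
    exact subsingleton_F (E D) (P X) a h1 m
  · obtain ⟨a, rfl⟩ := Int.eq_ofNat_of_zero_le ha.le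
    have h3 := (tow (k := k) (E D) (ρ D h)).subsingleton (P X) m 0 (subsingleton_F (E D) (P X) 0 (isGE D) m) a (fun j hj1 hj2 => by
      obtain ⟨j, rfl⟩ := Int.eq_ofNat_of_zero_le hj1
      rcases lt_or_ge m j with h1 | h1
      · exact subsingleton_G D j m h1
      · exact hG j (by omega) h1)
    rw [zero_add] at h3
    exact h3

end K905.Degen
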