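import Groth.Agent.DelIll.K905.LowPure
import Groth.Agent.DeRhamSh.K494.CartVan
import Groth.Agent.DeRhamSh.K854.Duality
import Groth.Agent.Deform.K735.DCat
import Groth.Agent.UnramA.SmoothFibreDim

/-!
# The dimension formula for liftable smooth proper schemes of dimension at most `p`
-/

set_option autoImplicit false
universe w u

open CategoryTheory CategoryTheory.Limits AlgebraicGeometry Opposite TopologicalSpace
open E1Deg KLinDR K905.HTFin K905.HD K905.Conj K905.ConjSch K905.DimLe K905.AddSch K905.LowPure K905.RestrCx K905.ResCx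

namespace K905.DimP

section comp

variable {k : Type u} [Field k] {X : Scheme.{u}} (f : X ⟶ Spec (CommRingCat.of k))

theorem eq_of_smooth {U V : X.Opens} {d e : ℕ} (hU : SmoothOfRelativeDimension d (U.ι ≫ f))
    (hV : SmoothOfRelativeDimension e (V.ι ≫ f)) (x : X) (hxU : x ∈ U) (hxV : x ∈ V) : d = e := by
  let W : X.Opens := U ⊓ V
  have h1 : SmoothOfRelativeDimension d (W.ι ≫ f) := by
    have := IsZariskiLocalAtSource.comp (P := @SmoothOfRelativeDimension d) hU (X.homOfLE (inf_le_left : W ≤ U))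
    rwa [← Category.assoc, Scheme.homOfLE_ι] at this
  have h2 : SmoothOfRelativeDimension e (W.ι ≫ f) := by
    have := IsZariskiLocalAtSource.comp (P := @SmoothOfRelativeDimension e) hV (X.homOfLE (inf_le_right : W ≤ V))
    rwa [← Category.assoc, Scheme.homOfLE_ι] at this
  have h3 := Groth.Agent.UnramA.SmoothFibreDim.localDim_eq d (W.ι ≫ f) ⟨x, hxU, hxV⟩
  have h4 := Groth.Agent.UnramA.SmoothFibreDim.localDim_eq e (W.ι ≫ f) ⟨x, hxU, hxV⟩
  exact_mod_cast h3.symm.trans h4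

theorem smooth_iSup {ι : Type*} (V : ι → X.Opens) (d : ℕ) (hV : ∀ i, SmoothOfRelativeDimension d ((V i).ι ≫ f)) :
    SmoothOfRelativeDimension d ((⨆ i, V i).ι ≫ f) := by
  refine IsZariskiLocalAtSource.of_iSup_eq_top (P := @SmoothOfRelativeDimension d) (fun i => (⨆ i, V i).ι ⁻¹ᵁ V i) ?_
    fun i => ?_
  · rw [eq_top_iff]
    rintro ⟨x, hx⟩ -
    obtain ⟨i, hi⟩ := Opens.mem_iSup.1 hx
    exact Opens.mem_iSup.2 ⟨i, hi⟩
  · have h1 := IsZariskiLocalAtSource.comp (P := @SmoothOfRelativeDimension d) (hV i) ((⨆ i, V i).ι ∣_ (V i))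
    rwa [← Category.assoc, morphismRestrict_ι, Category.assoc] at h1

/-- **The part of dimension `n`.** -/
theorem exists_parts [QuasiSeparated f] [Smooth f] (n : ℕ) (hn : topologicalKrullDim ↥X ≤ n) :
    ∃ Y Z : X.Opens, Y ⊓ Z = ⊥ ∧ Y ⊔ Z = ⊤ ∧ SmoothOfRelativeDimension n (Y.ι ≫ f) ∧
      ∀ x ∈ Z, ∃ (d : ℕ) (U : X.Opens), x ∈ U ∧ U ≤ Z ∧ d < n ∧ SmoothOfRelativeDimension d (U.ι ≫ f) := by
  let I := {U : X.Opens // SmoothOfRelativeDimension n (U.ι ≫ f)}
  let J := {U : X.Opens // ∃ d, d < n ∧ SmoothOfRelativeDimension d (U.ι ≫ f)}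
  refine ⟨⨆ i : I, i.1, ⨆ j : J, j.1, ?_, ?_, smooth_iSup f _ n (fun i => i.2), ?_⟩
  · rw [eq_bot_iff]
    rintro x ⟨h1, h2⟩
    obtain ⟨i, hi⟩ := Opens.mem_iSup.1 h1
    obtain ⟨⟨U, d, hd, hU⟩, hj⟩ := Opens.mem_iSup.1 h2
    have := eq_of_smooth f i.2 hU x hi hj
    omega
  · rw [eq_top_iff]
    rintro x -
    obtain ⟨d, U, hx, hd, hU, -⟩ := K853.Terms.exists_chart f n hn x
    rcases Nat.lt_or_ge d n with h1 | h1
    · exact Or.inr (Opens.mem_iSup.2 ⟨⟨U, d, h1, hU⟩, hx⟩)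
    · obtain rfl : d = n := by omega
      exact Or.inl (Opens.mem_iSup.2 ⟨⟨U, hU⟩, hx⟩)
  · intro x hx
    obtain ⟨⟨U, d, hd, hU⟩, hj⟩ := Opens.mem_iSup.1 hx
    exact ⟨d, U, hj, le_iSup (fun j : J => j.1) ⟨U, d, hd, hU⟩, hd, hU⟩

end comp

section lift

variable {p : ℕ} [hp : Fact p.Prime] {k : Type u} [Field k] [CharP k p] [PerfectRing k p] {X : Scheme.{u}}
  [X.Over (Spec (CommRingCat.of k))] [IsProper (X ↘ Spec (CommRingCat.of k))]
  {Xl : Scheme.{u}} {g : Xl ⟶ Spec (CommRingCat.of (FrobAlg.W2 p k))} [Flat g] {i : X ⟶ Xl}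
  (hlift : IsPullback i (X ↘ Spec (CommRingCat.of k)) g (Spec.map (CommRingCat.ofHom (FrobAlg.res p k))))
  {Ω' : X.Modules} {δ : OmegaSh.Der (X ↘ Spec (CommRingCat.of k)) Ω'} (hδ : OmegaSh.IsUniversal δ)
  (D : DeRhamSh.Cx (X ↘ Spec (CommRingCat.of k)) Ω' δ)
  (h : TermwiseLinear (Coh.toGlobal (X ↘ Spec (CommRingCat.of k))) D.K D.term D.iso)
  [HasDerivedCategory.{u} (Sheaf (Opens.grothendieckTopology X) AddCommGrpCat.{u})]

include hlift hδ

omit [IsProper (X ↘ Spec (CommRingCat.of k))] in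
theorem dec [Smooth (X ↘ Spec (CommRingCat.of k))] (a b : ℤ) (hab : b + 2 ≤ a + p ∨ b < p) : Dec D a b :=
  K905.GeoMain.decomp D (K905.GeoUp.isOpenEmbedding hlift) (K905.GeoCov.natCast_eq_zero p k X)
    (K905.GeoCov.exists_isCh hlift hδ _ _) a b hab

/-- Low dimension. -/
theorem low [Smooth (X ↘ Spec (CommRingCat.of k))] (hdim : topologicalKrullDim ↥X ≤ p)
    (hN : ∀ i, p ≤ i → IsZero (D.term i)) : Formula D h := by
  have : IsNoetherian X := K853.Terms.isNoetherian_of_field (X ↘ Spec (CommRingCat.of k))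
  exact formula_low D (fun U x hx => CartCov.exists_isC p hδ U x hx) h (FinSch.finite_HH hδ D)
    (fun i m hm => subsingleton_HH_of_dim p hdim _ m hm) (fun a b hab => dec hlift hδ D a b hab) hN

omit hlift [Flat g] [HasDerivedCategory.{u} (Sheaf (Opens.grothendieckTopology X) AddCommGrpCat.{u})] in
/-- The top differential vanishes on cohomology. -/
theorem hd_zero [Smooth (X ↘ Spec (CommRingCat.of k))] (hdim : topologicalKrullDim ↥X ≤ p) (e : ℕ) (he : p = e + 1)
    (z : Coh.HH X (D.term e) (e + 1)) :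
    Sheaf.H.map ((D.iso e).inv ≫ D.K.d e (e + 1) ≫ (D.iso (e + 1)).hom) (e + 1) z = 0 := by
  rw [K494.CartVan.Hmap_comp_apply, K494.CartVan.Hmap_comp_apply,
    K494.CartVan.Hmap_d_eq_zero p D hδ (e + 1) (by rw [← he]; exact hdim) e, map_zero]

/-- Pure dimension `p`. -/
theorem pure [SmoothOfRelativeDimension p (X ↘ Spec (CommRingCat.of k))] (hdim : topologicalKrullDim ↥X ≤ p) :
    Formula D h := by
  have hs : Smooth (X ↘ Spec (CommRingCat.of k)) := SmoothOfRelativeDimension.smooth p _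
  have : IsNoetherian X := K853.Terms.isNoetherian_of_field (X ↘ Spec (CommRingCat.of k))
  have hp2 := hp.out.two_le
  refine formula_of_duality D (fun U x hx => CartCov.exists_isC p hδ U x hx) h (FinSch.finite_HH hδ D)
    (fun i m hm => subsingleton_HH_of_dim p hdim _ m hm) (fun a b hab => dec hlift hδ D a b hab)
    (fun i hi => FinSch.isZero_term _ hδ D p hdim i hi) ?_ (fun a m ha hm => serre p hδ D a m ha hm)
  obtain ⟨e₀, he₀⟩ := K583.DerFunct.exists_iso_of_isUniversal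
    (K136.UnivOmega.isUniversal_dOmega (X ↘ Spec (CommRingCat.of k))) hδ
  exact (K854.Duality.finrank_eq k X (X ↘ Spec (CommRingCat.of k)) p (FinSch.cxOfIso e₀ he₀ D) h
    (fun e he z => hd_zero hδ D hdim e he z) (p + 1) (p - 1) (by omega)).2

end lift

section main

variable {p : ℕ} [hp : Fact p.Prime] {k : Type u} [Field k] {X : Scheme.{u}} [X.Over (Spec (CommRingCat.of k))]

theorem dim_opens (U : X.Opens) (n : ℕ) (h : topologicalKrullDim ↥X ≤ n) : topologicalKrullDim ↥U.toScheme ≤ n :=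
  (topologicalKrullDim_subspace_le X (U : Set X)).trans h

theorem isProper_opens [IsProper (X ↘ Spec (CommRingCat.of k))] (U : X.Opens) (hU : IsClosed (U : Set X)) :
    IsProper (U.toScheme ↘ Spec (CommRingCat.of k)) := by
  have h1 : IsClosedImmersion U.ι := IsClosedImmersion.of_isPreimmersion _ (by rwa [Scheme.Opens.range_ι])
  change IsProper (U.ι ≫ (X ↘ Spec (CommRingCat.of k)))
  infer_instance

/-- Lifting of opens. -/
theorem exists_lift [CharP k p] {Xl : Scheme.{u}} {g : Xl ⟶ Spec (CommRingCat.of (FrobAlg.W2 p k))} [Flat g] {i : X ⟶ Xl}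
    (hlift : IsPullback i (X ↘ Spec (CommRingCat.of k)) g (Spec.map (CommRingCat.ofHom (FrobAlg.res p k))))
    (hi : Topology.IsOpenEmbedding i) (U : X.Opens) :
    ∃ (Ul : Scheme.{u}) (gl : Ul ⟶ Spec (CommRingCat.of (FrobAlg.W2 p k))) (_ : Flat gl) (il : U.toScheme ⟶ Ul),
      IsPullback il (U.toScheme ↘ Spec (CommRingCat.of k)) gl (Spec.map (CommRingCat.ofHom (FrobAlg.res p k))) := by
  obtain ⟨V, rfl⟩ : ∃ V : Xl.Opens, i ⁻¹ᵁ V = U :=
    ⟨⟨i '' (U : Set X), hi.isOpenMap _ U.2⟩, Opens.ext (Set.preimage_image_eq _ hi.injective)⟩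
  refine ⟨V.toScheme, V.ι ≫ g, inferInstance, i ∣_ V, ?_⟩
  exact (isPullback_morphismRestrict i V).paste_vert hlift

omit [X.Over (Spec (CommRingCat.of k))] in
theorem smooth_preimage {f : X ⟶ Spec (CommRingCat.of k)} {U Z : X.Opens} {d : ℕ}
    (hU : SmoothOfRelativeDimension d (U.ι ≫ f)) :
    SmoothOfRelativeDimension d ((Z.ι ⁻¹ᵁ U).ι ≫ (Z.ι ≫ f)) := by
  have h1 := IsZariskiLocalAtSource.comp (P := @SmoothOfRelativeDimension d) hU (Z.ι ∣_ U)
  rwa [← Category.assoc, morphismRestrict_ι, Category.assoc] at h1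

/-- **The dimension formula** for liftable smooth proper schemes of dimension at most `p`. -/
theorem formula [CharP k p] [PerfectRing k p] [IsProper (X ↘ Spec (CommRingCat.of k))]
    [Smooth (X ↘ Spec (CommRingCat.of k))] (hdim : topologicalKrullDim ↥X ≤ p)
    {Xl : Scheme.{u}} {g : Xl ⟶ Spec (CommRingCat.of (FrobAlg.W2 p k))} [Flat g] {i : X ⟶ Xl}
    (hlift : IsPullback i (X ↘ Spec (CommRingCat.of k)) g (Spec.map (CommRingCat.ofHom (FrobAlg.res p k))))
    {Ω' : X.Modules} {δ : OmegaSh.Der (X ↘ Spec (CommRingCat.of k)) Ω'} (hδ : OmegaSh.IsUniversal δ)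
    (D : DeRhamSh.Cx (X ↘ Spec (CommRingCat.of k)) Ω' δ)
    (h : TermwiseLinear (Coh.toGlobal (X ↘ Spec (CommRingCat.of k))) D.K D.term D.iso)
    [HasDerivedCategory.{w} (Sheaf (Opens.grothendieckTopology X) AddCommGrpCat.{u})] : Formula D h := by
  obtain ⟨Y, Z, hd, hc, hY, hZ⟩ := exists_parts (X ↘ Spec (CommRingCat.of k)) p hdim
  have hi := K905.GeoUp.isOpenEmbedding hlift
  have hcl : ∀ (A B : X.Opens), A ⊓ B = ⊥ → A ⊔ B = ⊤ → IsClosed (A : Set X) := fun A B h1 h2 => by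
    have h3 : (A : Set X) = (B : Set X)ᶜ :=
      (IsCompl.of_eq (congrArg (fun U : X.Opens => (U : Set X)) h1)
        (congrArg (fun U : X.Opens => (U : Set X)) h2)).eq_compl
    rw [h3]
    exact B.2.isClosed_compl
  have pY := isProper_opens (k := k) Y (hcl Y Z hd hc)
  have pZ := isProper_opens (k := k) Z (hcl Z Y ((inf_comm _ _).trans hd) ((sup_comm _ _).trans hc))
  have sY : Smooth (Y.toScheme ↘ Spec (CommRingCat.of k)) :=
    inferInstanceAs (Smooth (Y.ι ≫ (X ↘ Spec (CommRingCat.of k))))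
  have sZ : Smooth (Z.toScheme ↘ Spec (CommRingCat.of k)) :=
    inferInstanceAs (Smooth (Z.ι ≫ (X ↘ Spec (CommRingCat.of k))))
  have rY : SmoothOfRelativeDimension p (Y.toScheme ↘ Spec (CommRingCat.of k)) := hY
  letI iY : HasDerivedCategory.{u} (Sheaf (Opens.grothendieckTopology Y.toScheme) AddCommGrpCat.{u}) :=
    K735.DCat.hasDerivedCategory _
  letI iZ : HasDerivedCategory.{u} (Sheaf (Opens.grothendieckTopology Z.toScheme) AddCommGrpCat.{u}) :=
    K735.DCat.hasDerivedCategory _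
  obtain ⟨Yl, gY, fY, jY, lY⟩ := exists_lift hlift hi Y
  obtain ⟨Zl, gZ, fZ, jZ, lZ⟩ := exists_lift hlift hi Z
  have uY : OmegaSh.IsUniversal (der Y δ) := K583.DerFunct.isUniversal_resDer (k := 𝟙 _) (j := Y.ι) (Category.comp_id _) hδ
  have uZ : OmegaSh.IsUniversal (der Z δ) := K583.DerFunct.isUniversal_resDer (k := 𝟙 _) (j := Z.ι) (Category.comp_id _) hδ
  have hfin := FinSch.finite_HH hδ D
  have hN := fun i hi => FinSch.isZero_term (X ↘ Spec (CommRingCat.of k)) hδ D p hdim i hi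
  refine formula_of_disjoint D h Y Z hd hc hfin (fun n => (HTSch.count h hfin (p + 1) (fun i hi => hN i hi) n).1) ?_ ?_
  · exact DimP.pure lY uY (rcx Y D) (termwiseLinear_rcx Y D h) (dim_opens Y p hdim)
  · refine DimP.low lZ uZ (rcx Z D) (termwiseLinear_rcx Z D h) (dim_opens Z p hdim) fun i hi' => ?_
    obtain ⟨e₀, he₀⟩ := K583.DerFunct.exists_iso_of_isUniversal
      (K136.UnivOmega.isUniversal_dOmega (Z.toScheme ↘ Spec (CommRingCat.of k))) uZ
    refine K853.Terms.isZero_of_isExtPow (fun x => ?_) ((FinSch.cxOfIso e₀ he₀ (rcx Z D)).isExtPow i)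
    obtain ⟨d', V, hxV, hV, hV'⟩ := K853.Terms.exists_relChart (Z.toScheme ↘ Spec (CommRingCat.of k)) x
    obtain ⟨d, U, hxU, -, hdp, hU⟩ := hZ x.1 x.2
    have h1 : d' = d := eq_of_smooth (Z.toScheme ↘ Spec (CommRingCat.of k)) hV (smooth_preimage (Z := Z) hU) x hxV hxU
    exact ⟨d', V, hxV, by omega, hV'⟩

end main

end K905.DimP
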