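import Groth.Agent.DelIll.K905.TotPhi
import Groth.Agent.DelIll.K905.SheafKos
import Mathlib.Algebra.Category.Ring.Basic

/-!
# The complexes of presheaves attached to a presheaf of liftings
-/

set_option autoImplicit false
universe u v w

open CategoryTheory CategoryTheory.Limits Opposite TopologicalSpace K905.TotM K905.TotPhi

namespace K905.SysP

/-- A presheaf of arrows of rings with target of characteristic `p`. -/
structure Sys (p : ℕ) (C : Type v) [Category.{w} C] where
  /-- the source -/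
  At : C ⥤ CommRingCat.{u}
  /-- the target -/
  A : C ⥤ CommRingCat.{u}
  /-- the arrow -/
  θ : At ⟶ A
  pz : ∀ U, ((p : ℕ) : A.obj U) = 0

variable {p : ℕ} [Fact p.Prime] {C : Type v} [Category.{w} C] (D : Sys.{u} p C)

instance (U : C) : PZ p (D.A.obj U) := ⟨D.pz U⟩

/-- The ring homomorphism at `U`. -/
abbrev th (U : C) : D.At.obj U →+* D.A.obj U := (D.θ.app U).hom

/-- The Koszul group at `U`. -/
abbrev KU (U : C) : Type u := Kos.KK (D.A.obj U) (Fr p (D.A.obj U)) (TM p (th D U))

/-- The pieces. -/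
noncomputable abbrev PU (j i : ℕ) (U : C) : AddSubgroup (KU D U) :=
  Kos.P (D.A.obj U) (Fr p (D.A.obj U)) (TM p (th D U)) j i

omit [Fact p.Prime] in
theorem th_nat {U V : C} (f : U ⟶ V) (a : D.At.obj U) :
    th D V ((D.At.map f).hom a) = (D.A.map f).hom (th D U a) :=
  ConcreteCategory.congr_hom (D.θ.naturality f) a

/-- Restriction. -/
noncomputable def resK {U V : C} (f : U ⟶ V) : KU D U →+ KU D V :=
  mapK p (th D U) (th D V) (D.At.map f).hom (D.A.map f).hom (th_nat D f)

theorem resK_id (U : C) (z : KU D U) : resK D (𝟙 U) z = z :=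
  mapK_id p (th D U) _ _ _ (fun a => by rw [D.At.map_id]; rfl) (fun a => by rw [D.A.map_id]; rfl) z

theorem resK_comp {U V W : C} (f : U ⟶ V) (g : V ⟶ W) (z : KU D U) : resK D (f ≫ g) z = resK D g (resK D f z) :=
  (mapK_comp p _ _ _ _ _ _ _ _ _ _ _ _ (fun a => by rw [D.At.map_comp]; rfl) (fun a => by rw [D.A.map_comp]; rfl) z).symm

theorem resK_κ {U V : C} (f : U ⟶ V) (z : KU D U) :
    resK D f (Kos.κ (io p (th D U)) z) = Kos.κ (io p (th D V)) (resK D f z) := mapK_κ _ _ _ _ _ _ _

theorem resK_mem {U V : C} (f : U ⟶ V) {j i : ℕ} {z : KU D U} (hz : z ∈ PU D j i U) : resK D f z ∈ PU D j i V :=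
  mapK_mem _ _ _ _ _ _ hz

/-- The presheaf of total degree `j`, exterior degree `i`. -/
noncomputable def PP (j i : ℕ) : C ⥤ AddCommGrpCat.{u} where
  obj U := AddCommGrpCat.of (PU D j i U)
  map {U V} f := AddCommGrpCat.ofHom (AddMonoidHom.mk' (fun z => (⟨resK D f z.1, resK_mem D f z.2⟩ : PU D j i V))
    (fun a b => Subtype.ext (map_add (resK D f) a.1 b.1)))
  map_id U := AddCommGrpCat.hom_ext (AddMonoidHom.ext fun z => Subtype.ext (resK_id D U z.1))
  map_comp f g := AddCommGrpCat.hom_ext (AddMonoidHom.ext fun z => Subtype.ext (resK_comp D f g z.1))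

theorem PP_map {j i : ℕ} {U V : C} (f : U ⟶ V) (z : PU D j i U) :
    (((PP D j i).map f) z : PU D j i V).1 = resK D f z.1 := rfl

/-- The differential. -/
noncomputable def dd (j i : ℕ) : PP D j i ⟶ PP D j (i + 1) where
  app U := AddCommGrpCat.ofHom (AddMonoidHom.mk' (fun z => (⟨Kos.κ (io p (th D U)) z.1, Kos.κ_mem _ z.2⟩ :
    PU D j (i + 1) U)) (fun a b => Subtype.ext (map_add (Kos.κ (io p (th D U))) a.1 b.1)))
  naturality U V f := by
    ext z
    exact Subtype.ext (resK_κ D f z.1).symm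

theorem dd_app {j i : ℕ} (U : C) (z : PU D j i U) :
    ((dd D j i).app U z : PU D j (i + 1) U).1 = Kos.κ (io p (th D U)) z.1 := rfl

theorem dd_dd (j i : ℕ) : dd D j i ≫ dd D j (i + 1) = 0 := by
  ext U z
  exact Subtype.ext (Kos.κ_κ _ z.1)

/-- The complex. -/
noncomputable def PC (j : ℕ) : CochainComplex (C ⥤ AddCommGrpCat.{u}) ℕ :=
  CochainComplex.of (fun i => PP D j i) (dd D j) (dd_dd D j)

theorem PC_X (j i : ℕ) : (PC D j).X i = PP D j i := rfl

theorem PC_d (j i : ℕ) : (PC D j).d i (i + 1) = dd D j i := CochainComplex.of_d _ _ _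

end K905.SysP
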