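import Groth.Agent.DelIll.K905.GeoX
import Groth.Agent.DelIll.K905.SysP

/-!
# The topological correspondence and the presheaf of liftings
-/

set_option autoImplicit false
universe u

open CategoryTheory CategoryTheory.Limits AlgebraicGeometry Opposite TopologicalSpace FrobAlg

namespace K905.GeoUp

open GeoX

section top

variable {p : ℕ} [hp : Fact p.Prime] {k : Type u} [Field k] [CharP k p] [PerfectRing k p] {X Xl : Scheme.{u}}
  {f : X ⟶ Spec (CommRingCat.of k)} {g : Xl ⟶ Spec (CommRingCat.of (W2 p k))} {i : X ⟶ Xl}
  (H : IsPullback i f g (Spec.map (CommRingCat.ofHom (res p k))))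

theorem surjective_spec : Surjective (Spec.map (CommRingCat.ofHom (res p k))) := by
  constructor
  intro x
  have h1 : x ∈ Set.range (PrimeSpectrum.comap (res p k)) := by
    rw [_root_.range_comap_of_surjective _ _ (K673.W2Basic.res_surjective p k)]
    intro a ha
    have ha2 : a ∈ Ideal.span {(p : W2 p k)} := by
      rw [← K673.W2Basic.ker_res p k]; exact ha
    obtain ⟨b, rfl⟩ := Ideal.mem_span_singleton'.1 ha2
    refine Ideal.mul_mem_left _ _ ?_
    refine (x.isPrime.mem_or_mem (x := (p : W2 p k)) (y := (p : W2 p k)) ?_).elim id id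
    rw [K673.W2Basic.natCast_mul_natCast]
    exact Ideal.zero_mem _
  exact h1

theorem isClosedImmersion_spec : IsClosedImmersion (Spec.map (CommRingCat.ofHom (res p k))) :=
  IsClosedImmersion.spec_of_surjective _ (K673.W2Basic.res_surjective p k)

include H in
theorem isClosedImmersion : IsClosedImmersion i :=
  MorphismProperty.of_isPullback (P := @IsClosedImmersion) H.flip isClosedImmersion_spec

include H in
theorem surjective : Surjective i :=
  MorphismProperty.of_isPullback (P := @Surjective) H.flip surjective_spec

include H in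
theorem isOpenEmbedding : Topology.IsOpenEmbedding i := by
  have h1 := isClosedImmersion H
  have h2 := surjective H
  exact i.isClosedEmbedding.isEmbedding.isOpenEmbedding_of_surjective i.surjective

end top

section up

variable {X Xl : Scheme.{u}} {i : X ⟶ Xl} (hi : Topology.IsOpenEmbedding i) (hs : Function.Surjective i)

/-- The corresponding open. -/
def up (U : X.Opens) : Xl.Opens := ⟨i '' U, hi.isOpenMap _ U.2⟩

theorem preimage_up (U : X.Opens) : i ⁻¹ᵁ (up hi U) = U := by
  ext x
  exact hi.injective.mem_set_image

theorem le_preimage_up (U : X.Opens) : U ≤ i ⁻¹ᵁ (up hi U) := (preimage_up hi U).ge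

include hs in
theorem up_preimage (W : Xl.Opens) : up hi (i ⁻¹ᵁ W) = W := by
  ext x
  exact Set.ext_iff.1 (Set.image_preimage_eq _ hs) x

theorem up_mono {U V : X.Opens} (h : U ≤ V) : up hi U ≤ up hi V := Set.image_mono h

/-- The functor. -/
def upF : X.Opens ⥤ Xl.Opens := Monotone.functor (f := up hi) fun _ _ h => up_mono hi h

/-- The presheaf of liftings. -/
noncomputable def sys (p : ℕ) (hi : Topology.IsOpenEmbedding i) (hp : ∀ U : X.Opens, ((p : ℕ) : Γ(X, U)) = 0) :
    SysP.Sys.{u} p (X.Opens)ᵒᵖ where
  At := (upF hi).op ⋙ Xl.presheaf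
  A := X.presheaf
  θ :=
    { app := fun U => i.appLE (up hi U.unop) U.unop (le_preimage_up hi U.unop)
      naturality := fun U V h =>
        (Scheme.Hom.map_appLE i (le_preimage_up hi V.unop) ((upF hi).op.map h)).trans
          (Scheme.Hom.appLE_map i (le_preimage_up hi U.unop) h).symm }
  pz U := hp U.unop

end up

end K905.GeoUp
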