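import Groth.Agent.DelIll.K905.MkChart
import Mathlib.AlgebraicGeometry.Morphisms.Flat
import Mathlib.AlgebraicGeometry.Morphisms.ClosedImmersion
import Mathlib.AlgebraicGeometry.Morphisms.Affine
import Mathlib.AlgebraicGeometry.Morphisms.UniversallyInjective

/-!
# The geometry of a lifting to `W₂(k)`
-/

set_option autoImplicit false
universe u

open CategoryTheory CategoryTheory.Limits AlgebraicGeometry Opposite TopologicalSpace FrobAlg

namespace K905.GeoX

section
variable {A B : Type u} [CommRing A] [CommRing B] {φ : A →+* B} {C D : CommRingCat.{u}} {ψ : A →+* C}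
   {ψ' : B →+* D} {s : C ⟶ D} (po : IsPushout (CommRingCat.ofHom φ) (CommRingCat.ofHom ψ) (CommRingCat.ofHom ψ') s)
   (hφ : Function.Surjective φ)

include po hφ
theorem ker_of_isPushout : RingHom.ker s.hom = (RingHom.ker φ).map ψ := by
  apply le_antisymm
  · intro c hc
    let K := (RingHom.ker φ).map ψ
    let m : C ⟶ CommRingCat.of (C ⧸ K) := CommRingCat.ofHom (Ideal.Quotient.mk K)
    have h : RingHom.ker φ ≤ RingHom.ker ((Ideal.Quotient.mk K).comp ψ) := by
      intro b hb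
      rw [RingHom.mem_ker, RingHom.comp_apply, Ideal.Quotient.eq_zero_iff_mem]
      exact Ideal.mem_map_of_mem _ hb
    have hf : CommRingCat.ofHom φ ≫ CommRingCat.ofHom (RingHom.liftOfSurjective φ hφ ⟨_, h⟩) = CommRingCat.ofHom ψ ≫ m := by
      ext b
      exact (congr($(RingHom.liftOfRightInverse_comp φ _ (Function.rightInverse_surjInv hφ) ⟨_, h⟩) b))
    have h1 : s ≫ po.desc _ m hf = m := po.inr_desc _ _ _
    have h2 : m c = 0 := by
      rw [← h1, CommRingCat.comp_apply]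
      have : s c = 0 := hc
      rw [this, map_zero]
    exact Ideal.Quotient.eq_zero_iff_mem.1 h2
  · rw [Ideal.map_le_iff_le_comap]
    intro b hb
    rw [Ideal.mem_comap, RingHom.mem_ker]
    have h1 : s (ψ b) = ψ' (φ b) := congr($(po.w.symm).hom b)
    have h2 : φ b = 0 := hb
    exact h1.trans (by rw [h2, map_zero])

theorem surjective_of_isPushout : Function.Surjective s.hom := by
  have h : RingHom.ker φ ≤ RingHom.ker (s.hom.rangeRestrict.comp ψ) := by
    intro a ha
    rw [RingHom.mem_ker]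
    ext
    have h1 : s (ψ a) = ψ' (φ a) := congr($(po.w.symm).hom a)
    have h2 : φ a = 0 := ha
    exact h1.trans (by rw [h2, map_zero]; rfl)
  let R : CommRingCat.{u} := CommRingCat.of s.hom.range
  let a : C ⟶ R := CommRingCat.ofHom s.hom.rangeRestrict
  let b : CommRingCat.of B ⟶ R := CommRingCat.ofHom (RingHom.liftOfSurjective φ hφ ⟨_, h⟩)
  have hab : CommRingCat.ofHom φ ≫ b = CommRingCat.ofHom ψ ≫ a := by
    ext x
    exact congrArg Subtype.val (congr($(RingHom.liftOfRightInverse_comp φ _ (Function.rightInverse_surjInv hφ) ⟨_, h⟩) x))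
  let j : R ⟶ D := CommRingCat.ofHom s.hom.range.subtype
  have h3 : po.desc b a hab ≫ j = 𝟙 D := by
    refine po.hom_ext ?_ ?_
    · refine (po.inl_desc_assoc _ _ _ _).trans ?_
      refine Eq.trans ?_ (Category.comp_id _).symm
      have : Epi (CommRingCat.ofHom φ) := ConcreteCategory.epi_of_surjective _ hφ
      rw [← cancel_epi (CommRingCat.ofHom φ), ← Category.assoc, hab, Category.assoc, po.w]
      rfl
    · refine (po.inr_desc_assoc _ _ _ _).trans ?_
      exact (Category.comp_id _).symm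
  intro d
  obtain ⟨x, hx⟩ : (po.desc b a hab d).1 ∈ s.hom.range := (po.desc b a hab d).2
  exact ⟨x, hx.trans (congr($(h3).hom d))⟩
end


/-- The structure map on sections. -/
noncomputable def co {Y : Scheme.{u}} {A : Type u} [CommRing A] (q : Y ⟶ Spec (CommRingCat.of A)) (U : Y.Opens) :
    A →+* Γ(Y, U) := ((Scheme.ΓSpecIso (CommRingCat.of A)).inv ≫ q.appLE ⊤ U le_top).hom

theorem ofHom_co {Y : Scheme.{u}} {A : Type u} [CommRing A] (q : Y ⟶ Spec (CommRingCat.of A))
    (U : Y.Opens) : CommRingCat.ofHom (co q U) =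
      (Scheme.ΓSpecIso (CommRingCat.of A)).inv ≫ q.appLE ⊤ U le_top := rfl

theorem co_res {Y : Scheme.{u}} {A : Type u} [CommRing A] (q : Y ⟶ Spec (CommRingCat.of A)) {U V : Y.Opens}
    (h : V ≤ U) (a : A) : (Y.presheaf.map (homOfLE h).op).hom (co q U a) = co q V a := by
  have := Scheme.Hom.appLE_map q (U := ⊤) (le_top : U ≤ q ⁻¹ᵁ ⊤) (homOfLE h).op
  have h2 : ((Scheme.ΓSpecIso (CommRingCat.of A)).inv ≫ q.appLE ⊤ U le_top) ≫ Y.presheaf.map (homOfLE h).op =
      (Scheme.ΓSpecIso (CommRingCat.of A)).inv ≫ q.appLE ⊤ V le_top := by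
    rw [Category.assoc, this]
  exact congr($(h2).hom a)

/-- The square of rings of sections of a cartesian square over affine bases is a pushout. -/
theorem isPushout_co {Y Y' : Scheme.{u}} {A B : Type u} [CommRing A] [CommRing B] {φ : A →+* B}
    {h : Y' ⟶ Y} {q : Y ⟶ Spec (CommRingCat.of A)} {q' : Y' ⟶ Spec (CommRingCat.of B)}
    (H : IsPullback h q' q (Spec.map (CommRingCat.ofHom φ))) {W : Y.Opens} (hW : IsAffineOpen W) :
    IsPushout (CommRingCat.ofHom φ) (CommRingCat.ofHom (co q W))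
      (CommRingCat.ofHom (co q' (h ⁻¹ᵁ W))) (h.appLE W (h ⁻¹ᵁ W) le_rfl) := by
  have h1 := isIso_pushoutSection_of_isAffineOpen H (US := ⊤) (UT := ⊤) (UX := W)
    (UY := h ⁻¹ᵁ W) le_top le_top (by simp) (isAffineOpen_top _) (isAffineOpen_top _) hW
  have h2 := (isIso_pushoutSection_iff H (US := ⊤) (UT := ⊤) (UX := W)
    (UY := h ⁻¹ᵁ W) le_top le_top (by simp)).mp h1
  have h3 : (Spec.map (CommRingCat.ofHom φ)).appLE ⊤ ⊤ le_top = (Spec.map (CommRingCat.ofHom φ)).appTop :=
    Scheme.Hom.appLE_eq_app _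
  rw [h3] at h2
  refine IsPushout.flip (IsPushout.of_iso h2 (Scheme.ΓSpecIso (CommRingCat.of A)) (Iso.refl _)
    (Scheme.ΓSpecIso (CommRingCat.of B)) (Iso.refl _) ?_ ?_ ?_ ?_)
  · rw [ofHom_co, Iso.hom_inv_id_assoc]
    exact Category.comp_id _
  · exact Scheme.ΓSpecIso_naturality _
  · exact (Category.comp_id _).trans (Category.id_comp _).symm
  · rw [ofHom_co, Iso.hom_inv_id_assoc]
    exact Category.comp_id _

theorem co_flat {Y : Scheme.{u}} {A : Type u} [CommRing A] (q : Y ⟶ Spec (CommRingCat.of A)) [Flat q] {W : Y.Opens}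
    (hW : IsAffineOpen W) : (co q W).Flat := by
  have h1 : (q.appLE ⊤ W le_top).hom.Flat :=
    HasRingHomProperty.appLE @Flat q inferInstance ⟨⊤, isAffineOpen_top _⟩ ⟨W, hW⟩ le_top
  have h2 : ((Scheme.ΓSpecIso (CommRingCat.of A)).inv).hom.Flat :=
    RingHom.Flat.of_bijective (ConcreteCategory.bijective_of_isIso (Scheme.ΓSpecIso (CommRingCat.of A)).inv)
  exact RingHom.Flat.comp h2 h1

section split

variable {A B : Type u} [CommRing A] [CommRing B] {φ : A →+* B} {Y Y' : Scheme.{u}} {h : Y' ⟶ Y}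
  {q : Y ⟶ Spec (CommRingCat.of A)} {q' : Y' ⟶ Spec (CommRingCat.of B)}

theorem appLE_surjective (H : IsPullback h q' q (Spec.map (CommRingCat.ofHom φ))) (hφ : Function.Surjective φ)
    {W : Y.Opens} (hW : IsAffineOpen W) : Function.Surjective (h.appLE W (h ⁻¹ᵁ W) le_rfl).hom :=
  surjective_of_isPushout (isPushout_co H hW) hφ

theorem appLE_ker (H : IsPullback h q' q (Spec.map (CommRingCat.ofHom φ))) (hφ : Function.Surjective φ)
    {W : Y.Opens} (hW : IsAffineOpen W) :
    RingHom.ker (h.appLE W (h ⁻¹ᵁ W) le_rfl).hom = (RingHom.ker φ).map (co q W) :=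
  ker_of_isPushout (isPushout_co H hW) hφ

theorem appLE_comm (H : IsPullback h q' q (Spec.map (CommRingCat.ofHom φ)))
    {W : Y.Opens} (hW : IsAffineOpen W) :
    (h.appLE W (h ⁻¹ᵁ W) le_rfl).hom.comp (co q W) = (co q' (h ⁻¹ᵁ W)).comp φ :=
  congrArg CommRingCat.Hom.hom (isPushout_co H hW).w.symm

end split

section

variable {p : ℕ} [hp : Fact p.Prime] {k : Type u} [Field k] [CharP k p] [PerfectRing k p] {X Xl : Scheme.{u}}
  {f : X ⟶ Spec (CommRingCat.of k)} {g : Xl ⟶ Spec (CommRingCat.of (W2 p k))} {i : X ⟶ Xl}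
  (H : IsPullback i f g (Spec.map (CommRingCat.ofHom (res p k))))

include H in
/-- Sections over affine opens form a flat lifting. -/
theorem isLift [Flat g] {W : Xl.Opens} (hW : IsAffineOpen W) :
    @IsLift p _ k _ Γ(X, i ⁻¹ᵁ W) _ (co f (i ⁻¹ᵁ W)).toAlgebra Γ(Xl, W) _ (co g W) (i.appLE W (i ⁻¹ᵁ W) le_rfl).hom :=
  @IsLift.mk p _ k _ Γ(X, i ⁻¹ᵁ W) _ (co f (i ⁻¹ᵁ W)).toAlgebra Γ(Xl, W) _ (co g W) (i.appLE W (i ⁻¹ᵁ W) le_rfl).hom
    (co_flat g hW) (appLE_surjective H (K673.W2Basic.res_surjective p k) hW)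
    (appLE_ker H (K673.W2Basic.res_surjective p k) hW) (appLE_comm H hW)

end

end K905.GeoX
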