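import Groth.Agent.DelIll.K905.HTFin

/-!
# `k`-linear Hom groups and towers of distinguished triangles
-/

set_option autoImplicit false
universe v u u'

open CategoryTheory CategoryTheory.Limits Pretriangulated K905.HTExact

namespace K905.HD

section H

variable {C : Type u} [Category.{v} C] [Preadditive C] {k : Type u'} [Ring k]

/-- `Hom(P, X)`, with `k` acting on `X`. -/
def H (P X : C) (_r : k →+* End X) : Type v := P ⟶ X

noncomputable instance (P X : C) (r : k →+* End X) : AddCommGroup (H P X r) := inferInstanceAs (AddCommGroup (P ⟶ X))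

/-- The identity. -/
noncomputable def H.to {P X : C} {r : k →+* End X} : H P X r ≃+ (P ⟶ X) := AddEquiv.refl _

noncomputable instance (P X : C) (r : k →+* End X) : Module k (H P X r) where
  smul a x := H.to.symm (H.to x ≫ (r a : X ⟶ X))
  one_smul x := by
    change H.to x ≫ (r 1 : X ⟶ X) = H.to x
    rw [map_one]
    exact Category.comp_id _
  mul_smul a b x := by
    change H.to x ≫ (r (a * b) : X ⟶ X) = (H.to x ≫ (r b : X ⟶ X)) ≫ (r a : X ⟶ X)
    rw [map_mul, End.mul_def, Category.assoc]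
  smul_zero a := by
    change (0 : P ⟶ X) ≫ (r a : X ⟶ X) = 0
    exact zero_comp
  smul_add a x y := by
    change (H.to x + H.to y) ≫ (r a : X ⟶ X) = H.to x ≫ (r a : X ⟶ X) + H.to y ≫ (r a : X ⟶ X)
    exact Preadditive.add_comp _ _ _ _ _ _
  add_smul a b x := by
    change H.to x ≫ (r (a + b) : X ⟶ X) = H.to x ≫ (r a : X ⟶ X) + H.to x ≫ (r b : X ⟶ X)
    rw [map_add]
    exact Preadditive.comp_add _ _ _ _ _ _
  zero_smul x := by
    change H.to x ≫ (r 0 : X ⟶ X) = 0
    rw [map_zero]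
    exact comp_zero

theorem H.to_smul {P X : C} {r : k →+* End X} (a : k) (x : H P X r) : H.to (a • x) = H.to x ≫ (r a : X ⟶ X) := rfl

/-- The map induced by a morphism commuting with the actions. -/
noncomputable def H.map {P X Y : C} {r : k →+* End X} {r' : k →+* End Y} (f : X ⟶ Y)
    (h : ∀ a, (r a : X ⟶ X) ≫ f = f ≫ (r' a : Y ⟶ Y)) : H P X r →ₗ[k] H P Y r' where
  toFun x := H.to.symm (H.to x ≫ f)
  map_add' x y := Preadditive.add_comp _ _ _ _ _ _
  map_smul' a x := by
    change (H.to x ≫ (r a : X ⟶ X)) ≫ f = (H.to x ≫ f) ≫ (r' a : Y ⟶ Y)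
    rw [Category.assoc, h, Category.assoc]

theorem H.to_map {P X Y : C} {r : k →+* End X} {r' : k →+* End Y} (f : X ⟶ Y)
    (h : ∀ a, (r a : X ⟶ X) ≫ f = f ≫ (r' a : Y ⟶ Y)) (x : H P X r) : H.to (H.map f h x) = H.to x ≫ f := rfl

/-- Isomorphisms commuting with the actions. -/
noncomputable def H.mapIso {P X Y : C} {r : k →+* End X} {r' : k →+* End Y} (f : X ≅ Y)
    (h : ∀ a, (r a : X ⟶ X) ≫ f.hom = f.hom ≫ (r' a : Y ⟶ Y)) : H P X r ≃ₗ[k] H P Y r' :=
  { H.map f.hom h with
    invFun := fun y => H.to.symm (H.to y ≫ f.inv)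
    left_inv := fun x => by
      change (H.to x ≫ f.hom) ≫ f.inv = H.to x
      rw [Category.assoc, f.hom_inv_id, Category.comp_id]
    right_inv := fun y => by
      change (H.to y ≫ f.inv) ≫ f.hom = H.to y
      rw [Category.assoc, f.inv_hom_id, Category.comp_id] }

end H

section Tow

variable {C : Type u} [Category.{v} C] [Preadditive C] [HasZeroObject C] [HasShift C ℤ]
  [∀ (n : ℤ), (shiftFunctor C n).Additive] [Pretriangulated C] {k : Type u'} [Field k]

/-- The shifted action. -/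
noncomputable abbrev sh {E : C} (ρ : k →+* End E) (n : ℤ) : k →+* End ((shiftFunctor C n).obj E) :=
  (HTFin.mapEnd (shiftFunctor C n) E).comp ρ

/-- `Hom(P, E⟦n⟧)` as a vector space. -/
abbrev V (P : C) {E : C} (ρ : k →+* End E) (n : ℤ) : Type v := H P ((shiftFunctor C n).obj E) (sh ρ n)

/-- Functoriality. -/
noncomputable abbrev V.map (P : C) {E E' : C} {ρ : k →+* End E} {ρ' : k →+* End E'} (f : E ⟶ E')
    (h : ∀ a, (ρ a : E ⟶ E) ≫ f = f ≫ (ρ' a : E' ⟶ E')) (n : ℤ) : V P ρ n →ₗ[k] V P ρ' n :=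
  H.map ((shiftFunctor C n).map f) (fun a => by
    change (shiftFunctor C n).map (ρ a : E ⟶ E) ≫ (shiftFunctor C n).map f =
      (shiftFunctor C n).map f ≫ (shiftFunctor C n).map (ρ' a : E' ⟶ E')
    rw [← Functor.map_comp, ← Functor.map_comp, h])

/-- A tower. -/
structure Tow (C : Type u) [Category.{v} C] [Preadditive C] [HasZeroObject C] [HasShift C ℤ]
    [∀ (n : ℤ), (shiftFunctor C n).Additive] [Pretriangulated C] (k : Type u') [Field k] where
  F : ℤ → C
  ρF : ∀ j, k →+* End (F j)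
  G : ℤ → C
  ρG : ∀ j, k →+* End (G j)
  i : ∀ j, F (j - 1) ⟶ F j
  q : ∀ j, F j ⟶ G j
  δ : ∀ j, G j ⟶ (shiftFunctor C (1 : ℤ)).obj (F (j - 1))
  tri : ∀ j, Triangle.mk (i j) (q j) (δ j) ∈ distTriang C
  ci : ∀ j a, (ρF (j - 1) a : F (j - 1) ⟶ F (j - 1)) ≫ i j = i j ≫ (ρF j a : F j ⟶ F j)
  cq : ∀ j a, (ρF j a : F j ⟶ F j) ≫ q j = q j ≫ (ρG j a : G j ⟶ G j)

namespace Tow

variable (W : Tow C k) (P : C)

/-- Surjectivity at `(j, n)`. -/
def Sj (j n : ℤ) : Prop :=
  ∀ z : P ⟶ (shiftFunctor C n).obj (W.G j), ∃ x : P ⟶ (shiftFunctor C n).obj (W.F j), x ≫ (shiftFunctor C n).map (W.q j) = z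

theorem injective_of_Sj (j n : ℤ) (h : W.Sj P j (n - 1)) (y : P ⟶ (shiftFunctor C n).obj (W.F (j - 1)))
    (hy : y ≫ (shiftFunctor C n).map (W.i j) = 0) : y = 0 := by
  obtain ⟨z, rfl⟩ := con_exact₁ (W.tri j) (n - 1) n (by omega) y hy
  obtain ⟨x, rfl⟩ := h z
  exact con_map (W.tri j) (n - 1) n (by omega) x

theorem exact (j n : ℤ) (x : P ⟶ (shiftFunctor C n).obj (W.F j)) (hx : x ≫ (shiftFunctor C n).map (W.q j) = 0) :
    ∃ y : P ⟶ (shiftFunctor C n).obj (W.F (j - 1)), y ≫ (shiftFunctor C n).map (W.i j) = x :=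
  tri_exact₂ (W.tri j) n x hx

/-- Vanishing by devissage. -/
theorem subsingleton (m a : ℤ) (h0 : Subsingleton (P ⟶ (shiftFunctor C m).obj (W.F (a - 1)))) (l : ℕ)
    (hG : ∀ j, a ≤ j → j < a + l → Subsingleton (P ⟶ (shiftFunctor C m).obj (W.G j))) :
    Subsingleton (P ⟶ (shiftFunctor C m).obj (W.F (a + l - 1))) := by
  induction l with
  | zero => simpa using h0
  | succ l ih =>
    have ih := ih (fun j h1 h2 => hG j h1 (by push_cast; omega))
    have hG' := hG (a + l) (by omega) (by push_cast; omega)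
    have e : a + ((l + 1 : ℕ) : ℤ) - 1 = a + l := by push_cast; ring
    rw [e]
    refine ⟨fun x y => ?_⟩
    have h1 : ∀ x : P ⟶ (shiftFunctor C m).obj (W.F (a + l)), x = 0 := fun x => by
      obtain ⟨y, rfl⟩ := W.exact P (a + l) m x (Subsingleton.elim _ _)
      rw [Subsingleton.elim y 0, zero_comp]
    rw [h1 x, h1 y]

/-- **Dimension count**. -/
theorem count (n a : ℤ) (h0 : Subsingleton (P ⟶ (shiftFunctor C n).obj (W.F (a - 1)))) (l : ℕ)
    (hG : ∀ j, a ≤ j → j < a + l → Module.Finite k (V P (W.ρG j) n))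
    (hS : ∀ j, a ≤ j → j < a + l → W.Sj P j n) (hS' : ∀ j, a ≤ j → j < a + l → W.Sj P j (n - 1)) :
    Module.Finite k (V P (W.ρF (a + l - 1)) n) ∧ Module.finrank k (V P (W.ρF (a + l - 1)) n) =
      ∑ j ∈ Finset.range l, Module.finrank k (V P (W.ρG (a + j)) n) := by
  induction l with
  | zero =>
    have h1 : Subsingleton (V P (W.ρF (a + (0 : ℕ) - 1)) n) := by
      have e : a + ((0 : ℕ) : ℤ) - 1 = a - 1 := by simp
      rw [e]
      exact h0
    exact ⟨inferInstance, by rw [Finset.range_zero, Finset.sum_empty, Module.finrank_zero_of_subsingleton]⟩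
  | succ l ih =>
    obtain ⟨i1, i2⟩ := ih (fun j h1 h2 => hG j h1 (by push_cast; omega)) (fun j h1 h2 => hS j h1 (by push_cast; omega))
      (fun j h1 h2 => hS' j h1 (by push_cast; omega))
    have g1 := hG (a + l) (by omega) (by push_cast; omega)
    have g2 := hS (a + l) (by omega) (by push_cast; omega)
    have g3 := hS' (a + l) (by omega) (by push_cast; omega)
    have e : a + ((l + 1 : ℕ) : ℤ) - 1 = a + l := by push_cast; ring
    rw [e, Finset.sum_range_succ, ← i2]
    let f : V P (W.ρF (a + l - 1)) n →ₗ[k] V P (W.ρF (a + l)) n := V.map P (W.i (a + l)) (W.ci (a + l)) n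
    let g : V P (W.ρF (a + l)) n →ₗ[k] V P (W.ρG (a + l)) n := V.map P (W.q (a + l)) (W.cq (a + l)) n
    have h1 : ∀ x, g (f x) = 0 := fun x => by
      have h2 : W.i (a + l) ≫ W.q (a + l) = 0 := comp_distTriang_mor_zero₁₂ _ (W.tri _)
      change (H.to x ≫ (shiftFunctor C n).map (W.i (a + l))) ≫ (shiftFunctor C n).map (W.q (a + l)) = 0
      rw [Category.assoc, ← Functor.map_comp, h2, Functor.map_zero, comp_zero]
    have h2 : ∀ x, g x = 0 → ∃ y, f y = x := fun x hx => W.exact P (a + l) n (H.to x) hx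
    have h3 : Function.Injective f := by
      rw [injective_iff_map_eq_zero]
      exact fun y hy => W.injective_of_Sj P (a + l) n g3 (H.to y) hy
    have h4 : Function.Surjective g := fun z => g2 (H.to z)
    exact ⟨ExactFin.finite_mid f g h2, (ExactFin.finrank_mid_eq_iff f g h1 h2).2 ⟨h3, h4⟩⟩

end Tow

end Tow

end K905.HD
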