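import Groth.Agent.DelIll.K904.Ext
import Mathlib.GroupTheory.FreeAbelianGroup
import Mathlib.Data.Multiset.Bind
import Mathlib.FieldTheory.Finite.Basic

/-!
# Koszul complexes

For a commutative ring `R`, `R`-modules `S`, `M` and an `R`-linear map `u : S → M`, the group
`KK R S M = Sym_R S ⊗ Λ_R M` presented by generators `mk t ω` (`t` a multiset in `S`, `ω ∈ Λ M`), its
Koszul differential `κ (mk t ω) = ∑_{x ∈ t} mk (t - x) (u x ∧ ω)` and, if `S` has a finite spanning
family with suitable coordinates and `p` kills `R`, exactness in the pieces with symmetric degree in `[1, p - 2]`.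
-/

set_option autoImplicit false

open ExteriorAlgebra K904.Ext

namespace K905.Kos

variable (R : Type*) [CommRing R] (S : Type*) [AddCommGroup S] [Module R S] (M : Type*) [AddCommGroup M] [Module R M]

/-- The relations. -/
def relSet : Set (FreeAbelianGroup (Multiset S × ExteriorAlgebra R M)) :=
  {z | (∃ t ω ω', z = .of (t, ω + ω') - .of (t, ω) - .of (t, ω')) ∨
    (∃ x y t ω, z = .of ((x + y) ::ₘ t, ω) - .of (x ::ₘ t, ω) - .of (y ::ₘ t, ω)) ∨
    (∃ (c : R) (x : S) (t : Multiset S) (ω : ExteriorAlgebra R M), z = .of ((c • x) ::ₘ t, ω) - .of (x ::ₘ t, c • ω))}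

/-- `Sym_R S ⊗ Λ_R M` by generators and relations. -/
def KK : Type _ := FreeAbelianGroup (Multiset S × ExteriorAlgebra R M) ⧸ AddSubgroup.closure (relSet R S M)

noncomputable instance : AddCommGroup (KK R S M) :=
  inferInstanceAs (AddCommGroup (FreeAbelianGroup (Multiset S × ExteriorAlgebra R M) ⧸
    AddSubgroup.closure (relSet R S M)))

variable {R S M}

/-- The generators. -/
noncomputable def mk (t : Multiset S) (ω : ExteriorAlgebra R M) : KK R S M :=
  QuotientAddGroup.mk (s := AddSubgroup.closure (relSet R S M)) (FreeAbelianGroup.of (t, ω))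

theorem mk_eq_of_sub {a b : FreeAbelianGroup (Multiset S × ExteriorAlgebra R M)} (h : a - b ∈ relSet R S M) :
    (QuotientAddGroup.mk (s := AddSubgroup.closure (relSet R S M)) a : KK R S M) = QuotientAddGroup.mk b := by
  rw [QuotientAddGroup.eq_iff_sub_mem]
  exact AddSubgroup.subset_closure h

theorem mk_add (t : Multiset S) (ω ω' : ExteriorAlgebra R M) : mk t (ω + ω') = mk t ω + mk t ω' := by
  refine mk_eq_of_sub (b := .of (t, ω) + .of (t, ω')) (Or.inl ⟨t, ω, ω', ?_⟩)
  abel

theorem mk_cons_add (x y : S) (t : Multiset S) (ω : ExteriorAlgebra R M) :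
    mk ((x + y) ::ₘ t) ω = mk (x ::ₘ t) ω + mk (y ::ₘ t) ω := by
  refine mk_eq_of_sub (b := .of (x ::ₘ t, ω) + .of (y ::ₘ t, ω)) (Or.inr (Or.inl ⟨x, y, t, ω, ?_⟩))
  abel

theorem mk_cons_smul (c : R) (x : S) (t : Multiset S) (ω : ExteriorAlgebra R M) :
    mk ((c • x) ::ₘ t) ω = mk (x ::ₘ t) (c • ω) :=
  mk_eq_of_sub (Or.inr (Or.inr ⟨c, x, t, ω, rfl⟩))

section lift

variable {G : Type*} [AddCommGroup G] (f : Multiset S → ExteriorAlgebra R M → G)
  (h1 : ∀ t ω ω', f t (ω + ω') = f t ω + f t ω')
  (h2 : ∀ x y t ω, f ((x + y) ::ₘ t) ω = f (x ::ₘ t) ω + f (y ::ₘ t) ω)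
  (h3 : ∀ (c : R) x t ω, f ((c • x) ::ₘ t) ω = f (x ::ₘ t) (c • ω))

/-- The universal property. -/
noncomputable def lift : KK R S M →+ G :=
  QuotientAddGroup.lift _ (FreeAbelianGroup.lift fun a : Multiset S × ExteriorAlgebra R M => f a.1 a.2) (by
    rw [AddSubgroup.closure_le]
    rintro z (⟨t, ω, ω', rfl⟩ | ⟨x, y, t, ω, rfl⟩ | ⟨c, x, t, ω, rfl⟩)
    · simp [h1]
    · simp [h2]
    · simp [h3])

@[simp]
theorem lift_mk (t : Multiset S) (ω : ExteriorAlgebra R M) : lift f h1 h2 h3 (mk t ω) = f t ω := by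
  exact FreeAbelianGroup.lift_apply_of _ _

end lift

theorem mk_induction {P : KK R S M → Prop} (h : ∀ t ω, P (mk t ω)) (h0 : P 0) (hadd : ∀ x y, P x → P y → P (x + y))
    (hneg : ∀ x, P x → P (-x)) (z : KK R S M) : P z := by
  obtain ⟨z, rfl⟩ := QuotientAddGroup.mk_surjective z
  induction z using FreeAbelianGroup.induction_on with
  | zero => exact h0
  | of x => exact h x.1 x.2
  | neg x hx => exact hneg _ hx
  | add x y hx hy => exact hadd _ _ hx hy

theorem hom_ext {G : Type*} [AddCommGroup G] {f g : KK R S M →+ G} (h : ∀ t ω, f (mk t ω) = g (mk t ω)) : f = g := by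
  ext z
  induction z using mk_induction with
  | h t ω => exact h t ω
  | h0 => rw [map_zero, map_zero]
  | hadd x y hx hy => rw [map_add, map_add, hx, hy]
  | hneg x hx => rw [map_neg, map_neg, hx]

/-- `ω ↦ mk t ω`. -/
noncomputable def mkHom (t : Multiset S) : ExteriorAlgebra R M →+ KK R S M := AddMonoidHom.mk' (mk t) (mk_add t)

@[simp] theorem mkHom_apply (t : Multiset S) (ω : ExteriorAlgebra R M) : mkHom t ω = mk t ω := rfl

@[simp] theorem mk_zero (t : Multiset S) : (mk t (0 : ExteriorAlgebra R M)) = 0 := map_zero (mkHom t)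

theorem mk_neg (t : Multiset S) (ω : ExteriorAlgebra R M) : mk t (-ω) = -mk t ω := map_neg (mkHom t) ω

theorem mk_sub (t : Multiset S) (ω ω' : ExteriorAlgebra R M) : mk t (ω - ω') = mk t ω - mk t ω' :=
  map_sub (mkHom t) ω ω'

theorem mk_nsmul (n : ℕ) (t : Multiset S) (ω : ExteriorAlgebra R M) : mk t (n • ω) = n • mk t ω :=
  map_nsmul (mkHom t) n ω

/-! ### Operators -/

/-- Multiplication by `x ∈ S`. -/
noncomputable def X (x : S) : KK R S M →+ KK R S M :=
  lift (fun t ω => mk (x ::ₘ t) ω) (fun t ω ω' => mk_add _ _ _)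
    (fun y z t ω => by rw [Multiset.cons_swap, mk_cons_add, Multiset.cons_swap y, Multiset.cons_swap z])
    (fun c y t ω => by rw [Multiset.cons_swap, mk_cons_smul, Multiset.cons_swap])

@[simp] theorem X_mk (x : S) (t : Multiset S) (ω : ExteriorAlgebra R M) : X x (mk t ω) = mk (x ::ₘ t) ω :=
  lift_mk _ _ _ _ _ _

/-- Apply an `R`-linear endomorphism of `Λ M`. -/
noncomputable def A (T : ExteriorAlgebra R M →ₗ[R] ExteriorAlgebra R M) : KK R S M →+ KK R S M :=
  lift (fun t ω => mk t (T ω)) (fun t ω ω' => by rw [map_add, mk_add])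
    (fun y z t ω => mk_cons_add _ _ _ _)
    (fun c y t ω => by rw [mk_cons_smul, map_smul])

@[simp] theorem A_mk (T : ExteriorAlgebra R M →ₗ[R] ExteriorAlgebra R M) (t : Multiset S) (ω : ExteriorAlgebra R M) :
    A T (mk t ω) = mk t (T ω) :=
  lift_mk _ _ _ _ _ _

theorem A_X (T : ExteriorAlgebra R M →ₗ[R] ExteriorAlgebra R M) (x : S) (z : KK R S M) : A T (X x z) = X x (A T z) := by
  have : (A T).comp (X x) = (X x).comp (A (S := S) T) := hom_ext fun t ω => by simp
  exact DFunLike.congr_fun this z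

theorem X_comm (x y : S) (z : KK R S M) : X x (X y z) = X y (X x z) := by
  have : (X x).comp (X y) = (X y).comp (X (R := R) (M := M) x) := hom_ext fun t ω => by
    simp [Multiset.cons_swap x y]
  exact DFunLike.congr_fun this z

variable (u : S →ₗ[R] M)

open Classical in
/-- Raw Koszul differential. -/
noncomputable def κ₀ (t : Multiset S) (ω : ExteriorAlgebra R M) : KK R S M :=
  (t.map fun x => mk (t.erase x) (ι R (u x) * ω)).sum

theorem κ₀_cons (x : S) (t : Multiset S) (ω : ExteriorAlgebra R M) :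
    κ₀ u (x ::ₘ t) ω = mk t (ι R (u x) * ω) + X x (κ₀ u t ω) := by
  classical
  have h : ∀ y ∈ t, mk ((x ::ₘ t).erase y) (ι R (u y) * ω) = X x (mk (t.erase y) (ι R (u y) * ω)) := by
    intro y hy
    rw [X_mk, Multiset.erase_cons_tail_of_mem hy]
  rw [κ₀, Multiset.map_cons, Multiset.sum_cons, Multiset.erase_cons_head, κ₀, map_multiset_sum, Multiset.map_map]
  congr 2
  exact Multiset.map_congr rfl fun y hy => by
    rw [h y hy]
    simp only [X_mk, Function.comp]

theorem κ₀_zero (ω : ExteriorAlgebra R M) : κ₀ u 0 ω = 0 := by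
  rw [κ₀, Multiset.map_zero, Multiset.sum_zero]

theorem κ₀_add (t : Multiset S) (ω ω' : ExteriorAlgebra R M) : κ₀ u t (ω + ω') = κ₀ u t ω + κ₀ u t ω' := by
  induction t using Multiset.induction_on with
  | empty => simp [κ₀_zero]
  | cons x t ih => rw [κ₀_cons, κ₀_cons, κ₀_cons, ih, mul_add, mk_add, map_add]; abel

/-- The Koszul differential. -/
noncomputable def κ : KK R S M →+ KK R S M :=
  lift (κ₀ u) (κ₀_add u)
    (fun x y t ω => by
      have hX : ∀ z : KK R S M, X (x + y) z = X x z + X y z := fun z => by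
        have : X (x + y) = X x + X (R := R) (M := M) y := hom_ext fun t ω => by simp [mk_cons_add]
        exact DFunLike.congr_fun this z
      rw [κ₀_cons, κ₀_cons, κ₀_cons, map_add, map_add, add_mul, mk_add, hX]
      abel)
    (fun c x t ω => by
      rw [κ₀_cons, κ₀_cons, map_smul, map_smul, smul_mul_assoc, mul_smul_comm]
      congr 1
      induction t using Multiset.induction_on with
      | empty => rw [κ₀_zero, κ₀_zero, map_zero, map_zero]
      | cons y t ih =>
        rw [κ₀_cons, κ₀_cons, map_add, map_add, X_comm, ih, X_comm y x, X_mk, X_mk, mk_cons_smul, mul_smul_comm])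

@[simp] theorem κ_mk (t : Multiset S) (ω : ExteriorAlgebra R M) : κ u (mk t ω) = κ₀ u t ω := lift_mk _ _ _ _ _ _

theorem κ_X (x : S) (z : KK R S M) : κ u (X x z) = X x (κ u z) + A (E (u x)) z := by
  have : (κ u).comp (X x) = (X x).comp (κ u) + A (S := S) (E (u x)) := hom_ext fun t ω => by
    simp only [AddMonoidHom.comp_apply, X_mk, κ_mk, κ₀_cons, AddMonoidHom.add_apply, A_mk, E_apply]
    abel
  exact DFunLike.congr_fun this z

theorem A_comp (T T' : ExteriorAlgebra R M →ₗ[R] ExteriorAlgebra R M) (z : KK R S M) :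
    A T (A T' z) = A (T.comp T') z := by
  have : (A T).comp (A T') = A (S := S) (T.comp T') := hom_ext fun t ω => by simp
  exact DFunLike.congr_fun this z

theorem A_zero (z : KK R S M) : A 0 z = 0 := by
  have : A (0 : ExteriorAlgebra R M →ₗ[R] ExteriorAlgebra R M) = (0 : KK R S M →+ KK R S M) :=
    hom_ext fun t ω => by simp
  exact DFunLike.congr_fun this z

theorem A_add (T T' : ExteriorAlgebra R M →ₗ[R] ExteriorAlgebra R M) (z : KK R S M) :
    A (T + T') z = A T z + A T' z := by
  have : A (T + T') = A T + A (S := S) T' := hom_ext fun t ω => by simp [mk_add]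
  exact DFunLike.congr_fun this z

theorem A_neg (T : ExteriorAlgebra R M →ₗ[R] ExteriorAlgebra R M) (z : KK R S M) :
    A (-T) z = - A T z := by
  have : A (-T) = - A (S := S) T := hom_ext fun t ω => by simp [mk_neg]
  exact DFunLike.congr_fun this z

theorem A_smul_one_X (c : R) (x : S) (z : KK R S M) :
    A (c • (1 : Module.End R (ExteriorAlgebra R M))) (X x z) = X (c • x) z := by
  have : (A (c • (1 : Module.End R (ExteriorAlgebra R M)))).comp (X x) = X (R := R) (M := M) (c • x) :=
    hom_ext fun t ω => by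
      simp only [AddMonoidHom.comp_apply, X_mk, A_mk, mk_cons_smul]
      rfl
  exact DFunLike.congr_fun this z

/-- `κ` anticommutes with multiplication by `v ∈ M`. -/
theorem κ_E (v : M) (z : KK R S M) : κ u (A (E v) z) = - A (E v) (κ u z) := by
  induction z using mk_induction with
  | h t ω =>
    induction t using Multiset.induction_on with
    | empty => simp [κ₀_zero]
    | cons x t ih =>
      rw [← X_mk, A_X, κ_X, ih, κ_X, map_neg, ← A_X, A_comp, map_add, A_comp]
      have h : (E (A := R) (u x)).comp (E v) = - (E v).comp (E (u x)) := by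
        have := E_anti (A := R) (u x) v
        exact eq_neg_of_add_eq_zero_left this
      rw [h, A_neg]
      abel
  | h0 => simp
  | hadd x y hx hy => simp only [map_add, hx, hy]; abel
  | hneg x hx => simp only [map_neg, hx]

theorem κ_κ (z : KK R S M) : κ u (κ u z) = 0 := by
  induction z using mk_induction with
  | h t ω =>
    induction t using Multiset.induction_on with
    | empty => simp [κ₀_zero]
    | cons x t ih =>
      rw [← X_mk, κ_X, map_add, κ_X, ih, map_zero, zero_add, κ_E]
      exact add_neg_cancel _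
  | h0 => simp
  | hadd x y hx hy => simp only [map_add, hx, hy]; abel
  | hneg x hx => simp only [map_neg, hx, neg_zero]

/-! ### The homotopies -/

variable (e : S) (ε : Module.Dual R M)

/-- The homotopy: contraction with `ε` times `e`. -/
noncomputable def h : KK R S M →+ KK R S M := (X e).comp (A (C ε))

theorem h_apply (z : KK R S M) : h e ε z = X e (A (C ε) z) := rfl

/-- The operator `κ h + h κ`. -/
noncomputable def w : KK R S M →+ KK R S M := (κ u).comp (h e ε) + (h e ε).comp (κ u)

theorem w_apply (z : KK R S M) : w u e ε z = κ u (h e ε z) + h e ε (κ u z) := rfl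

theorem w_κ (z : KK R S M) : w u e ε (κ u z) = κ u (w u e ε z) := by
  rw [w_apply, w_apply, map_add, κ_κ, κ_κ, map_zero]
  abel

theorem C_E_A (v : M) (z : KK R S M) :
    A (C ε) (A (E v) z) = A (ε v • (1 : Module.End R (ExteriorAlgebra R M))) z - A (E v) (A (C ε) z) := by
  rw [A_comp, A_comp]
  have h1 : (C ε).comp (E v) = ε v • (1 : Module.End R (ExteriorAlgebra R M)) + -((E v).comp (C ε)) := by
    have := C_E ε v
    rw [← this]
    change C ε * E v = C ε * E v + E v * C ε + -(E v * C ε)
    abel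
  rw [h1, A_add, A_neg]
  abel

theorem w_X (x : S) (z : KK R S M) :
    w u e ε (X x z) = X x (w u e ε z) + A (ε (u x) • (1 : Module.End R (ExteriorAlgebra R M))) (X e z) := by
  simp only [w_apply, h_apply, κ_X, A_X, map_add, C_E_A, map_sub]
  rw [X_comm x e (κ u (A (C ε) z)), X_comm x e (A (C ε) (κ u z))]
  abel

theorem w_X_of_zero (x : S) (hx : ε (u x) = 0) (z : KK R S M) : w u e ε (X x z) = X x (w u e ε z) := by
  rw [w_X, hx, zero_smul, A_zero, add_zero]

theorem w_X_self (he : ε (u e) = 1) (z : KK R S M) : w u e ε (X e z) = X e (w u e ε z) + X e z := by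
  rw [w_X, he, A_smul_one_X, one_smul]

theorem w_mk_zero (ω : ExteriorAlgebra R M) : w u e ε (mk 0 ω) = mk 0 (ι R (u e) * C ε ω) := by
  rw [w_apply, h_apply, A_mk, X_mk, κ_mk, κ_mk, κ₀_zero, map_zero, add_zero, κ₀_cons, κ₀_zero, map_zero, add_zero]

end K905.Kos
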