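import Groth.Agent.DelIll.K905.Kos

/-!
# Exactness of Koszul complexes in characteristic `p`

`P j i` is the piece of `Sym S ⊗ Λ M` of total degree `j` and exterior degree `i`.  If `S` has a finite
spanning family `e l` with functionals `ε l : M → R`, `ε l (u (e l')) = δ`, `M` is spanned by the `u (e l)` and
the common kernel of the `ε l`, and `p R = 0`, then the Koszul complex is exact in the pieces of
symmetric degree `m ≥ 1` with `m + 1 < p` (or total degree `< p`).
-/

set_option autoImplicit false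

open ExteriorAlgebra K904.Ext

namespace K905.Kos

variable {R : Type*} [CommRing R] {S : Type*} [AddCommGroup S] [Module R S] {M : Type*} [AddCommGroup M] [Module R M]

variable (R S M) in
/-- The piece of total degree `j` and exterior degree `i`. -/
noncomputable def P (j i : ℕ) : AddSubgroup (KK R S M) :=
  AddSubgroup.closure {z | ∃ (t : Multiset S) (ω : ExteriorAlgebra R M),
    t.card + i = j ∧ ω ∈ ⋀[R]^i M ∧ z = mk t ω}

variable (R S M) in
/-- The previous piece. -/
noncomputable def Pp (j : ℕ) : ℕ → AddSubgroup (KK R S M)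
  | 0 => ⊥
  | i + 1 => P R S M j i

theorem mk_mem_P {j i : ℕ} (t : Multiset S) (ω : ExteriorAlgebra R M) (ht : t.card + i = j) (hω : ω ∈ ⋀[R]^i M) :
    mk t ω ∈ P R S M j i :=
  AddSubgroup.subset_closure ⟨t, ω, ht, hω, rfl⟩

/-- Additive maps and the pieces. -/
theorem map_P_le {j i : ℕ} {G : Type*} [AddCommGroup G] (f : KK R S M →+ G) (N : AddSubgroup G)
    (h : ∀ (t : Multiset S) (ω : ExteriorAlgebra R M), t.card + i = j → ω ∈ ⋀[R]^i M → f (mk t ω) ∈ N)
    {z : KK R S M} (hz : z ∈ P R S M j i) : f z ∈ N := by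
  have : P R S M j i ≤ N.comap f := by
    rw [P, AddSubgroup.closure_le]
    rintro _ ⟨t, ω, ht, hω, rfl⟩
    exact h t ω ht hω
  exact this hz

variable (u : S →ₗ[R] M)

theorem κ₀_mem {j i : ℕ} (t : Multiset S) (ω : ExteriorAlgebra R M) (ht : t.card + i = j) (hω : ω ∈ ⋀[R]^i M) :
    κ₀ u t ω ∈ P R S M j (i + 1) := by
  classical
  refine AddSubgroup.multiset_sum_mem _ _ fun z hz => ?_
  obtain ⟨x, hx, rfl⟩ := Multiset.mem_map.1 hz
  refine mk_mem_P _ _ ?_ (E_mem (u x) i ω hω)
  rw [Multiset.card_erase_of_mem hx]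
  have := Multiset.card_pos_iff_exists_mem.2 ⟨x, hx⟩
  simp only [Nat.pred_eq_sub_one]
  omega

theorem κ_mem {j i : ℕ} {z : KK R S M} (hz : z ∈ P R S M j i) : κ u z ∈ P R S M j (i + 1) :=
  map_P_le (κ u) _ (fun t ω ht hω => by rw [κ_mk]; exact κ₀_mem u t ω ht hω) hz

theorem κ_mem' {j i : ℕ} {z : KK R S M} (hz : z ∈ Pp R S M j i) : κ u z ∈ P R S M j i := by
  cases i with
  | zero =>
    rw [show z = 0 from hz, map_zero]
    exact AddSubgroup.zero_mem _
  | succ i => exact κ_mem u hz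

theorem h_mem (e : S) (ε : Module.Dual R M) {j i : ℕ} {z : KK R S M} (hz : z ∈ P R S M j i) :
    h e ε z ∈ Pp R S M j i := by
  refine map_P_le (h e ε) _ (fun t ω ht hω => ?_) hz
  rw [h_apply, A_mk, X_mk]
  cases i with
  | zero => rw [C_eq_zero ε ω hω, mk_zero]; exact AddSubgroup.zero_mem _
  | succ i =>
    refine mk_mem_P _ _ ?_ (C_mem ε i ω hω)
    rw [Multiset.card_cons]
    omega

theorem w_mem (e : S) (ε : Module.Dual R M) {j i : ℕ} {z : KK R S M} (hz : z ∈ P R S M j i) :
    w u e ε z ∈ P R S M j i := by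
  rw [w_apply]
  exact AddSubgroup.add_mem _ (κ_mem' u (h_mem e ε hz)) (h_mem e ε (κ_mem u hz))

/-- `w` in the ring of endomorphisms. -/
noncomputable def W (e : S) (ε : Module.Dual R M) : AddMonoid.End (KK R S M) := w u e ε

theorem w_pow_mem (e : S) (ε : Module.Dual R M) (n : ℕ) {j i : ℕ} {z : KK R S M} (hz : z ∈ P R S M j i) :
    ((W u e ε) ^ n) z ∈ P R S M j i := by
  induction n with
  | zero => exact hz
  | succ n ih =>
    rw [pow_succ']
    exact w_mem u e ε ih

theorem κ_w_pow (e : S) (ε : Module.Dual R M) (n : ℕ) {z : KK R S M} (hz : κ u z = 0) :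
    κ u (((W u e ε) ^ n) z) = 0 := by
  induction n with
  | zero => exact hz
  | succ n ih =>
    rw [pow_succ']
    change κ u (w u e ε (((W u e ε) ^ n) z)) = 0
    rw [← w_κ, ih, map_zero]

theorem w_pow_eigen (e : S) (ε : Module.Dual R M) {z : KK R S M} (α : ℕ) (hz : w u e ε z = α • z) (n : ℕ) :
    ((W u e ε) ^ n) z = α ^ n • z := by
  induction n with
  | zero => simp
  | succ n ih =>
    rw [pow_succ']
    change w u e ε (((W u e ε) ^ n) z) = _
    rw [ih, map_nsmul, hz, smul_smul, pow_succ]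

theorem p_nsmul (p : ℕ) (hp : (p : R) = 0) (z : KK R S M) : p • z = 0 := by
  induction z using mk_induction with
  | h t ω => rw [← mk_nsmul, ← Nat.cast_smul_eq_nsmul R, hp, zero_smul, mk_zero]
  | h0 => simp
  | hadd x y hx hy => rw [smul_add, hx, hy, add_zero]
  | hneg x hx => rw [smul_neg, hx, neg_zero]

/-- The operator `1 - w ^ (p - 1)`. -/
noncomputable def T (p : ℕ) (e : S) (ε : Module.Dual R M) : AddMonoid.End (KK R S M) :=
  1 - (W u e ε) ^ (p - 1)

theorem T_apply (p : ℕ) (e : S) (ε : Module.Dual R M) (z : KK R S M) :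
    T u p e ε z = z - ((W u e ε) ^ (p - 1)) z := rfl

theorem T_eigen (p : ℕ) [hpp : Fact p.Prime] (hp : (p : R) = 0) (e : S) (ε : Module.Dual R M) {z : KK R S M} (α : ℕ)
    (hz : w u e ε z = α • z) : T u p e ε z = if p ∣ α then z else 0 := by
  rw [T_apply, w_pow_eigen u e ε α hz]
  split_ifs with h
  · have h2 : p ∣ α ^ (p - 1) := dvd_pow h (Nat.sub_ne_zero_of_lt hpp.1.one_lt)
    obtain ⟨k, hk⟩ := h2
    rw [hk, mul_comm, mul_smul, p_nsmul p hp, smul_zero, sub_zero]
  · have h1 : (α : ZMod p) ^ (p - 1) = 1 := ZMod.pow_card_sub_one_eq_one (by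
      rwa [Ne, ZMod.natCast_eq_zero_iff])
    have h3 : 0 < α := Nat.pos_of_ne_zero (by rintro rfl; exact h (dvd_zero p))
    have h4 : 1 ≤ α ^ (p - 1) := Nat.one_le_pow _ _ h3
    have h2 : p ∣ α ^ (p - 1) - 1 := by
      rw [← ZMod.natCast_eq_zero_iff, Nat.cast_sub h4, Nat.cast_pow, h1]
      simp
    obtain ⟨k, hk⟩ := h2
    have h5 : α ^ (p - 1) = 1 + k * p := by rw [mul_comm k p, ← hk]; omega
    rw [h5, add_smul, one_smul, mul_smul, p_nsmul p hp, smul_zero, add_zero, sub_self]

theorem T_homotopy (p : ℕ) [hpp : Fact p.Prime] (e : S) (ε : Module.Dual R M) {j i : ℕ} {z : KK R S M}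
    (hz : z ∈ P R S M j i) (hκ : κ u z = 0) :
    T u p e ε z ∈ P R S M j i ∧ κ u (T u p e ε z) = 0 ∧ ∃ y ∈ Pp R S M j i, κ u y = z - T u p e ε z := by
  have h1 : ((W u e ε) ^ (p - 1)) z ∈ P R S M j i := w_pow_mem u e ε _ hz
  refine ⟨?_, ?_, ?_⟩
  · rw [T_apply]
    exact AddSubgroup.sub_mem _ hz h1
  · rw [T_apply, map_sub, hκ, κ_w_pow u e ε _ hκ, sub_zero]
  · obtain ⟨q, hq⟩ : ∃ q, p - 1 = q + 1 := ⟨p - 2, by have := hpp.1.two_le; omega⟩
    refine ⟨h e ε (((W u e ε) ^ q) z), h_mem e ε (w_pow_mem u e ε q hz), ?_⟩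
    rw [T_apply, sub_sub_cancel, hq, pow_succ']
    change _ = w u e ε (((W u e ε) ^ q) z)
    rw [w_apply, κ_w_pow u e ε q hκ, map_zero, add_zero]

/-! ### Coordinates -/

variable {J : Type*} (e : J → S) (ε : J → Module.Dual R M)

/-- The product of the operators `T`. -/
noncomputable def TL (p : ℕ) (L : List J) : AddMonoid.End (KK R S M) := (L.map fun l => T u p (e l) (ε l)).prod

theorem TL_cons (p : ℕ) (l : J) (L : List J) (z : KK R S M) :
    TL u e ε p (l :: L) z = T u p (e l) (ε l) (TL u e ε p L z) := by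
  rw [TL, List.map_cons, List.prod_cons]
  rfl

theorem TL_homotopy (p : ℕ) [hpp : Fact p.Prime] (L : List J) {j i : ℕ} {z : KK R S M}
    (hz : z ∈ P R S M j i) (hκ : κ u z = 0) :
    TL u e ε p L z ∈ P R S M j i ∧ κ u (TL u e ε p L z) = 0 ∧
      ∃ y ∈ Pp R S M j i, κ u y = z - TL u e ε p L z := by
  induction L with
  | nil =>
    refine ⟨hz, hκ, 0, AddSubgroup.zero_mem _, ?_⟩
    rw [map_zero]
    change 0 = z - z
    rw [sub_self]
  | cons l L ih =>
    obtain ⟨h1, h2, y, hy, h3⟩ := ih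
    obtain ⟨h4, h5, y', hy', h6⟩ := T_homotopy u p (e l) (ε l) h1 h2
    refine ⟨by rw [TL_cons]; exact h4, by rw [TL_cons]; exact h5, y + y', AddSubgroup.add_mem _ hy hy', ?_⟩
    rw [map_add, h3, h6, TL_cons]
    abel

open Classical in
/-- Coordinates for `u : S → M`. -/
structure Coord : Prop where
  span_e : ∀ x : S, x ∈ Submodule.span R (Set.range e)
  dual : ∀ i j, ε i (u (e j)) = if i = j then 1 else 0
  span_M : ∀ m : M, m ∈ Submodule.span R {v | (∃ l, v = u (e l)) ∨ ∀ l, ε l v = 0}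

/-- Good elements of degree `i`. -/
def G (i : ℕ) : Set (ExteriorAlgebra R M) :=
  {ω | ω ∈ ⋀[R]^i M ∧ ∀ l, ∃ β : ℕ, β ≤ 1 ∧ β ≤ i ∧ ι R (u (e l)) * C (ε l) ω = β • ω}

variable {u e ε}

theorem G_smul {i : ℕ} {ω : ExteriorAlgebra R M} (hω : ω ∈ G u e ε i) (c : R) : c • ω ∈ G u e ε i := by
  refine ⟨Submodule.smul_mem _ _ hω.1, fun l => ?_⟩
  obtain ⟨β, h1, h2, h3⟩ := hω.2 l
  exact ⟨β, h1, h2, by rw [map_smul, mul_smul_comm, h3, smul_comm]⟩

theorem G_mul (hc : Coord u e ε) {i : ℕ} {ω : ExteriorAlgebra R M} (hω : ω ∈ G u e ε i) (v : M)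
    (hv : (∃ l, v = u (e l)) ∨ ∀ l, ε l v = 0) : ι R v * ω ∈ G u e ε (i + 1) := by
  classical
  refine ⟨E_mem v i ω hω.1, fun l => ?_⟩
  obtain ⟨β, h1, h2, h3⟩ := hω.2 l
  have key : ε l v = 0 → ι R (u (e l)) * C (ε l) (ι R v * ω) = β • (ι R v * ω) := by
    intro h0
    have h4 : ι R (u (e l)) * ι R v = - (ι R v * ι R (u (e l))) :=
      eq_neg_of_add_eq_zero_left (ι_add_mul_swap (u (e l)) v)
    rw [C_ι_mul, h0, zero_smul, zero_sub, mul_neg, ← mul_assoc, h4, neg_mul, neg_neg, mul_assoc, h3, mul_smul_comm]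
  rcases hv with ⟨l', rfl⟩ | hv
  · by_cases hl : l = l'
    · subst hl
      refine ⟨1, le_rfl, Nat.succ_le_succ (Nat.zero_le _), ?_⟩
      rw [C_ι_mul, hc.dual, if_pos rfl, one_smul, one_smul, mul_sub, ← mul_assoc, ι_sq_zero, zero_mul, sub_zero]
    · exact ⟨β, h1, h2.trans (Nat.le_succ _), key (by rw [hc.dual, if_neg hl])⟩
  · exact ⟨β, h1, h2.trans (Nat.le_succ _), key (hv l)⟩

theorem span_G (hc : Coord u e ε) (i : ℕ) : ⋀[R]^i M ≤ Submodule.span R (G u e ε i) := by
  induction i with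
  | zero =>
    intro ω hω
    refine Submodule.subset_span ⟨hω, fun l => ⟨0, by omega, le_rfl, ?_⟩⟩
    rw [C_eq_zero _ _ hω, mul_zero, zero_smul]
  | succ i ih =>
    intro ω hω
    rw [exteriorPower, pow_succ'] at hω
    induction hω using Submodule.mul_induction_on' with
    | mem_mul_mem v hv ω' hω' =>
      obtain ⟨v, rfl⟩ := hv
      have h2 : ∀ ω'' ∈ Submodule.span R (G u e ε i), ι R v * ω'' ∈ Submodule.span R (G u e ε (i + 1)) := by
        intro ω'' hω''
        induction hω'' using Submodule.span_induction with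
        | mem y hy =>
          induction hc.span_M v using Submodule.span_induction with
          | mem v hv => exact Submodule.subset_span (G_mul hc hy v hv)
          | zero => rw [map_zero, zero_mul]; exact Submodule.zero_mem _
          | add a b _ _ ha hb => rw [map_add, add_mul]; exact Submodule.add_mem _ ha hb
          | smul c a _ ha => rw [map_smul, smul_mul_assoc]; exact Submodule.smul_mem _ _ ha
        | zero => rw [mul_zero]; exact Submodule.zero_mem _
        | add a b _ _ ha hb => rw [mul_add]; exact Submodule.add_mem _ ha hb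
        | smul c a _ ha => rw [mul_smul_comm]; exact Submodule.smul_mem _ _ ha
      exact h2 _ (ih hω')
    | add a _ b _ ha hb => exact Submodule.add_mem _ ha hb

theorem mk_cons_zero (t : Multiset S) (ω : ExteriorAlgebra R M) : mk ((0 : S) ::ₘ t) ω = 0 := by
  have := mk_cons_smul (0 : R) (0 : S) t ω
  rw [zero_smul, zero_smul, mk_zero] at this
  exact this

/-- Monomials span. -/
theorem mk_mem_closure (hc : Coord u e ε) (i : ℕ) (t : Multiset S) {ω : ExteriorAlgebra R M} (hω : ω ∈ G u e ε i) :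
    mk t ω ∈ AddSubgroup.closure {z | ∃ (s : Multiset J) (ω : ExteriorAlgebra R M),
      s.card = t.card ∧ ω ∈ G u e ε i ∧ z = mk (s.map e) ω} := by
  induction t using Multiset.induction_on with
  | empty => exact AddSubgroup.subset_closure ⟨0, ω, rfl, hω, rfl⟩
  | cons x t ih =>
    rw [← X_mk]
    refine AddSubgroup.mem_comap.1 ((AddSubgroup.closure_le (K := AddSubgroup.comap (X x) _)).2 ?_ ih)
    rintro _ ⟨s, ω', hs, hω', rfl⟩
    rw [SetLike.mem_coe, AddSubgroup.mem_comap, X_mk, Multiset.card_cons]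
    induction hc.span_e x using Submodule.closure_induction with
    | zero => rw [mk_cons_zero]; exact AddSubgroup.zero_mem _
    | add a b _ _ ha hb => rw [mk_cons_add]; exact AddSubgroup.add_mem _ ha hb
    | smul_mem r y hy =>
      obtain ⟨l, rfl⟩ := hy
      rw [mk_cons_smul]
      exact AddSubgroup.subset_closure ⟨l ::ₘ s, r • ω', by rw [Multiset.card_cons, hs],
        G_smul hω' r, by rw [Multiset.map_cons]⟩

theorem P_le (hc : Coord u e ε) (j i : ℕ) :
    P R S M j i ≤ AddSubgroup.closure {z | ∃ (s : Multiset J) (ω : ExteriorAlgebra R M),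
      s.card + i = j ∧ ω ∈ G u e ε i ∧ z = mk (s.map e) ω} := by
  rw [P, AddSubgroup.closure_le]
  rintro _ ⟨t, ω, ht, hω, rfl⟩
  have h := span_G hc i hω
  clear hω
  induction h using Submodule.closure_induction with
  | zero => rw [mk_zero]; exact AddSubgroup.zero_mem _
  | add a b _ _ h1 h2 => rw [mk_add]; exact AddSubgroup.add_mem _ h1 h2
  | smul_mem r y hy =>
    refine AddSubgroup.closure_mono ?_ (mk_mem_closure hc i t (G_smul hy r))
    rintro _ ⟨s, ω, hs, hω, rfl⟩
    exact ⟨s, ω, by rw [hs, ht], hω, rfl⟩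

theorem w_mono (hc : Coord u e ε) (l : J) (s : Multiset J) (ω : ExteriorAlgebra R M) (β : ℕ)
    (hβ : ι R (u (e l)) * C (ε l) ω = β • ω) :
    w u (e l) (ε l) (mk (s.map e) ω) = (@Multiset.count J (Classical.decEq J) l s + β) • mk (s.map e) ω := by
  classical
  have hdec : (Classical.decEq J) = (fun a b => Classical.propDecidable (a = b)) := Subsingleton.elim _ _
  rw [hdec]
  induction s using Multiset.induction_on with
  | empty => rw [Multiset.map_zero, w_mk_zero, hβ, mk_nsmul, Multiset.count_zero, zero_add]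
  | cons l' s ih =>
    rw [Multiset.map_cons, ← X_mk]
    by_cases h : l = l'
    · subst h
      rw [w_X_self u (e l) (ε l) (by rw [hc.dual, if_pos rfl]), ih, Multiset.count_cons_self, map_nsmul, X_mk,
        add_smul, add_smul, add_smul, one_smul]
      abel
    · rw [w_X_of_zero u (e l) (ε l) (e l') (by rw [hc.dual, if_neg h]), ih, Multiset.count_cons_of_ne h, map_nsmul]

theorem TL_eigen (p : ℕ) [hpp : Fact p.Prime] (hp : (p : R) = 0) {z : KK R S M} (α : J → ℕ)
    (hz : ∀ l, w u (e l) (ε l) z = α l • z) (L : List J) :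
    TL u e ε p L z = if (∀ l ∈ L, p ∣ α l) then z else 0 := by
  classical
  induction L with
  | nil => simp; rfl
  | cons l L ih =>
    rw [TL_cons, ih]
    by_cases h : ∀ l ∈ L, p ∣ α l
    · rw [if_pos h, T_eigen u p hp (e l) (ε l) (α l) (hz l)]
      by_cases h2 : p ∣ α l
      · rw [if_pos h2, if_pos]
        intro l' hl'
        rcases List.mem_cons.1 hl' with rfl | hl'
        · exact h2
        · exact h l' hl'
      · rw [if_neg h2, if_neg fun h3 => h2 (h3 l List.mem_cons_self)]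
    · rw [if_neg h, map_zero, if_neg fun h3 => h fun l' hl' => h3 l' (List.mem_cons_of_mem _ hl')]

/-- **Exactness** of the Koszul complex. -/
theorem exact [Fintype J] (p : ℕ) [hpp : Fact p.Prime] (hp : (p : R) = 0) (hc : Coord u e ε) {j i : ℕ} (hij : i < j)
    (hw : j - i + 1 < p ∨ j < p) {z : KK R S M} (hz : z ∈ P R S M j i) (hκ : κ u z = 0) :
    ∃ y ∈ Pp R S M j i, κ u y = z := by
  classical
  obtain ⟨-, -, y, hy, h⟩ := TL_homotopy u e ε p (Finset.univ : Finset J).toList hz hκ
  refine ⟨y, hy, ?_⟩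
  rw [h, sub_eq_self]
  have h2 : P R S M j i ≤ (TL u e ε p (Finset.univ : Finset J).toList : KK R S M →+ KK R S M).ker := by
    refine (P_le hc j i).trans ?_
    rw [AddSubgroup.closure_le]
    rintro _ ⟨s, ω, hs, hω, rfl⟩
    rw [SetLike.mem_coe, AddMonoidHom.mem_ker]
    choose β hβ using hω.2
    have h3 := TL_eigen p hp (z := mk (s.map e) ω) (fun l => @Multiset.count J (Classical.decEq J) l s + β l)
      (fun l => w_mono hc l s ω (β l) (hβ l).2.2) (Finset.univ : Finset J).toList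
    refine h3.trans (if_neg fun h4 => ?_)
    obtain ⟨l, hl⟩ := Multiset.card_pos_iff_exists_mem.1 (show 0 < s.card by omega)
    have h5 := h4 l (by simp)
    have h6 : 1 ≤ @Multiset.count J (Classical.decEq J) l s := Multiset.one_le_count_iff_mem.2 hl
    have h7 : @Multiset.count J (Classical.decEq J) l s ≤ s.card := Multiset.count_le_card l s
    have h8 := (hβ l).1
    have h9 := (hβ l).2.1
    exact Nat.not_dvd_of_pos_of_lt (by omega) (by omega) h5
  exact h2 hz

end K905.Kos
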