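import Groth.Agent.DelIll.K905.DimLe
import Groth.Agent.DelIll.K905.AddSch
import Groth.Agent.Surf.K461.SerreLF
import Groth.Agent.ProjDual.K272.ExtPair
import Groth.Agent.Dual.H339.OmegaRank
import Groth.Agent.Krr.H495.ExtExist
import Groth.Agent.CurvesC.DegIso

/-!
# The dimension formula in the two basic cases
-/

set_option autoImplicit false
universe w u

open CategoryTheory CategoryTheory.Limits AlgebraicGeometry Opposite TopologicalSpace
open E1Deg KLinDR K905.HTFin K905.HD K905.Conj K905.ConjSch K905.DimLe K905.AddSch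

namespace K905.LowPure

section gen

variable {p : ℕ} [hp : Fact p.Prime] {k : Type u} [Field k] [CharP k p] [PerfectRing k p] {X : Scheme.{u}}
  [X.Over (Spec (CommRingCat.of k))] {Ω' : X.Modules} {δ : OmegaSh.Der (X ↘ Spec (CommRingCat.of k)) Ω'}
  [HasDerivedCategory.{w} (Sheaf (Opens.grothendieckTopology X) AddCommGrpCat.{u})]
  (D : DeRhamSh.Cx (X ↘ Spec (CommRingCat.of k)) Ω' δ)
  (hcov : ∀ (U : Opens X) (x : X), x ∈ U → ∃ V ∈ CartSh.chs p δ, x ∈ V ∧ V ≤ U)
  (h : TermwiseLinear (Coh.toGlobal (X ↘ Spec (CommRingCat.of k))) D.K D.term D.iso)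
  (hfin : ∀ i m, Module.Finite k (Coh.HH X (D.term i) m))
  (hvan : ∀ i m, p < m → Subsingleton (Coh.HH X (D.term i) m))
  (hdec : ∀ a b : ℤ, b + 2 ≤ a + p ∨ b < p → Dec D a b)

include hcov hfin hvan hdec in
/-- All terms vanish from `p` on. -/
theorem formula_low (hN : ∀ i, p ≤ i → IsZero (D.term i)) : Formula D h := fun n =>
  (Degen.finrank_eq D hcov h hfin p hN (fun j n hj hjn =>
    Sj_of_ne D hcov h hfin hvan hdec j n (by omega) hjn (by omega)) n).2

include hcov hfin hvan hdec in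
/-- **Numerical duality implies the formula.** -/
theorem formula_of_duality (hN : ∀ i, p + 1 ≤ i → IsZero (D.term i))
    (hPD : Module.finrank k (HTρ (CohCx.freeSheaf (Opens.grothendieckTopology X) (⊤ : X.Opens)) D.KZ (scalar h)
      ((p + 1 : ℕ) : ℤ)) = Module.finrank k (HTρ (CohCx.freeSheaf (Opens.grothendieckTopology X) (⊤ : X.Opens)) D.KZ
        (scalar h) ((p - 1 : ℕ) : ℤ)))
    (hSD : ∀ a m, a ≤ p → m ≤ p → Module.finrank k (Coh.HH X (D.term a) m) =
      Module.finrank k (Coh.HH X (D.term (p - a)) (p - m))) : Formula D h := by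
  have hp2 := hp.out.two_le
  have hS := Sj_of_ne D hcov h hfin hvan hdec
  have hS' : ∀ (j : ℕ) (n : ℤ), j < p + 1 → n ≤ ((p - 1 : ℕ) : ℤ) → (tow (E D) (ρ D h)).Sj (P X) j n := by
    intro j n hj hn
    rcases lt_or_ge n j with h1 | h1
    · have := subsingleton_G D j n h1
      exact fun z => ⟨0, Subsingleton.elim (α := (P X ⟶ (shiftFunctor _ n).obj (G (E D) j))) _ _⟩
    · obtain ⟨n, rfl⟩ := Int.eq_ofNat_of_zero_le (show 0 ≤ n by omega)
      exact hS j n hj (by omega) (by omega)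
  have h1 := count D hcov h hfin (p + 1) hN (p - 1) (fun j hj => hS' j _ hj le_rfl)
    (fun j hj => hS' j _ hj (by omega))
  have h2 : ∑ i ∈ Finset.range (p + 1 + 1), Module.finrank k (Coh.HH X (D.term i) (p + 1 - i)) =
      ∑ i ∈ Finset.range (p - 1 + 1), Module.finrank k (Coh.HH X (D.term i) (p - 1 - i)) := by
    have e0 : Module.finrank k (Coh.HH X (D.term 0) (p + 1 - 0)) = 0 := by
      have := hvan 0 (p + 1 - 0) (by omega)
      exact Module.finrank_zero_of_subsingleton
    have e1 : Module.finrank k (Coh.HH X (D.term (p + 1)) (p + 1 - (p + 1))) = 0 := by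
      have : Subsingleton (Coh.HH X (D.term (p + 1)) (p + 1 - (p + 1))) :=
        subsingleton_HH _ (Functor.map_isZero (SheafOfModules.toSheaf X.ringCatSheaf) (hN (p + 1) le_rfl)) _
      exact Module.finrank_zero_of_subsingleton
    rw [Finset.sum_range_succ, e1, add_zero, Finset.sum_range_succ', e0, add_zero,
      show p - 1 + 1 = p by omega, ← Finset.sum_range_reflect]
    refine Finset.sum_congr rfl fun i hi => ?_
    have hi' := Finset.mem_range.1 hi
    rw [hSD _ _ (by omega) (by omega), show p - (p - 1 - i + 1) = i by omega,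
      show p - (p + 1 - (p - 1 - i + 1)) = p - 1 - i by omega]
  have h3 := Sj_of_finrank D hcov h hfin hvan hN hdec (hPD.trans (h1.trans h2.symm))
  exact fun n => (Degen.finrank_eq D hcov h hfin (p + 1) hN (fun j n hj hjn => by
    by_cases hne : j = p ∧ n = p
    · obtain ⟨rfl, rfl⟩ := hne
      exact h3
    · exact hS j n hj hjn hne) n).2

end gen

section serre

open Groth.Agent

variable {k : Type u} [Field k] {X : Scheme.{u}} [X.Over (Spec (CommRingCat.of k))]
  [IsProper (X ↘ Spec (CommRingCat.of k))] (n : ℕ) [SmoothOfRelativeDimension n (X ↘ Spec (CommRingCat.of k))]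

/-- Serre duality for Hodge numbers. -/
theorem serre {Ω' : X.Modules} {δ : OmegaSh.Der (X ↘ Spec (CommRingCat.of k)) Ω'} (hδ : OmegaSh.IsUniversal δ)
    (D : DeRhamSh.Cx (X ↘ Spec (CommRingCat.of k)) Ω' δ) (a m : ℕ) (ha : a ≤ n) (hm : m ≤ n) :
    Module.finrank k (Coh.HH X (D.term a) m) = Module.finrank k (Coh.HH X (D.term (n - a)) (n - m)) := by
  obtain ⟨e₀, he₀⟩ := K583.DerFunct.exists_iso_of_isUniversal
    (K136.UnivOmega.isUniversal_dOmega (X ↘ Spec (CommRingCat.of k))) hδ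
  let D' := FinSch.cxOfIso e₀ he₀ D
  have hΩ := Groth.Agent.Dual.H339.OmegaRank.isFinLocFreeOfRank_omega n (X ↘ Spec (CommRingCat.of k))
  have hΩ' : FlatMod.IsFinLocFree (Omega.sheaf (X ↘ Spec (CommRingCat.of k))) := Groth.Agent.Ega2.QCohLocal.isFinLocFree_of_rank hΩ
  obtain ⟨W, -, hW⟩ := Groth.Agent.Krr.H495.ExtExist.exists_isExtPow n _ hΩ'
  have hL : ExtPow.IsExtPow a (Omega.sheaf (X ↘ Spec (CommRingCat.of k))) (D.term a) := D'.isExtPow a
  have hL' : ExtPow.IsExtPow (n - a) (Omega.sheaf (X ↘ Spec (CommRingCat.of k))) (D.term (n - a)) := D'.isExtPow (n - a)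
  have hLf : FlatMod.IsFinLocFree (D.term a) := Groth.Agent.Sga67.LocBasis.isFinLocFree_of_isExtPow hΩ' hL
  obtain ⟨e⟩ := K272.ExtPair.nonempty_iso (Nat.add_sub_cancel' ha) hΩ hL hL' hW
  rw [K461.SerreLF.finrank_eq k n hW hLf (n - m) m (Nat.sub_add_cancel hm)]
  exact Groth.Agent.CurvesC.DegIso.finrank_congr k ((Groth.Agent.Sga2.PnHomAdj.sheafHomIso (D.term a)).app W ≪≫ e.symm) (n - m)

end serre

end K905.LowPure
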