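import Groth.Agent.DelIll.K905.TotLocal
import Groth.Agent.DelIll.K904.FrobMaps
import Groth.Agent.DelIll.K904.DR
import Groth.Agent.DelIll.K904.PBasis

/-!
# Charts from étale coordinates
-/

set_option autoImplicit false
set_option linter.unusedSectionVars false
universe u v

open ExteriorAlgebra K904 K905.TotM K905.TotPhi Module K905.TotSplit FrobAlg K904.EtLift

namespace K905.MkChart

section pbasis

variable {p : ℕ} [hp : Fact p.Prime] {B : Type*} [CommRing B] [CharP B p]

theorem der_pow_p {M : Type*} [AddCommGroup M] [Module B M] (D : B →+ M) (hD : ∀ a b, D (a * b) = a • D b + b • D a)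
    (b : B) : D (b ^ p) = 0 := by
  have : PZ p B := ⟨CharP.cast_eq_zero B p⟩
  exact δ_pow_p p hD b

/-- Derivations agreeing on a `p`-basis agree. -/
theorem der_ext {M : Type*} [AddCommGroup M] [Module B M] {J : Type*} [Fintype J] [LinearOrder J] {x : J → B}
    (hx : LocalCartier.IsPBasis p x) (D D' : B →+ M) (hD : ∀ a b, D (a * b) = a • D b + b • D a)
    (hD' : ∀ a b, D' (a * b) = a • D' b + b • D' a) (h : ∀ j, D (x j) = D' (x j)) (b : B) : D b = D' b := by
  have hpow : ∀ (b : B) (n : ℕ), D b = D' b → D (b ^ n) = D' (b ^ n) := by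
    intro b n hb
    cases n with
    | zero =>
      have h1 : ∀ (E : B →+ M), (∀ a b, E (a * b) = a • E b + b • E a) → E 1 = 0 := fun E hE => by
        have := hE 1 1
        rw [one_mul, one_smul] at this
        exact left_eq_add.1 this
      rw [pow_zero, h1 D hD, h1 D' hD']
    | succ n => rw [δ_pow hD, δ_pow hD', hb]
  have hprod : ∀ (s : Finset J) (a : J → ℕ), D (∏ j ∈ s, x j ^ a j) = D' (∏ j ∈ s, x j ^ a j) := by
    intro s a
    classical
    induction s using Finset.induction_on with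
    | empty =>
      rw [Finset.prod_empty]
      have := hpow (1 : B) 0
      have h1 : ∀ (E : B →+ M), (∀ a b, E (a * b) = a • E b + b • E a) → E 1 = 0 := fun E hE => by
        have := hE 1 1
        rw [one_mul, one_smul] at this
        exact left_eq_add.1 this
      rw [h1 D hD, h1 D' hD']
    | insert i s hi ih => rw [Finset.prod_insert hi, hD, hD', ih, hpow _ _ (h i)]
  obtain ⟨β, rfl⟩ := hx.2 b
  simp only [map_sum]
  refine Finset.sum_congr rfl fun a _ => ?_
  rw [hD, hD', der_pow_p D hD, der_pow_p D' hD']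
  congr 2
  exact hprod _ _

end pbasis

variable {p : ℕ} [hp : Fact p.Prime] {k : Type u} [Field k] [CharP k p] [PerfectRing k p]
  {B Bt : Type u} [CommRing B] [CharP B p] [PZ p B] [Algebra k B] [CommRing Bt] {ι : W2 p k →+* Bt} {π : Bt →+* B}

/-- **Charts.** -/
theorem exists_chart (h : IsLift p k B Bt ι π) {n : ℕ} (xt : Fin n → Bt)
    (hx : (coord k (fun j => π (xt j))).Etale) {L : Type v} [AddCommGroup L] [Module B L] (δ : B →+ L)
    (leib : ∀ a b, δ (a * b) = a • δ b + b • δ a) (e : Basis (Fin n) B L) (he : ∀ j, e j = δ (π (xt j))) :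
    ∃ F : Bt →+* Bt, TotLocal.Chart p π δ (LocalCartier.d δ e) e xt F := by
  have hpb : LocalCartier.IsPBasis p (fun j => π (xt j)) := PBasis.isPBasis_of_etale_coord p (k := k) _ hx
  have hlc : LocalCartier.LogChart p (fun _ : Fin n => False) (fun j => π (xt j)) δ e :=
    ⟨hpb, leib, fun _ hj => hj.elim, fun j _ => (he j).symm⟩
  obtain ⟨h1, h2, h3, -⟩ := K673.Lift.isLift_iff.1 h
  obtain ⟨s, hs⟩ := (FrobMaps.existsUnique_sec h xt hx).exists
  obtain ⟨F, hF⟩ := (K674.Ghost.frobLift_iff h).2 ⟨s, RingHom.ext fun b => by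
    rw [RingHom.comp_apply, res_apply, hs.res], RingHom.ext fun w => hs.base w⟩
  refine ⟨F, ⟨h1, fun a ha => ?_, fun b hb => ?_, hF.red⟩, ⟨leib, fun b => DR.d_algebraMap hlc b,
    fun x y => DR.d_mul hlc x y, fun b => ?_⟩, hpb, he, fun D hD => ?_⟩
  · obtain ⟨b, hb⟩ := h3 a ha
    exact ⟨b, by rw [hb, nsmul_eq_mul]⟩
  · exact h2 b (by rw [← nsmul_eq_mul, hb])
  · rw [← DR.d_algebraMap hlc, DR.d_d hlc]
  · refine ⟨e.constr B (fun j => D (π (xt j))), fun a => ?_⟩
    refine der_ext hpb ((e.constr B (fun j => D (π (xt j)))).toAddMonoidHom.comp δ) D (fun a b => ?_) hD (fun j => ?_) a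
    · change e.constr B _ (δ (a * b)) = a • e.constr B _ (δ b) + b • e.constr B _ (δ a)
      rw [leib, map_add, map_smul, map_smul]
    · change e.constr B _ (δ (π (xt j))) = _
      rw [← he, Basis.constr_basis]

end K905.MkChart
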