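import Groth.Agent.DelIll.K905.SheafKos
import Mathlib.CategoryTheory.Sites.EpiMono
import Mathlib.CategoryTheory.Sites.LocallyBijective
import Mathlib.Topology.Sheaves.SheafCondition.UniqueGluing
import Mathlib.Algebra.Category.Grp.FilteredColimits

/-!
# Local sections and exactness for abelian sheaves on a topological space
-/

set_option autoImplicit false
universe u

open CategoryTheory CategoryTheory.Limits Opposite TopologicalSpace

namespace K905.ShLoc

variable {T : Type u} [TopologicalSpace T]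

/-- Abelian sheaves. -/
abbrev Sh (T : Type u) [TopologicalSpace T] := Sheaf (Opens.grothendieckTopology T) AddCommGrpCat.{u}

/-- Sections. -/
noncomputable abbrev Se (F : Sh T) (U : Opens T) : Type u := F.obj.obj (op U)

/-- Restriction. -/
noncomputable abbrev rs (F : Sh T) {U V : Opens T} (h : V ≤ U) : Se F U →+ Se F V := (F.obj.map (homOfLE h).op).hom

/-- Morphisms on sections. -/
noncomputable abbrev ap {F G : Sh T} (φ : F ⟶ G) (U : Opens T) : Se F U →+ Se G U := (φ.hom.app (op U)).hom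

theorem ap_rs {F G : Sh T} (φ : F ⟶ G) {U V : Opens T} (h : V ≤ U) (s : Se F U) :
    ap φ V (rs F h s) = rs G h (ap φ U s) :=
  ConcreteCategory.congr_hom (φ.hom.naturality (homOfLE h).op) s

theorem rs_rs (F : Sh T) {U V W : Opens T} (h : V ≤ U) (h' : W ≤ V) (s : Se F U) :
    rs F h' (rs F h s) = rs F (h'.trans h) s := by
  have : (homOfLE (h'.trans h)).op = (homOfLE h).op ≫ (homOfLE h').op := rfl
  change _ = (F.obj.map (homOfLE (h'.trans h)).op) s
  rw [this, F.obj.map_comp]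
  rfl

theorem ap_comp {F G H : Sh T} (φ : F ⟶ G) (ψ : G ⟶ H) (U : Opens T) (s : Se F U) :
    ap (φ ≫ ψ) U s = ap ψ U (ap φ U s) := rfl

theorem hom_ext {F G : Sh T} {φ ψ : F ⟶ G} (h : ∀ U s, ap φ U s = ap ψ U s) : φ = ψ := by
  apply ObjectProperty.hom_ext
  ext U s
  exact h U.unop s

/-- Sections are determined locally. -/
theorem eq_of_locally (F : Sh T) {U : Opens T} {s t : Se F U}
    (H : ∀ x ∈ U, ∃ (V : Opens T) (h : V ≤ U), x ∈ V ∧ rs F h s = rs F h t) : s = t := by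
  choose V hV hx e using H
  refine TopCat.Sheaf.eq_of_locally_eq' (X := TopCat.of T) F (fun x : U => V x.1 x.2) U
    (fun x => homOfLE (hV x.1 x.2)) ?_ s t (fun x => e x.1 x.2)
  intro x hx'
  exact Opens.mem_iSup.mpr ⟨⟨x, hx'⟩, hx x hx'⟩

theorem hom_ext_of_basis {F G : Sh T} {φ ψ : F ⟶ G} {𝓑 : Set (Opens T)}
    (hB : ∀ (U : Opens T) (x : T), x ∈ U → ∃ V ∈ 𝓑, x ∈ V ∧ V ≤ U) (h : ∀ U ∈ 𝓑, ∀ s, ap φ U s = ap ψ U s) :
    φ = ψ := by
  refine hom_ext fun U s => eq_of_locally G fun x hx => ?_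
  obtain ⟨V, hV, hxV, hVU⟩ := hB U x hx
  exact ⟨V, hVU, hxV, by rw [← ap_rs, ← ap_rs, h V hV]⟩

/-- Epimorphisms are locally surjective. -/
theorem surj_locally {F G : Sh T} (φ : F ⟶ G) [Epi φ] {U : Opens T} (t : Se G U) (x : T) (hx : x ∈ U) :
    ∃ (V : Opens T) (h : V ≤ U), x ∈ V ∧ ∃ s : Se F V, ap φ V s = rs G h t := by
  have h1 : Sheaf.IsLocallySurjective φ := (Sheaf.isLocallySurjective_iff_epi' (φ := φ)).2 inferInstance
  have h2 := Presheaf.imageSieve_mem (Opens.grothendieckTopology T) φ.hom (U := op U) t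
  obtain ⟨V, f, ⟨s, hs⟩, hxV⟩ := h2 x hx
  exact ⟨V, f.le, hxV, s, hs⟩

theorem epi_of_locally {F G : Sh T} (φ : F ⟶ G)
    (H : ∀ (U : Opens T) (t : Se G U) (x : T), x ∈ U →
      ∃ (V : Opens T) (h : V ≤ U), x ∈ V ∧ ∃ s : Se F V, ap φ V s = rs G h t) : Epi φ := by
  rw [← Sheaf.isLocallySurjective_iff_epi']
  constructor
  intro U t x hx
  obtain ⟨V, h, hxV, s, hs⟩ := H U t x hx
  exact ⟨V, homOfLE h, ⟨s, hs⟩, hxV⟩

theorem inj {F G : Sh T} (φ : F ⟶ G) [Mono φ] (U : Opens T) : Function.Injective (ap φ U) := by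
  have h1 : Mono ((sheafToPresheaf _ _ ⋙ (evaluation _ _).obj (op U)).map φ) := inferInstance
  exact (AddCommGrpCat.mono_iff_injective _).1 h1

theorem mono_of_inj {F G : Sh T} (φ : F ⟶ G) (H : ∀ (U : Opens T) (s : Se F U), ap φ U s = 0 → s = 0) : Mono φ := by
  constructor
  intro Z a b hab
  refine hom_ext fun U s => ?_
  have h1 : ap φ U (ap a U s - ap b U s) = 0 := by
    rw [map_sub, sub_eq_zero, ← ap_comp, hab, ap_comp]
  exact sub_eq_zero.1 (H U _ h1)

/-- Left exactness of sections. -/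
theorem exists_of_exact_mono (S : ShortComplex (Sh T)) (hS : S.Exact) (hm : Mono S.f) {U : Opens T} (s : Se S.X₂ U)
    (hs : ap S.g U s = 0) : ∃ t : Se S.X₁ U, ap S.f U t = s := by
  have h2 := hS.map_of_mono_of_preservesKernel (sheafToPresheaf _ _ ⋙ (evaluation _ _).obj (op U)) hm inferInstance
  rw [ShortComplex.ab_exact_iff] at h2
  exact h2 s hs

/-- Exactness gives local lifts. -/
theorem exists_of_exact (S : ShortComplex (Sh T)) (hS : S.Exact) {U : Opens T} (s : Se S.X₂ U)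
    (hs : ap S.g U s = 0) (x : T) (hx : x ∈ U) :
    ∃ (V : Opens T) (h : V ≤ U), x ∈ V ∧ ∃ t : Se S.X₁ V, ap S.f V t = rs S.X₂ h s := by
  have h1 : Epi S.toCycles := (S.exact_iff_epi_toCycles).1 hS
  have hm : Mono S.iCycles := inferInstance
  obtain ⟨z, hz⟩ := exists_of_exact_mono (ShortComplex.mk S.iCycles S.g (by simp))
    (ShortComplex.exact_of_f_is_kernel _ S.cyclesIsKernel) hm s hs
  change ap S.iCycles U z = s at hz
  obtain ⟨V, h, hxV, t, ht⟩ := surj_locally S.toCycles z x hx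
  refine ⟨V, h, hxV, t, ?_⟩
  have h2 : S.toCycles ≫ S.iCycles = S.f := S.toCycles_i
  rw [← h2, ap_comp, ht, ap_rs, hz]

section basis

variable {𝓑 : Set (Opens T)} (hB : ∀ (U : Opens T) (x : T), x ∈ U → ∃ V ∈ 𝓑, x ∈ V ∧ V ≤ U)

/-- The morphism of sheaves given by natural maps on a basis. -/
noncomputable def ofBasis {F G : Sh T} (φ : ∀ V : 𝓑, Se F V.1 →+ Se G V.1)
    (nat : ∀ (V W : 𝓑) (h : W.1 ≤ V.1) (s : Se F V.1), φ W (rs F h s) = rs G h (φ V s)) : F ⟶ G :=
  ObjectProperty.homMk (TopCat.Sheaf.restrictHomEquivHom (X := TopCat.of T) F.obj G (SheafKos.isBasis hB)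
    { app := fun V => AddCommGrpCat.ofHom (φ V.unop)
      naturality := fun V W f => by
        ext z
        exact nat V.unop W.unop f.unop.hom.le z })

theorem ofBasis_ap {F G : Sh T} (φ : ∀ V : 𝓑, Se F V.1 →+ Se G V.1)
    (nat : ∀ (V W : 𝓑) (h : W.1 ≤ V.1) (s : Se F V.1), φ W (rs F h s) = rs G h (φ V s)) (V : 𝓑) (s : Se F V.1) :
    ap (ofBasis hB φ nat) V.1 s = φ V s := by
  have := TopCat.Sheaf.extend_hom_app (X := TopCat.of T) F.obj G (SheafKos.isBasis hB)
    { app := fun V => AddCommGrpCat.ofHom (φ V.unop)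
      naturality := fun V W f => by
        ext z
        exact nat V.unop W.unop f.unop.hom.le z } V
  exact ConcreteCategory.congr_hom this s

end basis

end K905.ShLoc
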