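import Groth.Agent.DelIll.K905.ResHT
import Groth.Agent.DelIll.K905.ShLoc
import Groth.Agent.CohtopA.RestrCoh
import Groth.Agent.S0871

/-!
# Hypercohomology over an open subspace; disjoint unions
-/

set_option autoImplicit false
universe w w' u u₀

open CategoryTheory CategoryTheory.Limits E1Deg KLinDR K905.HTExact K905.HTFin Opposite TopologicalSpace
open Groth.Agent.CohtopB.FreeSheafHom K905.ShLoc K905.ResHT

namespace K905.ResOpen

section glue

variable {T : Type u} [TopologicalSpace T]

theorem exists_glue (F : Sh T) {U V : Opens T} (hd : U ⊓ V = ⊥) (hc : U ⊔ V = ⊤) (a : Se F U) (b : Se F V) :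
    ∃ c : Se F ⊤, rs F (le_top (a := U)) c = a ∧ rs F (le_top (a := V)) c = b := by
  let W : Bool → Opens T := fun i => cond i U V
  let sf : ∀ i, F.obj.obj (op (W i)) := fun i => match i with
    | true => a
    | false => b
  have hsub : ∀ (W' : Opens T) (_ : W' ≤ ⊥) (s t : Se F W'), s = t := fun W' hW' s t =>
    eq_of_locally F fun x hx => absurd (hW' hx) (by simp)
  have hcomp : TopCat.Presheaf.IsCompatible (X := TopCat.of T) F.obj W sf := by
    intro i j
    cases i <;> cases j
    · rfl
    · exact hsub _ (by rw [← hd]; exact le_of_eq (inf_comm _ _)) _ _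
    · exact hsub _ (by rw [← hd]; exact le_rfl) _ _
    · rfl
  obtain ⟨c, hc1, -⟩ := TopCat.Sheaf.existsUnique_gluing' (X := TopCat.of T) F W ⊤ (fun i => homOfLE le_top) (by
    rw [← hc]
    exact sup_le (le_iSup W true) (le_iSup W false)) sf hcomp
  exact ⟨c, hc1 true, hc1 false⟩

/-- **The free sheaf of a disjoint union.** -/
theorem isIso_desc {U V : Opens T} (hd : U ⊓ V = ⊥) (hc : U ⊔ V = ⊤) :
    IsIso (biprod.desc (CohCx.freeSheafMap (Opens.grothendieckTopology T) (homOfLE (le_top (a := U))))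
      (CohCx.freeSheafMap (Opens.grothendieckTopology T) (homOfLE (le_top (a := V))))) := by
  rw [isIso_iff_coyoneda_map_bijective]
  intro F
  constructor
  · intro x y hxy
    have h1 := congrArg (fun z => biprod.inl ≫ z) hxy
    have h2 := congrArg (fun z => biprod.inr ≫ z) hxy
    simp only [biprod.inl_desc_assoc, biprod.inr_desc_assoc] at h1 h2
    have h3 := congrArg (fun z : CohCx.freeSheaf (Opens.grothendieckTopology T) U ⟶ F => (z.hom.app (op U)).hom (gen _ U)) h1
    have h4 := congrArg (fun z : CohCx.freeSheaf (Opens.grothendieckTopology T) V ⟶ F => (z.hom.app (op V)).hom (gen _ V)) h2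
    simp only [freeSheafMap_comp_app_gen] at h3 h4
    refine hom_ext (eq_of_locally F fun t _ => ?_)
    have ht : t ∈ U ⊔ V := by rw [hc]; trivial
    rcases ht with ht | ht
    · exact ⟨U, le_top, ht, h3⟩
    · exact ⟨V, le_top, ht, h4⟩
  · intro z
    obtain ⟨c, hc1, hc2⟩ := exists_glue F hd hc (((biprod.inl ≫ z).hom.app (op U)).hom (gen _ U))
      (((biprod.inr ≫ z).hom.app (op V)).hom (gen _ V))
    refine ⟨homMk c, biprod.hom_ext' _ _ ?_ ?_⟩
    · simp only [biprod.inl_desc_assoc]
      refine Groth.Agent.CohtopB.FreeSheafHom.hom_ext ?_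
      rw [freeSheafMap_comp_app_gen, homMk_app_gen]
      exact hc1
    · simp only [biprod.inr_desc_assoc]
      refine Groth.Agent.CohtopB.FreeSheafHom.hom_ext ?_
      rw [freeSheafMap_comp_app_gen, homMk_app_gen]
      exact hc2

variable {k : Type u₀} [Ring k] [HasDerivedCategory.{w} (Sh T)] (K : CochainComplex (Sh T) ℤ) (ρ : k →+* End K) (n : ℤ)

/-- **Hypercohomology of a disjoint union.** -/
noncomputable def disjLin {U V : Opens T} (hd : U ⊓ V = ⊥) (hc : U ⊔ V = ⊤) :
    HTρ (CohCx.freeSheaf (Opens.grothendieckTopology T) ⊤) K ρ n ≃ₗ[k]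
      HTρ (CohCx.freeSheaf (Opens.grothendieckTopology T) U) K ρ n ×
        HTρ (CohCx.freeSheaf (Opens.grothendieckTopology T) V) K ρ n :=
  haveI := isIso_desc hd hc
  (preIso K ρ n (asIso (biprod.desc (CohCx.freeSheafMap (Opens.grothendieckTopology T) (homOfLE (le_top (a := U))))
      (CohCx.freeSheafMap (Opens.grothendieckTopology T) (homOfLE (le_top (a := V))))))).trans
    (preBiprod K ρ n (BinaryBiproduct.bicone (CohCx.freeSheaf (Opens.grothendieckTopology T) U)
      (CohCx.freeSheaf (Opens.grothendieckTopology T) V)) rfl biprod.total)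

end glue

section restr

variable {X : TopCat.{u}} (U : Opens X) {k : Type u₀} [Ring k] [iX : HasDerivedCategory.{w} (CohTop.Ab X)]
  [iU : HasDerivedCategory.{w'} (CohTop.Ab (TopCat.of U))] {K : CochainComplex (CohTop.Ab X) ℤ} (ρ : k →+* End K) (n : ℤ)

/-- **Hypercohomology over an open subspace.** -/
theorem nonempty_openLin : Nonempty (HTρ (CohCx.freeSheaf (Opens.grothendieckTopology X) U) K ρ n ≃ₗ[k]
    HTρ (CohCx.freeSheaf (Opens.grothendieckTopology (TopCat.of U)) ⊤) (mc (CohTop.restrFunctor U) K)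
      (mρ (CohTop.restrFunctor U) ρ) n) := by
  obtain ⟨L, ⟨adj⟩, hL⟩ := Groth.Agent.CohtopA.OpenShriek.exists_leftAdjoint U
  have : L.Additive := adj.left_adjoint_additive
  have : PreservesFiniteColimits L :=
    have := adj.leftAdjoint_preservesColimits
    PreservesColimits.preservesFiniteColimits L
  obtain ⟨e⟩ := Groth.Agent.S0871.nonempty_iso U L adj
  rw [Groth.Agent.S0871.imTop_eq] at e
  exact ⟨(preIso K ρ n e).trans (resLin adj _ ρ n)⟩

/-- With a comparison of complexes. -/
theorem nonempty_openLin' {L : CochainComplex (CohTop.Ab (TopCat.of U)) ℤ} (e : mc (CohTop.restrFunctor U) K ≅ L)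
    (ρ' : k →+* End L) (he : Commutes (mρ (CohTop.restrFunctor U) ρ) ρ' e.hom) :
    Nonempty (HTρ (CohCx.freeSheaf (Opens.grothendieckTopology X) U) K ρ n ≃ₗ[k]
      HTρ (CohCx.freeSheaf (Opens.grothendieckTopology (TopCat.of U)) ⊤) L ρ' n) := by
  obtain ⟨f⟩ := nonempty_openLin U ρ n
  exact ⟨f.trans (mapIso _ e he n)⟩

/-- With a comparison of complexes, for the graded pieces. -/
theorem nonempty_openGr {L : CochainComplex (CohTop.Ab (TopCat.of U)) ℤ} (e : mc (CohTop.restrFunctor U) K ≅ L)
    (ρ' : k →+* End L) (he : Commutes (mρ (CohTop.restrFunctor U) ρ) ρ' e.hom) (a : ℤ) :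
    Nonempty (HTρ (CohCx.freeSheaf (Opens.grothendieckTopology X) U)
        ((HomologicalComplex.single _ (ComplexShape.up ℤ) a).obj (K.X a)) ((grEnd K a).comp ρ) n ≃ₗ[k]
      HTρ (CohCx.freeSheaf (Opens.grothendieckTopology (TopCat.of U)) ⊤)
        ((HomologicalComplex.single _ (ComplexShape.up ℤ) a).obj (L.X a)) ((grEnd L a).comp ρ') n) := by
  obtain ⟨f⟩ := nonempty_openLin U ((grEnd K a).comp ρ) n
  exact ⟨f.trans (mapIso _ (sgIso _ e a) (sgIso_commutes _ e a ρ ρ' he) n)⟩

end restr

end K905.ResOpen
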