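import Groth.Agent.DelIll.K905.RestrCx
import Groth.Agent.DelIll.K905.ResOpen
import Groth.Agent.DelIll.K905.HTSch

/-!
# Hypercohomology of the restricted de Rham complex; additivity over disjoint unions
-/

set_option autoImplicit false
universe w w' u

open CategoryTheory CategoryTheory.Limits AlgebraicGeometry Opposite TopologicalSpace
open E1Deg KLinDR K905.HTFin K905.ResHT K905.ResOpen K905.RestrCx

namespace K905.ResCx

variable {k : Type u} [Field k] {X : Scheme.{u}} [X.Over (Spec (CommRingCat.of k))] (U : X.Opens)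

theorem ring_id (V : U.toScheme.Opens) (a : k) :
    (U.ι.appIso V).inv (Coh.resTop U.toScheme (op V) (Coh.toGlobal (U.toScheme ↘ Spec (CommRingCat.of k)) a)) =
      Coh.resTop X (op (U.ι ''ᵁ V)) (Coh.toGlobal (X ↘ Spec (CommRingCat.of k)) a) := by
  set z := (Scheme.ΓSpecIso (CommRingCat.of k)).inv.hom a with hz
  have h1 : (U.ι ≫ (X ↘ Spec (CommRingCat.of k))).appTop ≫ U.toScheme.presheaf.map (homOfLE (le_top (a := V))).op ≫
      (U.ι.appIso V).inv =
      (X ↘ Spec (CommRingCat.of k)).appTop ≫ X.presheaf.map (homOfLE (le_top (a := U.ι ''ᵁ V))).op := by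
    rw [← Category.assoc, Iso.comp_inv_eq, Scheme.Hom.appIso_hom']
    simp only [Scheme.Hom.appTop, Scheme.Hom.app_eq_appLE, Category.assoc, Scheme.Hom.map_appLE]
    refine Eq.trans ?_ (Scheme.Hom.appLE_comp_appLE _ _ _ _ _ _ _).symm
    exact Scheme.Hom.appLE_map _ _ _
  exact congr($h1 z)

/-- Scalars restrict to scalars. -/
theorem map_smulAb (M : X.Modules) (a : k) :
    (CohTop.restrFunctor (X := X.toTopCat) U).map (Coh.smulAb M (Coh.toGlobal (X ↘ Spec (CommRingCat.of k)) a)) =
      Coh.smulAb (M.restrict U.ι) (Coh.toGlobal (U.toScheme ↘ Spec (CommRingCat.of k)) a) := by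
  apply ObjectProperty.hom_ext
  ext V m
  have h1 := ring_id U V.unop a
  change (show Γ(X, U.ι ''ᵁ V.unop) from Coh.resTop X (op (U.ι ''ᵁ V.unop)) (Coh.toGlobal (X ↘ Spec (CommRingCat.of k)) a)) •
    (show Γ(M, U.ι ''ᵁ V.unop) from m) = (U.ι.appIso V.unop).inv (Coh.resTop U.toScheme (op V.unop)
      (Coh.toGlobal (U.toScheme ↘ Spec (CommRingCat.of k)) a)) • (show Γ(M, U.ι ''ᵁ V.unop) from m)
  rw [h1]

variable {Ω' : X.Modules} {δ : OmegaSh.Der (X ↘ Spec (CommRingCat.of k)) Ω'}
  (D : DeRhamSh.Cx (X ↘ Spec (CommRingCat.of k)) Ω' δ)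
  (h : TermwiseLinear (Coh.toGlobal (X ↘ Spec (CommRingCat.of k))) D.K D.term D.iso)

/-- The restricted complex, over the restricted structure map. -/
noncomputable abbrev rcx : DeRhamSh.Cx (U.toScheme ↘ Spec (CommRingCat.of k)) (Ω'.restrict U.ι) (der U δ) := cx D U

include h in
theorem termwiseLinear_rcx :
    TermwiseLinear (Coh.toGlobal (U.toScheme ↘ Spec (CommRingCat.of k))) (rcx U D).K (rcx U D).term (rcx U D).iso := by
  intro a p
  have h1 := congrArg (fun x => (CohTop.restrFunctor (X := X.toTopCat) U).map x) (h a p)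
  have h2 : ∀ p, scalarEnd (Coh.toGlobal (U.toScheme ↘ Spec (CommRingCat.of k))) (rcx U D).term (rcx U D).iso a p =
      (CohTop.restrFunctor (X := X.toTopCat) U).map (scalarEnd (Coh.toGlobal (X ↘ Spec (CommRingCat.of k))) D.term D.iso a p) := by
    intro p
    rw [scalarEnd, scalarEnd, Functor.map_comp, Functor.map_comp, map_smulAb]
    rfl
  rw [h2, h2]
  simp only [Functor.map_comp] at h1
  exact h1

theorem scalarN_rcx (a : k) : (scalarN (termwiseLinear_rcx U D h) a : (rcx U D).K ⟶ (rcx U D).K) =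
    ((CohTop.restrFunctor (X := X.toTopCat) U).mapHomologicalComplex _).map (scalarN h a : D.K ⟶ D.K) := by
  refine HomologicalComplex.hom_ext _ _ fun p => ?_
  change scalarEnd (Coh.toGlobal (U.toScheme ↘ Spec (CommRingCat.of k))) (rcx U D).term (rcx U D).iso a p =
    (CohTop.restrFunctor (X := X.toTopCat) U).map (scalarEnd (Coh.toGlobal (X ↘ Spec (CommRingCat.of k))) D.term D.iso a p)
  rw [scalarEnd, scalarEnd, Functor.map_comp, Functor.map_comp, map_smulAb]
  rfl

/-- The comparison of the extended complexes. -/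
noncomputable def extI : mc (CohTop.restrFunctor (X := X.toTopCat) U) D.KZ ≅ (rcx U D).KZ :=
  extIso (CohTop.restrFunctor (X := X.toTopCat) U) ComplexShape.embeddingUpNat D.K

theorem extI_commutes : Commutes (mρ (CohTop.restrFunctor (X := X.toTopCat) U) (scalar h))
    (scalar (termwiseLinear_rcx U D h)) (extI U D).hom := by
  intro a
  have h1 := extIso_naturality (CohTop.restrFunctor (X := X.toTopCat) U) ComplexShape.embeddingUpNat (scalarN h a : D.K ⟶ D.K)
  rw [← scalarN_rcx] at h1
  exact h1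

variable [i1 : HasDerivedCategory.{w} (Sheaf (Opens.grothendieckTopology X) AddCommGrpCat.{u})]
  [i2 : HasDerivedCategory.{w'} (Sheaf (Opens.grothendieckTopology U.toScheme) AddCommGrpCat.{u})]

/-- Hypercohomology over `U` is that of the restricted complex. -/
theorem nonempty_resHdR (n : ℤ) : Nonempty (HTρ (CohCx.freeSheaf (Opens.grothendieckTopology X) U) D.KZ (scalar h) n ≃ₗ[k]
    HTρ (CohCx.freeSheaf (Opens.grothendieckTopology U.toScheme) (⊤ : U.toScheme.Opens)) (rcx U D).KZ
      (scalar (termwiseLinear_rcx U D h)) n) :=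
  nonempty_openLin' (X := X.toTopCat) U (iX := i1) (iU := i2) (K := D.KZ) (scalar h) n (extI U D) _ (extI_commutes U D h)

/-- The same for the graded pieces. -/
theorem nonempty_resGr (a n : ℤ) : Nonempty (HTρ (CohCx.freeSheaf (Opens.grothendieckTopology X) U)
      ((HomologicalComplex.single _ (ComplexShape.up ℤ) a).obj (D.KZ.X a)) ((grEnd D.KZ a).comp (scalar h)) n ≃ₗ[k]
    HTρ (CohCx.freeSheaf (Opens.grothendieckTopology U.toScheme) (⊤ : U.toScheme.Opens))
      ((HomologicalComplex.single _ (ComplexShape.up ℤ) a).obj ((rcx U D).KZ.X a))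
      ((grEnd (rcx U D).KZ a).comp (scalar (termwiseLinear_rcx U D h))) n) :=
  nonempty_openGr (X := X.toTopCat) U (iX := i1) (iU := i2) (K := D.KZ) (scalar h) n (extI U D) _ (extI_commutes U D h) a

omit i2 in
/-- The graded pieces are Hodge cohomology. -/
noncomputable def grHH (a m : ℕ) : HTρ (CohCx.freeSheaf (Opens.grothendieckTopology X) (⊤ : X.Opens))
      ((HomologicalComplex.single _ (ComplexShape.up ℤ) (a : ℤ)).obj (D.KZ.X a)) ((grEnd D.KZ a).comp (scalar h))
      ((a + m : ℕ) : ℤ) ≃ₗ[k] Coh.HH X (D.term a) m :=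
  HTAbs.grLin (HTSch.zIso X) D.KZ (scalar h) (a : ℤ) _ m (by push_cast; ring)
    (D.K.extendXIso ComplexShape.embeddingUpNat (ComplexShape.embeddingUpNat_f a) ≪≫ D.iso a)
    (fun c => Coh.smulAb (D.term a) (Coh.toGlobal (X ↘ Spec (CommRingCat.of k)) c))
    (HTSch.scalar_f_comp h a) (AddEquiv.refl _) (fun _ _ => rfl)

end K905.ResCx
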