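import Groth.Agent.DelIll.K905.HTFin
import Groth.Agent.CohtopB.ExactDerAdj

/-!
# Hypercohomology and exact adjunctions, linearly
-/

set_option autoImplicit false
universe w w' v v' u u' u₀

open CategoryTheory CategoryTheory.Limits E1Deg KLinDR K905.HTExact K905.HTFin
open Groth.Agent.CohtopB.ExactDerAdj

namespace K905.ResHT

section adj

variable {A : Type u} [Category.{v} A] [Abelian A] [HasDerivedCategory.{w} A]
  {B : Type u'} [Category.{v'} B] [Abelian B] [HasDerivedCategory.{w'} B]
  {L : B ⥤ A} {R : A ⥤ B} (adj : L ⊣ R) [L.Additive] [R.Additive]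
  [PreservesFiniteLimits L] [PreservesFiniteColimits L]
  [PreservesFiniteLimits R] [PreservesFiniteColimits R]

theorem homEquivSingle_naturality (X : B) {K K' : DerivedCategory A} (φ : K ⟶ K') (n : ℤ)
    (f : (DerivedCategory.singleFunctor A 0).obj (L.obj X) ⟶ (shiftFunctor _ n).obj K) :
    homEquivSingle adj X K' n (f ≫ (shiftFunctor _ n).map φ) =
      homEquivSingle adj X K n f ≫ (shiftFunctor _ n).map (R.mapDerivedCategory.map φ) := by
  change (derivedAdj adj).homEquiv _ _ ((L.mapDerivedCategorySingleFunctor 0).hom.app X ≫ f ≫ (shiftFunctor _ n).map φ) ≫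
    (R.mapDerivedCategory.commShiftIso n).hom.app K' =
    ((derivedAdj adj).homEquiv _ _ ((L.mapDerivedCategorySingleFunctor 0).hom.app X ≫ f) ≫
      (R.mapDerivedCategory.commShiftIso n).hom.app K) ≫ (shiftFunctor _ n).map (R.mapDerivedCategory.map φ)
  rw [← Category.assoc, Adjunction.homEquiv_naturality_right, Category.assoc, Category.assoc]
  congr 1
  exact (R.mapDerivedCategory.commShiftIso n).hom.naturality φ

/-- The functor on complexes. -/
noncomputable abbrev mc (R : A ⥤ B) [R.Additive] (K : CochainComplex A ℤ) : CochainComplex B ℤ :=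
  (R.mapHomologicalComplex (ComplexShape.up ℤ)).obj K

/-- Post-composition with an isomorphism. -/
def postIso {C : Type*} [Category C] [Preadditive C] (X : C) {Y Z : C} (e : Y ≅ Z) : (X ⟶ Y) ≃+ (X ⟶ Z) where
  toFun x := x ≫ e.hom
  invFun x := x ≫ e.inv
  left_inv x := by simp
  right_inv x := by simp
  map_add' x y := Preadditive.add_comp _ _ _ _ _ _

/-- Restriction on hypercohomology. -/
noncomputable def resEquiv (T : B) (K : CochainComplex A ℤ) (n : ℤ) : HT (L.obj T) K n ≃+ HT T (mc R K) n :=
  (homEquivSingle adj T (DerivedCategory.Q.obj K) n).trans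
    (postIso _ ((shiftFunctor _ n).mapIso (R.mapDerivedCategoryFactors.app K)))

theorem resEquiv_naturality (T : B) {K K' : CochainComplex A ℤ} (φ : K ⟶ K') (n : ℤ) (x : HT (L.obj T) K n) :
    resEquiv adj T K' n (HTmap (L.obj T) φ n x) =
      HTmap T ((R.mapHomologicalComplex (ComplexShape.up ℤ)).map φ) n (resEquiv adj T K n x) := by
  change homEquivSingle adj T _ n (x ≫ (shiftFunctor _ n).map (DerivedCategory.Q.map φ)) ≫
    (shiftFunctor _ n).map (R.mapDerivedCategoryFactors.hom.app K') =
    (homEquivSingle adj T _ n x ≫ (shiftFunctor _ n).map (R.mapDerivedCategoryFactors.hom.app K)) ≫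
      (shiftFunctor _ n).map (DerivedCategory.Q.map ((R.mapHomologicalComplex (ComplexShape.up ℤ)).map φ))
  rw [homEquivSingle_naturality, Category.assoc, Category.assoc, ← Functor.map_comp, ← Functor.map_comp]
  congr 2
  exact R.mapDerivedCategoryFactors.hom.naturality φ

variable {k : Type u₀} [Ring k]

/-- The transported action. -/
noncomputable abbrev mρ (R : A ⥤ B) [R.Additive] {K : CochainComplex A ℤ} (ρ : k →+* End K) : k →+* End (mc R K) :=
  (mapEnd (R.mapHomologicalComplex (ComplexShape.up ℤ)) K).comp ρ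

/-- Restriction, linearly. -/
noncomputable def resLin (T : B) {K : CochainComplex A ℤ} (ρ : k →+* End K) (n : ℤ) :
    HTρ (L.obj T) K ρ n ≃ₗ[k] HTρ T (mc R K) (mρ R ρ) n :=
  { (HTρ.toHT.trans (resEquiv adj T K n)).trans HTρ.toHT.symm with
    map_smul' := fun a x => resEquiv_naturality adj T (ρ a : K ⟶ K) n (HTρ.toHT x) }

end adj

section test

variable {A : Type u} [Category.{v} A] [Abelian A] [HasDerivedCategory.{w} A] {k : Type u₀} [Ring k]
  (K : CochainComplex A ℤ) (ρ : k →+* End K) (n : ℤ)

theorem pre_pre {T T' T'' : A} (g : T' ⟶ T) (g' : T'' ⟶ T') (x : HTρ T K ρ n) :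
    HTρpre g' K ρ n (HTρpre g K ρ n x) = HTρpre (g' ≫ g) K ρ n x := by
  change (DerivedCategory.singleFunctor A 0).map g' ≫ (DerivedCategory.singleFunctor A 0).map g ≫ HTρ.toHT x =
    (DerivedCategory.singleFunctor A 0).map (g' ≫ g) ≫ HTρ.toHT x
  rw [Functor.map_comp, Category.assoc]

theorem pre_id {T : A} (x : HTρ T K ρ n) : HTρpre (𝟙 T) K ρ n x = x := by
  change (DerivedCategory.singleFunctor A 0).map (𝟙 T) ≫ HTρ.toHT x = HTρ.toHT x
  rw [CategoryTheory.Functor.map_id, Category.id_comp]

theorem pre_zero {T T' : A} (x : HTρ T K ρ n) : HTρpre (0 : T' ⟶ T) K ρ n x = 0 := by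
  change (DerivedCategory.singleFunctor A 0).map (0 : T' ⟶ T) ≫ HTρ.toHT x = 0
  rw [Functor.map_zero, zero_comp]

theorem pre_add {T T' : A} (g g' : T' ⟶ T) (x : HTρ T K ρ n) :
    HTρpre (g + g') K ρ n x = HTρpre g K ρ n x + HTρpre g' K ρ n x := by
  change (DerivedCategory.singleFunctor A 0).map (g + g') ≫ HTρ.toHT x =
    (DerivedCategory.singleFunctor A 0).map g ≫ HTρ.toHT x + (DerivedCategory.singleFunctor A 0).map g' ≫ HTρ.toHT x
  rw [Functor.map_add, Preadditive.add_comp]

/-- Isomorphic test objects. -/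
noncomputable def preIso {T T' : A} (e : T' ≅ T) : HTρ T K ρ n ≃ₗ[k] HTρ T' K ρ n :=
  LinearEquiv.ofLinearMap (HTρpre e.hom K ρ n) (HTρpre e.inv K ρ n)
    (LinearMap.ext fun x => by
      rw [LinearMap.comp_apply, pre_pre, e.hom_inv_id, pre_id, LinearMap.id_apply])
    (LinearMap.ext fun x => by
      rw [LinearMap.comp_apply, pre_pre, e.inv_hom_id, pre_id, LinearMap.id_apply])

/-- **Additivity in the test object.** -/
noncomputable def preBiprod {T T₁ T₂ : A} (b : BinaryBicone T₁ T₂) (hT : b.pt = T)
    (hb : b.fst ≫ b.inl + b.snd ≫ b.inr = 𝟙 b.pt) :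
    HTρ T K ρ n ≃ₗ[k] HTρ T₁ K ρ n × HTρ T₂ K ρ n := by
  subst hT
  exact LinearEquiv.ofLinearMap ((HTρpre b.inl K ρ n).prod (HTρpre b.inr K ρ n))
    ((HTρpre b.fst K ρ n).coprod (HTρpre b.snd K ρ n))
    (LinearMap.ext fun x => by
      refine Prod.ext ?_ ?_
      · change HTρpre b.inl K ρ n (HTρpre b.fst K ρ n x.1 + HTρpre b.snd K ρ n x.2) = x.1
        rw [map_add, pre_pre, pre_pre, b.inl_fst, b.inl_snd, pre_id, pre_zero, add_zero]
      · change HTρpre b.inr K ρ n (HTρpre b.fst K ρ n x.1 + HTρpre b.snd K ρ n x.2) = x.2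
        rw [map_add, pre_pre, pre_pre, b.inr_fst, b.inr_snd, pre_id, pre_zero, zero_add])
    (LinearMap.ext fun x => by
      change HTρpre b.fst K ρ n (HTρpre b.inl K ρ n x) + HTρpre b.snd K ρ n (HTρpre b.inr K ρ n x) = x
      rw [pre_pre, pre_pre, ← pre_add, hb, pre_id])

/-- Isomorphic complexes. -/
noncomputable def mapIso (T : A) {K L : CochainComplex A ℤ} {ρ : k →+* End K} {ρ' : k →+* End L} (e : K ≅ L)
    (h : Commutes ρ ρ' e.hom) (n : ℤ) : HTρ T K ρ n ≃ₗ[k] HTρ T L ρ' n :=
  HTρequiv T e.hom h n

end test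

section extend

variable {A : Type u} [Category.{v} A] [Abelian A] {B : Type u'} [Category.{v'} B] [Abelian B]
  (F : A ⥤ B) [F.Additive] {ι ι' : Type*} {c : ComplexShape ι} {c' : ComplexShape ι'} (e : c.Embedding c')

open HomologicalComplex

/-- Degreewise comparison. -/
noncomputable def extX (K : HomologicalComplex A c) : ∀ (i : Option ι),
    F.obj (extend.X K i) ≅ extend.X ((F.mapHomologicalComplex c).obj K) i
  | some _ => Iso.refl _
  | none => F.mapZeroObject

theorem extX_d (K : HomologicalComplex A c) (i j : Option ι) :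
    (extX F K i).hom ≫ extend.d ((F.mapHomologicalComplex c).obj K) i j =
      F.map (extend.d K i j) ≫ (extX F K j).hom := by
  cases i with
  | none => exact (F.map_isZero (isZero_zero A)).eq_of_src _ _
  | some i =>
    cases j with
    | none => exact (isZero_zero B).eq_of_tgt _ _
    | some j => exact (Category.id_comp _).trans (Category.comp_id _).symm

/-- Extension commutes with additive functors. -/
noncomputable def extIso (K : HomologicalComplex A c) :
    (F.mapHomologicalComplex c').obj (K.extend e) ≅ ((F.mapHomologicalComplex c).obj K).extend e :=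
  HomologicalComplex.Hom.isoOfComponents (fun i => extX F K (e.r i)) fun i j _ => extX_d F K (e.r i) (e.r j)

theorem extX_map {K K' : HomologicalComplex A c} (φ : K ⟶ K') (i : Option ι) :
    (extX F K i).hom ≫ extend.mapX ((F.mapHomologicalComplex c).map φ) i = F.map (extend.mapX φ i) ≫ (extX F K' i).hom := by
  cases i with
  | none => exact (isZero_zero B).eq_of_tgt _ _
  | some i => exact (Category.id_comp _).trans (Category.comp_id _).symm

theorem extIso_naturality {K K' : HomologicalComplex A c} (φ : K ⟶ K') :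
    (F.mapHomologicalComplex c').map (extendMap φ e) ≫ (extIso F e K').hom =
      (extIso F e K).hom ≫ extendMap ((F.mapHomologicalComplex c).map φ) e :=
  HomologicalComplex.hom_ext _ _ fun i => (extX_map F φ (e.r i)).symm

end extend

section single

variable {A : Type u} [Category.{v} A] [Abelian A] {B : Type u'} [Category.{v'} B] [Abelian B]
  (F : A ⥤ B) [F.Additive] {k : Type u₀} [Ring k]

/-- The comparison of the graded pieces. -/
noncomputable def sgIso {K : CochainComplex A ℤ} {L : CochainComplex B ℤ} (e : mc F K ≅ L) (a : ℤ) :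
    mc F ((HomologicalComplex.single A (ComplexShape.up ℤ) a).obj (K.X a)) ≅
      (HomologicalComplex.single B (ComplexShape.up ℤ) a).obj (L.X a) :=
  (HomologicalComplex.singleMapHomologicalComplex F (ComplexShape.up ℤ) a).app (K.X a) ≪≫
    (HomologicalComplex.single B (ComplexShape.up ℤ) a).mapIso
      ((HomologicalComplex.eval B (ComplexShape.up ℤ) a).mapIso e)

theorem sgIso_commutes {K : CochainComplex A ℤ} {L : CochainComplex B ℤ} (e : mc F K ≅ L) (a : ℤ)
    (ρ : k →+* End K) (ρ' : k →+* End L) (h : Commutes (mρ F ρ) ρ' e.hom) :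
    Commutes (mρ F ((grEnd K a).comp ρ)) ((grEnd L a).comp ρ') (sgIso F e a).hom := by
  intro b
  have h1 := (HomologicalComplex.singleMapHomologicalComplex F (ComplexShape.up ℤ) a).hom.naturality
    (HomologicalComplex.Hom.f (A := K) (B := K) (ρ b) a)
  have h2 := congrArg (fun z => HomologicalComplex.Hom.f z a) (h b)
  have h3 := congrArg (fun z => (HomologicalComplex.single B (ComplexShape.up ℤ) a).map z) h2
  simp only [HomologicalComplex.comp_f, Functor.map_comp] at h3
  change (F.mapHomologicalComplex (ComplexShape.up ℤ)).map ((HomologicalComplex.single A (ComplexShape.up ℤ) a).map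
      (HomologicalComplex.Hom.f (A := K) (B := K) (ρ b) a)) ≫
      (HomologicalComplex.singleMapHomologicalComplex F (ComplexShape.up ℤ) a).hom.app (K.X a) ≫
        (HomologicalComplex.single B (ComplexShape.up ℤ) a).map (e.hom.f a) =
    ((HomologicalComplex.singleMapHomologicalComplex F (ComplexShape.up ℤ) a).hom.app (K.X a) ≫
        (HomologicalComplex.single B (ComplexShape.up ℤ) a).map (e.hom.f a)) ≫
      (HomologicalComplex.single B (ComplexShape.up ℤ) a).map (HomologicalComplex.Hom.f (A := L) (B := L) (ρ' b) a)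
  rw [← Category.assoc]
  refine (congrArg (fun z => z ≫ (HomologicalComplex.single B (ComplexShape.up ℤ) a).map (e.hom.f a)) h1).trans ?_
  refine (Category.assoc _ _ _).trans (Eq.trans ?_ (Category.assoc _ _ _).symm)
  exact congrArg (fun z => (HomologicalComplex.singleMapHomologicalComplex F (ComplexShape.up ℤ) a).hom.app (K.X a) ≫ z) h3

end single

end K905.ResHT
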