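import Groth.Agent.DelIll.K905.FinSch
import Groth.Agent.Krr.H495.ExtSemi
import Groth.Prelude.Def_CohTop

/-!
# Restriction of a de Rham complex to an open subscheme
-/

set_option autoImplicit false
universe w u

open CategoryTheory CategoryTheory.Limits AlgebraicGeometry Opposite TopologicalSpace exteriorPower
open Groth.Agent.Krr.H495.ExtSemi

namespace K905.RestrCx

section alg

variable {A B : Type*} [CommRing A] [CommRing B] {M N P : Type*} [AddCommGroup M] [Module A M] [AddCommGroup N] [Module B N]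

/-- Transport of exterior powers along a semilinear bijection. -/
noncomputable def extE (p : ℕ) (σ : A ≃+* B) (g : M ≃+ N) (hg : ∀ (a : A) (m : M), g (a • m) = σ a • g m) :
    ↥(⋀[A]^p M) ≃+ ↥(⋀[B]^p N) :=
  letI g1 : M →ₛₗ[(σ : A →+* B)] N := { g with map_smul' := hg }
  letI g2 : N →ₛₗ[(σ.symm : B →+* A)] M :=
    { g.symm with
      map_smul' := fun b n => by
        change g.symm (b • n) = σ.symm b • g.symm n
        rw [AddEquiv.symm_apply_eq, hg, AddEquiv.apply_symm_apply, RingEquiv.apply_symm_apply] }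
  haveI h1 : RingHomCompTriple (σ : A →+* B) (σ.symm : B →+* A) (RingHom.id A) :=
    ⟨RingHom.ext fun a => σ.symm_apply_apply a⟩
  haveI h2 : RingHomCompTriple (σ.symm : B →+* A) (σ : A →+* B) (RingHom.id B) :=
    ⟨RingHom.ext fun a => σ.apply_symm_apply a⟩
  { toFun := extS p g1
    invFun := extS p g2
    map_add' := map_add _
    left_inv := fun x => by
      have e1 : g2.comp g1 = (LinearMap.id : M →ₗ[A] M) := LinearMap.ext fun m => g.symm_apply_apply m
      rw [extS_extS, e1, extS_id]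
      rfl
    right_inv := fun x => by
      have e1 : g1.comp g2 = (LinearMap.id : N →ₗ[B] N) := LinearMap.ext fun m => g.apply_symm_apply m
      rw [extS_extS, e1, extS_id]
      rfl }

theorem extE_ιMulti (p : ℕ) (σ : A ≃+* B) (g : M ≃+ N) (hg : ∀ (a : A) (m : M), g (a • m) = σ a • g m) (m : Fin p → M) :
    extE p σ g hg (ιMulti A p m) = ιMulti B p (fun i => g (m i)) :=
  extS_ιMulti _ _ _

theorem extE_smul (p : ℕ) (σ : A ≃+* B) (g : M ≃+ N) (hg : ∀ (a : A) (m : M), g (a • m) = σ a • g m) (a : A)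
    (x : ↥(⋀[A]^p M)) : extE p σ g hg (a • x) = σ a • extE p σ g hg x :=
  map_smulₛₗ (extS p _) a x

end alg

variable {X S : Scheme.{u}} {f : X ⟶ S} {Ω' : X.Modules} {δ : OmegaSh.Der f Ω'} (D : DeRhamSh.Cx f Ω' δ) (U : X.Opens)

/-- The restricted derivation. -/
noncomputable abbrev der (δ : OmegaSh.Der f Ω') : OmegaSh.Der (U.ι ≫ f) (Ω'.restrict U.ι) :=
  K583.DerFunct.resDer (k := 𝟙 S) (j := U.ι) (Category.comp_id _) δ

/-- Image of an affine open. -/
noncomputable abbrev img (V : U.toScheme.affineOpens) : X.affineOpens := ⟨U.ι ''ᵁ V.1, V.2.image_of_isOpenImmersion U.ι⟩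

/-- The ring identification. -/
noncomputable def σ (V : U.toScheme.Opens) : Γ(X, U.ι ''ᵁ V) ≃+* Γ(U.toScheme, V) :=
  (U.ι.appIso V).commRingCatIsoToRingEquiv

/-- The identity on sections. -/
noncomputable def idE (M : X.Modules) (V : U.toScheme.affineOpens) : Γ(M, (img U V).1) ≃+ Γ(M.restrict U.ι, V.1) :=
  AddEquiv.refl Γ(M, (img U V).1)

theorem idE_smul (M : X.Modules) (V : U.toScheme.affineOpens) (a : Γ(X, (img U V).1)) (m : Γ(M, (img U V).1)) :
    idE U M V (a • m) = σ U V.1 a • idE U M V m := by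
  change a • m = (σ U V.1).symm (σ U V.1 a) • m
  rw [RingEquiv.symm_apply_apply]

theorem idE_symm_smul (M : X.Modules) (V : U.toScheme.affineOpens) (a : Γ(U.toScheme, V.1)) (m : Γ(M.restrict U.ι, V.1)) :
    (idE U M V).symm (a • m) = (σ U V.1).symm a • (idE U M V).symm m := rfl

/-- Local description. -/
noncomputable def loc (p : ℕ) (V : U.toScheme.affineOpens) :
    Γ((D.term p).restrict U.ι, V.1) ≃ₗ[Γ(U.toScheme, V.1)] ↥(⋀[Γ(U.toScheme, V.1)]^p Γ(Ω'.restrict U.ι, V.1)) :=
  { ((idE U (D.term p) V).symm.trans (D.loc p (img U V)).toAddEquiv).trans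
      (extE p (σ U V.1) (idE U Ω' V) (idE_smul U Ω' V)) with
    map_smul' := fun a x => by
      change extE p (σ U V.1) (idE U Ω' V) (idE_smul U Ω' V) (D.loc p (img U V) ((idE U (D.term p) V).symm (a • x))) =
        a • extE p (σ U V.1) (idE U Ω' V) (idE_smul U Ω' V) (D.loc p (img U V) ((idE U (D.term p) V).symm x))
      rw [idE_symm_smul, map_smul, extE_smul, RingEquiv.apply_symm_apply] }

theorem loc_symm (p : ℕ) (V : U.toScheme.affineOpens) (y) :
    (loc D U p V).symm (extE p (σ U V.1) (idE U Ω' V) (idE_smul U Ω' V) y) =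
      idE U (D.term p) V ((D.loc p (img U V)).symm y) := by
  rw [LinearEquiv.symm_apply_eq]
  change _ = extE p (σ U V.1) (idE U Ω' V) (idE_smul U Ω' V) (D.loc p (img U V) ((idE U (D.term p) V).symm
    (idE U (D.term p) V ((D.loc p (img U V)).symm y))))
  rw [AddEquiv.symm_apply_apply, LinearEquiv.apply_symm_apply]

theorem loc_symm_ιMulti (p : ℕ) (V : U.toScheme.affineOpens) (e : Fin p → Γ(Ω', (img U V).1)) :
    (loc D U p V).symm (ιMulti Γ(U.toScheme, V.1) p (fun i => idE U Ω' V (e i))) = idE U (D.term p) V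
      ((D.loc p (img U V)).symm (ιMulti Γ(X, (img U V).1) p e)) := by
  rw [← loc_symm, extE_ιMulti]

theorem loc_symm_smul (p : ℕ) (V : U.toScheme.affineOpens) (a : Γ(X, (img U V).1)) (e : Fin p → Γ(Ω', (img U V).1)) :
    (loc D U p V).symm (σ U V.1 a • ιMulti Γ(U.toScheme, V.1) p (fun i => idE U Ω' V (e i))) = idE U (D.term p) V
      ((D.loc p (img U V)).symm (a • ιMulti Γ(X, (img U V).1) p e)) := by
  rw [← loc_symm, extE_smul, extE_ιMulti]

/-- **The restricted complex.** -/
noncomputable def cx : DeRhamSh.Cx (U.ι ≫ f) (Ω'.restrict U.ι) (der U δ) where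
  K := ((CohTop.restrFunctor (X := X.toTopCat) U).mapHomologicalComplex _).obj D.K
  term p := (D.term p).restrict U.ι
  iso p := (CohTop.restrFunctor (X := X.toTopCat) U).mapIso (D.iso p)
  loc p V := loc D U p V
  loc_res p V W h e := by
    have h1 := D.loc_res p (img U V) (img U W) (U.ι.image_mono h) (fun i => (idE U Ω' V).symm (e i))
    have h2 := loc_symm_ιMulti D U p V (fun i => (idE U Ω' V).symm (e i))
    have h3 := loc_symm_ιMulti D U p W (fun i => Ω'.val.map (homOfLE (U.ι.image_mono h)).op ((idE U Ω' V).symm (e i)))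
    simp only [AddEquiv.apply_symm_apply] at h2
    rw [h2]
    refine Eq.trans ?_ h3.symm
    exact congrArg (idE U (D.term p) W) h1
  rule p V b₀ b := by
    have h1 := D.rule p (img U V) ((σ U V.1).symm b₀) (fun i => (σ U V.1).symm (b i))
    have h2 := loc_symm_smul D U p V ((σ U V.1).symm b₀) (fun i => δ.app (img U V).1 ((σ U V.1).symm (b i)))
    have h3 := loc_symm_ιMulti D U (p + 1) V (Fin.cons (δ.app (img U V).1 ((σ U V.1).symm b₀))
      (fun i => δ.app (img U V).1 ((σ U V.1).symm (b i))))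
    rw [RingEquiv.apply_symm_apply] at h2
    have h4 : (fun i => idE U Ω' V ((Fin.cons (δ.app (img U V).1 ((σ U V.1).symm b₀))
      (fun i => δ.app (img U V).1 ((σ U V.1).symm (b i))) : Fin (p + 1) → Γ(Ω', (img U V).1)) i)) =
      Fin.cons ((der U δ).app V.1 b₀) (fun i => (der U δ).app V.1 (b i)) := by
      funext j
      refine Fin.cases ?_ (fun j => ?_) j
      · rfl
      · rfl
    rw [h4] at h3
    refine (congrArg _ (congrArg _ h2)).trans (Eq.trans ?_ (congrArg _ h3.symm))
    exact h1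

end K905.RestrCx
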