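import Groth.Agent.DelIll.K905.Cross
import Mathlib.LinearAlgebra.Finsupp.LSum
import Mathlib.LinearAlgebra.Quotient.Basic
import Mathlib.LinearAlgebra.Prod

/-!
# The extension attached to a lifting modulo `p²`

For a ring homomorphism `θ : At → A` with `p = 0` in `A`, the `A`-module `TM p θ` generated by symbols `br a`
(`a ∈ At`) and `io s`, `s ∈ Fr p A` (`A` with `A` acting through Frobenius), with
`br (a + b) = br a + br b + io (((a + b) ^ p - a ^ p - b ^ p) / p)` and `br (a b) = θ a • br b + θ b • br a`.
-/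

set_option autoImplicit false

namespace K905.TotM

/-- `p = 0` in `A`. -/
class PZ (p : ℕ) (A : Type*) [CommRing A] : Prop where
  eq_zero : (p : A) = 0

theorem PZ.of_hom {p : ℕ} {A B : Type*} [CommRing A] [CommRing B] [PZ p A] (f : A →+* B) : PZ p B :=
  ⟨by rw [← map_natCast f, PZ.eq_zero, map_zero]⟩

section frob

variable (p : ℕ) [hp : Fact p.Prime] {A : Type*} [CommRing A] [PZ p A]

theorem add_pow_p (a b : A) : (a + b) ^ p = a ^ p + b ^ p := by
  rw [Cross.add_pow_eq hp.1, ← Nat.cast_smul_eq_nsmul A, PZ.eq_zero, zero_smul, add_zero]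

variable (A) in
/-- Frobenius. -/
def frob : A →+* A where
  toFun a := a ^ p
  map_one' := one_pow p
  map_mul' a b := mul_pow a b p
  map_zero' := zero_pow hp.1.ne_zero
  map_add' := add_pow_p p

@[simp] theorem frob_apply (a : A) : frob p A a = a ^ p := rfl

end frob

/-- `A`, to be acted on through Frobenius. -/
def Fr (_ : ℕ) (A : Type*) : Type _ := A

instance (p : ℕ) (A : Type*) [CommRing A] : AddCommGroup (Fr p A) := inferInstanceAs (AddCommGroup A)

section Fr

variable (p : ℕ) (A : Type*) [CommRing A]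

/-- The identity. -/
def toFr : A ≃+ Fr p A := AddEquiv.refl A

variable [hp : Fact p.Prime] [PZ p A]

instance : Module A (Fr p A) where
  smul c s := toFr p A (c ^ p * (toFr p A).symm s)
  one_smul s := by
    change toFr p A (1 ^ p * (toFr p A).symm s) = s
    rw [one_pow, one_mul, AddEquiv.apply_symm_apply]
  mul_smul c d s := by
    change toFr p A ((c * d) ^ p * (toFr p A).symm s) =
      toFr p A (c ^ p * (toFr p A).symm (toFr p A (d ^ p * (toFr p A).symm s)))
    rw [AddEquiv.symm_apply_apply, mul_pow, mul_assoc]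
  smul_zero c := by
    change toFr p A (c ^ p * (toFr p A).symm 0) = 0
    rw [map_zero, mul_zero, map_zero]
  smul_add c s t := by
    change toFr p A (c ^ p * (toFr p A).symm (s + t)) = toFr p A (c ^ p * (toFr p A).symm s) +
      toFr p A (c ^ p * (toFr p A).symm t)
    rw [map_add, mul_add, map_add]
  add_smul c d s := by
    change toFr p A ((c + d) ^ p * (toFr p A).symm s) = toFr p A (c ^ p * (toFr p A).symm s) +
      toFr p A (d ^ p * (toFr p A).symm s)
    rw [add_pow_p, add_mul, map_add]
  zero_smul s := by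
    change toFr p A (0 ^ p * (toFr p A).symm s) = 0
    rw [zero_pow hp.1.ne_zero, zero_mul, map_zero]

variable {A}

theorem smul_toFr (c s : A) : c • toFr p A s = toFr p A (c ^ p * s) := by
  change toFr p A (c ^ p * (toFr p A).symm (toFr p A s)) = _
  rw [AddEquiv.symm_apply_apply]

end Fr

/-! ### The module -/

section TM

variable (p : ℕ) [hp : Fact p.Prime] {At A : Type*} [CommRing At] [CommRing A] [PZ p A] (θ : At →+* A)

/-- The relations. -/
noncomputable def relM : Submodule A ((At →₀ A) × Fr p A) :=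
  Submodule.span A
    ({z | ∃ a b : At, z = (Finsupp.single (a + b) 1 - Finsupp.single a 1 - Finsupp.single b 1,
        -toFr p A (Cross.c p (θ a) (θ b)))} ∪
      {z | ∃ a b : At, z = (Finsupp.single (a * b) 1 - Finsupp.single b (θ a) - Finsupp.single a (θ b), 0)})

/-- The module. -/
def TM : Type _ := ((At →₀ A) × Fr p A) ⧸ relM p θ

noncomputable instance : AddCommGroup (TM p θ) := inferInstanceAs (AddCommGroup (((At →₀ A) × Fr p A) ⧸ relM p θ))
noncomputable instance : Module A (TM p θ) := inferInstanceAs (Module A (((At →₀ A) × Fr p A) ⧸ relM p θ))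

/-- The projection. -/
noncomputable def prj : ((At →₀ A) × Fr p A) →ₗ[A] TM p θ := (relM p θ).mkQ

theorem prj_surjective : Function.Surjective (prj p θ) := (relM p θ).mkQ_surjective

/-- The symbols. -/
noncomputable def br (a : At) : TM p θ := prj p θ (Finsupp.single a 1, 0)

/-- The submodule. -/
noncomputable def io : Fr p A →ₗ[A] TM p θ := (prj p θ).comp (LinearMap.inr A (At →₀ A) (Fr p A))

theorem prj_single (a : At) (c : A) : prj p θ (Finsupp.single a c, 0) = c • br p θ a := by
  rw [br, ← map_smul, Prod.smul_mk, smul_zero, Finsupp.smul_single, smul_eq_mul, mul_one]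

theorem prj_inr (s : Fr p A) : prj p θ (0, s) = io p θ s := rfl

theorem prj_eq_zero {z : (At →₀ A) × Fr p A} (hz : z ∈ relM p θ) : prj p θ z = 0 :=
  (Submodule.Quotient.mk_eq_zero _).2 hz

theorem br_add (a b : At) : br p θ (a + b) = br p θ a + br p θ b + io p θ (toFr p A (Cross.c p (θ a) (θ b))) := by
  have h := prj_eq_zero p θ (Submodule.subset_span (Or.inl ⟨a, b, rfl⟩))
  have h2 : (Finsupp.single (a + b) (1 : A) - Finsupp.single a 1 - Finsupp.single b 1,
      -toFr p A (Cross.c p (θ a) (θ b))) =
      (Finsupp.single (a + b) (1 : A), (0 : Fr p A)) - (Finsupp.single a 1, 0) - (Finsupp.single b 1, 0) -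
        (0, toFr p A (Cross.c p (θ a) (θ b))) := by
    ext <;> simp
  rw [h2, map_sub, map_sub, map_sub, prj_inr] at h
  change br p θ (a + b) - br p θ a - br p θ b - _ = 0 at h
  rw [sub_eq_zero, sub_eq_iff_eq_add, sub_eq_iff_eq_add] at h
  rw [h]
  abel

theorem br_mul (a b : At) : br p θ (a * b) = θ a • br p θ b + θ b • br p θ a := by
  have h := prj_eq_zero p θ (Submodule.subset_span (Or.inr ⟨a, b, rfl⟩))
  have h2 : (Finsupp.single (a * b) (1 : A) - Finsupp.single b (θ a) - Finsupp.single a (θ b), (0 : Fr p A)) =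
      (Finsupp.single (a * b) (1 : A), (0 : Fr p A)) - (Finsupp.single b (θ a), 0) - (Finsupp.single a (θ b), 0) := by
    ext <;> simp
  rw [h2, map_sub, map_sub, prj_single, prj_single, prj_single, one_smul] at h
  rw [sub_eq_zero, sub_eq_iff_eq_add] at h
  rw [h, add_comm]

/-- Induction. -/
theorem induction {P : TM p θ → Prop} (h1 : ∀ (c : A) (a : At), P (c • br p θ a)) (h2 : ∀ s, P (io p θ s))
    (hadd : ∀ x y, P x → P y → P (x + y)) (m : TM p θ) : P m := by
  obtain ⟨⟨f, s⟩, rfl⟩ := prj_surjective p θ m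
  have h : (f, s) = (f, 0) + ((0, s) : (At →₀ A) × Fr p A) := by simp
  rw [h, map_add]
  refine hadd _ _ ?_ (h2 s)
  have h0 : P 0 := by
    have := h2 0
    rwa [map_zero] at this
  induction f using Finsupp.induction_linear with
  | zero => exact (map_zero (prj p θ)).symm ▸ h0
  | add f g hf hg =>
    have h3 : (f + g, 0) = (f, 0) + ((g, 0) : (At →₀ A) × Fr p A) := by simp
    rw [h3, map_add]
    exact hadd _ _ (hf (by simp)) (hg (by simp))
  | single a c => rw [prj_single]; exact h1 c a

section lift

variable {R' N : Type*} [CommRing R'] [AddCommGroup N] [Module R' N] (σ : A →+* R') (g : At → N) (s : Fr p A →+ N)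
  (hs : ∀ (c : A) x, s (c • x) = σ c • s x)
  (h1 : ∀ a b, g (a + b) = g a + g b + s (toFr p A (Cross.c p (θ a) (θ b))))
  (h2 : ∀ a b, g (a * b) = σ (θ a) • g b + σ (θ b) • g a)

/-- The semilinear map on the free module. -/
noncomputable def lift₀ : ((At →₀ A) × Fr p A) →ₛₗ[σ] N where
  toFun z := z.1.sum (fun a c => σ c • g a) + s z.2
  map_add' z w := by
    rw [Prod.fst_add, Prod.snd_add, map_add, Finsupp.sum_add_index' (by simp) (by simp [add_smul])]
    abel
  map_smul' c z := by
    rw [Prod.smul_fst, Prod.smul_snd, hs, Finsupp.sum_smul_index (by simp), smul_add, Finsupp.smul_sum]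
    simp only [map_mul, mul_smul]

/-- The universal property, semilinear form. -/
noncomputable def lift : TM p θ →ₛₗ[σ] N :=
  (relM p θ).liftQ (lift₀ p σ g s hs) (by
    rw [relM, Submodule.span_le]
    rintro z (⟨a, b, rfl⟩ | ⟨a, b, rfl⟩)
    · rw [SetLike.mem_coe, LinearMap.mem_ker]
      change (Finsupp.single (a + b) (1 : A) - Finsupp.single a 1 - Finsupp.single b 1).sum (fun a c => σ c • g a) +
        s (-toFr p A (Cross.c p (θ a) (θ b))) = 0
      rw [Finsupp.sum_sub_index (by simp [sub_smul]), Finsupp.sum_sub_index (by simp [sub_smul]),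
        Finsupp.sum_single_index (by simp), Finsupp.sum_single_index (by simp), Finsupp.sum_single_index (by simp),
        map_one, one_smul, one_smul, one_smul, h1, map_neg]
      abel
    · rw [SetLike.mem_coe, LinearMap.mem_ker]
      change (Finsupp.single (a * b) (1 : A) - Finsupp.single b (θ a) - Finsupp.single a (θ b)).sum
        (fun a c => σ c • g a) + s 0 = 0
      rw [Finsupp.sum_sub_index (by simp [sub_smul]), Finsupp.sum_sub_index (by simp [sub_smul]),
        Finsupp.sum_single_index (by simp), Finsupp.sum_single_index (by simp), Finsupp.sum_single_index (by simp),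
        map_one, one_smul, h2, map_zero]
      abel)

@[simp]
theorem lift_br (a : At) : lift p θ σ g s hs h1 h2 (br p θ a) = g a := by
  change (Finsupp.single a (1 : A)).sum (fun a c => σ c • g a) + s 0 = g a
  rw [Finsupp.sum_single_index (by simp), map_one, one_smul, map_zero, add_zero]

@[simp]
theorem lift_io (x : Fr p A) : lift p θ σ g s hs h1 h2 (io p θ x) = s x := by
  change (0 : At →₀ A).sum (fun a c => σ c • g a) + s x = s x
  rw [Finsupp.sum_zero_index, zero_add]

end lift

theorem hom_ext {R' N : Type*} [CommRing R'] [AddCommGroup N] [Module R' N] {f g : TM p θ →+ N} (σ : A →+* R')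
    (hf : ∀ (c : A) m, f (c • m) = σ c • f m) (hg : ∀ (c : A) m, g (c • m) = σ c • g m)
    (h1 : ∀ a, f (br p θ a) = g (br p θ a)) (h2 : ∀ s, f (io p θ s) = g (io p θ s)) (m : TM p θ) : f m = g m := by
  induction m using induction with
  | h1 c a => rw [hf, hg, h1]
  | h2 s => exact h2 s
  | hadd x y hx hy => rw [map_add, map_add, hx, hy]

/-! ### Functoriality -/

variable {Bt B : Type*} [CommRing Bt] [CommRing B] [PZ p B] (θ' : Bt →+* B) (ft : At →+* Bt) (f : A →+* B)
  (hf : ∀ a, θ' (ft a) = f (θ a))

/-- The map `Fr p A → Fr p B`. -/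
def frMap : Fr p A →+ Fr p B := f.toAddMonoidHom

omit hp [PZ p A] [PZ p B] in
@[simp] theorem frMap_toFr (s : A) : frMap p f (toFr p A s) = toFr p B (f s) := rfl

theorem frMap_smul (c : A) (x : Fr p A) : frMap p f (c • x) = f c • frMap p f x := by
  obtain ⟨s, rfl⟩ := (toFr p A).surjective x
  rw [smul_toFr, frMap_toFr, frMap_toFr, smul_toFr, map_mul, map_pow]

include hf in
/-- Functoriality. -/
noncomputable def mapM : TM p θ →ₛₗ[f] TM p θ' :=
  lift p θ f (fun a => br p θ' (ft a)) ((io p θ').toAddMonoidHom.comp (frMap p f))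
    (fun c x => by
      change io p θ' (frMap p f (c • x)) = f c • io p θ' (frMap p f x)
      rw [frMap_smul, map_smul])
    (fun a b => by
      change br p θ' (ft (a + b)) = _ + io p θ' (frMap p f _)
      rw [map_add, br_add, frMap_toFr, Cross.map_c, hf, hf])
    (fun a b => by rw [map_mul, br_mul, hf, hf])

@[simp]
theorem mapM_br (a : At) : mapM p θ θ' ft f hf (br p θ a) = br p θ' (ft a) := lift_br _ _ _ _ _ _ _ _ _

@[simp]
theorem mapM_io (x : Fr p A) : mapM p θ θ' ft f hf (io p θ x) = io p θ' (frMap p f x) := lift_io _ _ _ _ _ _ _ _ _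

theorem mapM_smul (c : A) (m : TM p θ) : mapM p θ θ' ft f hf (c • m) = f c • mapM p θ θ' ft f hf m :=
  LinearMap.map_smulₛₗ _ c m

end TM

end K905.TotM
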