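import Groth.Agent.DelIll.K905.TotPhi
import Groth.Agent.DelIll.K904.LocalCartier

/-!
# Splitting of the extension by a Frobenius lifting; local exactness
-/

set_option autoImplicit false
set_option linter.unusedSectionVars false

open ExteriorAlgebra K904 K905.TotM K905.TotPhi Module

namespace K905.TotSplit

variable (p : ℕ) [hp : Fact p.Prime] {At A : Type*} [CommRing At] [CommRing A] [PZ p A] (θ : At →+* A)

/-- A Frobenius lifting on a lifting modulo `p²`. -/
structure FrobLift (F : At →+* At) : Prop where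
  surj : Function.Surjective θ
  ker : ∀ a, θ a = 0 → ∃ b, a = p • b
  tor : ∀ b : At, p • b = 0 → θ b = 0
  frob : ∀ a, θ (F a) = θ a ^ p

variable {p θ} {F : At →+* At} (h : FrobLift p θ F)

namespace FrobLift

include h in
theorem exists_δ (a : At) : ∃ b, F a = a ^ p + p • b := by
  obtain ⟨b, hb⟩ := h.ker (F a - a ^ p) (by rw [map_sub, h.frob, map_pow, sub_self])
  exact ⟨b, by rw [← hb]; ring⟩

/-- The `p`-derivation, reduced modulo `p`. -/
noncomputable def δ (a : At) : A := θ (h.exists_δ a).choose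

theorem δ_eq {a b : At} (hab : F a = a ^ p + p • b) : h.δ a = θ b := by
  have h1 := (h.exists_δ a).choose_spec
  have h2 : p • ((h.exists_δ a).choose - b) = 0 := by
    rw [smul_sub, sub_eq_zero]
    exact add_left_cancel (h1.symm.trans hab)
  have h3 := h.tor _ h2
  rw [map_sub, sub_eq_zero] at h3
  exact h3

/-- The retraction. -/
noncomputable def ρ : TM p θ →ₗ[A] Fr p A :=
  lift p θ (RingHom.id A) (fun a => -toFr p A (h.δ a)) (AddMonoidHom.id _) (fun _ _ => rfl)
    (fun a b => by
      obtain ⟨x, hx⟩ := h.exists_δ a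
      obtain ⟨y, hy⟩ := h.exists_δ b
      have hxy : F (a + b) = (a + b) ^ p + p • (x + y - Cross.c p a b) := by
        rw [map_add, hx, hy, Cross.add_pow_eq hp.1, smul_sub, smul_add]
        ring
      rw [h.δ_eq hx, h.δ_eq hy, h.δ_eq hxy, map_sub, map_add, Cross.map_c, map_sub, map_add, AddMonoidHom.id_apply]
      abel)
    (fun a b => by
      obtain ⟨x, hx⟩ := h.exists_δ a
      obtain ⟨y, hy⟩ := h.exists_δ b
      have hxy : F (a * b) = (a * b) ^ p + p • (a ^ p * y + b ^ p * x + p • (x * y)) := by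
        rw [map_mul, hx, hy]
        simp only [nsmul_eq_mul]
        ring
      have h3 : θ (a ^ p * y + b ^ p * x + p • (x * y)) = θ a ^ p * θ y + θ b ^ p * θ x := by
        rw [map_add, map_add, map_mul, map_mul, map_nsmul, map_pow, map_pow,
          ← Nat.cast_smul_eq_nsmul A, PZ.eq_zero, zero_smul, add_zero]
      rw [h.δ_eq hx, h.δ_eq hy, h.δ_eq hxy, h3, RingHom.id_apply, RingHom.id_apply, smul_neg, smul_neg,
        smul_toFr, smul_toFr, map_add]
      abel)

theorem ρ_io (s : Fr p A) : FrobLift.ρ h (io p θ s) = s := lift_io _ _ _ _ _ _ _ _ _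

end FrobLift

/-! ### Spanning -/

/-- The quotient by `io`. -/
abbrev Qt (p : ℕ) [Fact p.Prime] [PZ p A] (θ : At →+* A) : Type _ := TM p θ ⧸ LinearMap.range (io p θ)

include h in
theorem br_p (b : At) : br p θ (p • b) ∈ LinearMap.range (io p θ) := by
  have hgen : ∀ n : ℕ, br p θ (n • b) - n • br p θ b ∈ LinearMap.range (io p θ) := by
    intro n
    induction n with
    | zero =>
      rw [zero_smul, zero_smul, sub_zero]
      have h0 := br_add p θ 0 0
      rw [add_zero] at h0
      have h1 : br p θ 0 = -io p θ (toFr p A (Cross.c p (θ 0) (θ 0))) := by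
        rw [add_assoc, left_eq_add] at h0
        exact eq_neg_of_add_eq_zero_left h0
      rw [h1]
      exact Submodule.neg_mem _ ⟨_, rfl⟩
    | succ n ih =>
      rw [succ_nsmul, succ_nsmul, br_add]
      have : br p θ (n • b) + br p θ b + io p θ (toFr p A (Cross.c p (θ (n • b)) (θ b))) - (n • br p θ b + br p θ b) =
          (br p θ (n • b) - n • br p θ b) + io p θ (toFr p A (Cross.c p (θ (n • b)) (θ b))) := by abel
      rw [this]
      exact Submodule.add_mem _ ih ⟨_, rfl⟩
  have h1 := hgen p
  rwa [← Nat.cast_smul_eq_nsmul A p (br p θ b), PZ.eq_zero, zero_smul, sub_zero] at h1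

include h in
theorem br_congr {a b : At} (hab : θ a = θ b) : br p θ a - br p θ b ∈ LinearMap.range (io p θ) := by
  obtain ⟨x, hx⟩ := h.ker (a - b) (by rw [map_sub, hab, sub_self])
  have ha : a = b + p • x := by rw [← hx]; ring
  rw [ha, br_add, add_sub_right_comm, add_sub_cancel_left]
  exact Submodule.add_mem _ (br_p h x) ⟨_, rfl⟩

include h in
/-- `TM` modulo `io` is generated by the symbols of `x` as soon as the universal `L` is generated by `δ x`.  Here
universality is expressed by the existence of linear maps. -/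
theorem exists_desc {L : Type*} [AddCommGroup L] [Module A L] (δ : A →+ L)
    (huniv : ∀ D : A →+ Qt p θ, (∀ a b, D (a * b) = a • D b + b • D a) → ∃ T : L →ₗ[A] Qt p θ, ∀ a, T (δ a) = D a) :
    ∃ T : L →ₗ[A] Qt p θ, ∀ a : At, T (δ (θ a)) = Submodule.Quotient.mk (br p θ a) := by
  let g : A → Qt p θ := fun a => Submodule.Quotient.mk (br p θ (h.surj a).choose)
  have hg : ∀ a : At, g (θ a) = Submodule.Quotient.mk (br p θ a) := fun a => by
    refine (Submodule.Quotient.eq _).2 (br_congr h ?_)
    exact (h.surj (θ a)).choose_spec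
  have hadd : ∀ a b, g (a + b) = g a + g b := by
    intro a b
    obtain ⟨a, rfl⟩ := h.surj a
    obtain ⟨b, rfl⟩ := h.surj b
    rw [← map_add, hg, hg, hg, br_add]
    refine (Submodule.Quotient.eq _).2 ?_
    change br p θ a + br p θ b + _ - (br p θ a + br p θ b) ∈ _
    rw [add_sub_cancel_left]
    exact ⟨_, rfl⟩
  obtain ⟨T, hT⟩ := huniv (AddMonoidHom.mk' g hadd) (by
    intro a b
    obtain ⟨a, rfl⟩ := h.surj a
    obtain ⟨b, rfl⟩ := h.surj b
    change g (θ a * θ b) = θ a • g (θ b) + θ b • g (θ a)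
    rw [← map_mul, hg, hg, hg, br_mul]
    rfl)
  exact ⟨T, fun a => (hT _).trans (hg a)⟩

section proj

variable {L : Type*} [AddCommGroup L] [Module A L] (δ : A →+ L) (hδ : ∀ a b, δ (a * b) = a • δ b + b • δ a)

variable (p θ) in
/-- The projection `TM p θ → L`. -/
noncomputable def π : TM p θ →ₗ[A] L :=
  lift p θ (RingHom.id A) (fun a => δ (θ a)) 0 (fun _ _ => by simp) (fun a b => by simp)
    (fun a b => by rw [map_mul, hδ]; rfl)

@[simp] theorem π_br (a : At) : π p θ δ hδ (br p θ a) = δ (θ a) := lift_br _ _ _ _ _ _ _ _ _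
@[simp] theorem π_io (s : Fr p A) : π p θ δ hδ (io p θ s) = 0 := lift_io _ _ _ _ _ _ _ _ _

variable {J : Type*} (e : Basis J A L) (xt : J → At) (hx : ∀ j, e j = δ (θ (xt j)))

variable (p θ) in
/-- A section of `π`. -/
noncomputable def σ : L →ₗ[A] TM p θ := e.constr A (fun j => br p θ (xt j))

theorem σ_e (j : J) : σ p θ e xt (e j) = br p θ (xt j) := e.constr_basis A _ j

include h hx in
/-- The symbols of a generating family generate modulo `io`. -/
theorem sub_mem
    (huniv : ∀ D : A →+ Qt p θ, (∀ a b, D (a * b) = a • D b + b • D a) → ∃ T : L →ₗ[A] Qt p θ, ∀ a, T (δ a) = D a)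
    (m : TM p θ) : m - σ p θ e xt (π p θ δ hδ m) ∈ LinearMap.range (io p θ) := by
  obtain ⟨T, hT⟩ := exists_desc h δ huniv
  have hm : (Submodule.mkQ (LinearMap.range (io p θ))).comp (σ p θ e xt) = T := by
    refine e.ext fun j => ?_
    rw [LinearMap.comp_apply, σ_e, hx, hT]
    rfl
  induction m using TotM.induction with
  | h1 c a =>
    rw [map_smul, map_smul, ← smul_sub]
    refine Submodule.smul_mem _ _ ?_
    rw [π_br]
    exact (Submodule.Quotient.eq _).1 ((hT a).symm.trans (LinearMap.congr_fun hm _).symm)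
  | h2 s => rw [π_io, map_zero, sub_zero]; exact ⟨s, rfl⟩
  | hadd x y hx hy =>
    have : x + y - σ p θ e xt (π p θ δ hδ (x + y)) =
        (x - σ p θ e xt (π p θ δ hδ x)) + (y - σ p θ e xt (π p θ δ hδ y)) := by rw [map_add, map_add]; abel
    rw [this]
    exact Submodule.add_mem _ hx hy

end proj

end K905.TotSplit
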